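import Mathlib
import Cfsg.Agent.Lib.Helper9.LocalAut
import Cfsg.Agent.Lib.Helper9.AutIndex
import Cfsg.Agent.Lib.Helper9.AutChain
import Cfsg.Agent.Lib.Helper16.NilAction

/-!
# Generic local-analysis lemmas used for the wreathed Sylow 2-subgroup block
-/

set_option autoImplicit false

namespace Cfsg.Agent.Lib.Helper9.WrLocal

variable {G : Type*} [Group G]

/-- if all odd-order elements of `N` lie in `M`, then `|N : M|` is a power of two -/
theorem relIndex_eq_two_pow_of_odd_mem [Finite G] (M N : Subgroup G)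
    (h : ∀ g ∈ N, Odd (orderOf g) → g ∈ M) : ∃ j : ℕ, M.relIndex N = 2 ^ j := by
  rcases Nat.eq_two_pow_or_exists_odd_prime_and_dvd (M.relIndex N) with ⟨j, hj⟩ | ⟨q, hq, hqd, hodd⟩
  · exact ⟨j, hj⟩
  · exfalso
    have : Fact q.Prime := ⟨hq⟩
    obtain ⟨g, hgN, ⟨k, hk⟩, hgM⟩ :=
      Cfsg.Agent.Lib.Helper9.exists_prime_pow_not_mem_of_dvd_relIndex M N hqd
    exact hgM (h g hgN (by rw [hk]; exact hodd.pow))

/-- monotonicity of the relative index in the second argument, for a normal first argument -/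
theorem relIndex_dvd_relIndex_of_le_of_normal (H K L : Subgroup G) (hKL : K ≤ L)
    (hn : (H.subgroupOf L).Normal) : H.relIndex K ∣ H.relIndex L := by
  have := Subgroup.relIndex_dvd_index_of_normal (H.subgroupOf L) (K.subgroupOf L)
  rwa [Subgroup.relIndex_subgroupOf hKL] at this

/-- arithmetic: a number `2 ^ j * d` with `d ∣ 6`, even and not divisible by four, is 2 or 6 -/
theorem two_or_six_of_factor {r j d : ℕ} (hr : r = 2 ^ j * d) (hd : d ∣ 6) (h2 : 2 ∣ r)
    (h4 : ¬ 4 ∣ r) : r = 2 ∨ r = 6 := by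
  have hdle : d ≤ 6 := Nat.le_of_dvd (by norm_num) hd
  have hj : j < 2 := by
    by_contra hj
    push Not at hj
    apply h4
    rw [hr]
    exact Dvd.dvd.mul_right (pow_dvd_pow 2 hj) d
  interval_cases j <;> interval_cases d <;> omega

/-- coprime action on an abelian `p`-group: trivial on `Ω₁` implies trivial -/
theorem centralizes_of_centralizes_omega {p : ℕ} [Fact p.Prime] (P : Subgroup G)
    (hcomm : ∀ a ∈ P, ∀ b ∈ P, a * b = b * a) (e : ℕ) (hexp : ∀ a ∈ P, a ^ (p ^ e) = 1)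
    (g : G) (hg : g ∈ Subgroup.normalizer (P : Set G)) (hcop : (orderOf g).Coprime p)
    (hΩ : ∀ a ∈ P, a ^ p = 1 → g * a * g⁻¹ = a) : ∀ a ∈ P, g * a = a * g := by
  have hP : IsPGroup p P := fun a => ⟨e, Subtype.ext (by simpa using hexp a a.2)⟩
  let D : ℕ → Subgroup G := fun i =>
    { carrier := {u | u ∈ P ∧ u ^ (p ^ (e - i)) = 1}
      one_mem' := ⟨P.one_mem, one_pow _⟩
      mul_mem' := by
        rintro a b ⟨ha, ha'⟩ ⟨hb, hb'⟩
        refine ⟨P.mul_mem ha hb, ?_⟩
        rw [(show Commute a b from hcomm a ha b hb).mul_pow, ha', hb', one_mul]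
      inv_mem' := by
        rintro a ⟨ha, ha'⟩
        exact ⟨P.inv_mem ha, by rw [inv_pow, ha', inv_one]⟩ }
  have hD : ∀ i u, u ∈ D i ↔ u ∈ P ∧ u ^ (p ^ (e - i)) = 1 := fun i u => Iff.rfl
  apply Cfsg.Agent.Lib.Helper16.centralizes_of_chain P hP D e ?_ ?_ ?_ g hcop ?_
  · ext u
    rw [hD]
    constructor
    · rintro ⟨hu, -⟩; exact hu
    · intro hu; exact ⟨hu, by simpa using hexp u hu⟩
  · ext u
    rw [Subgroup.mem_bot, hD]
    constructor
    · rintro ⟨-, hu⟩; simpa using hu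
    · rintro rfl; exact ⟨P.one_mem, one_pow _⟩
  · intro i u hu; exact ((hD i u).mp hu).1
  · intro i r hr0
    obtain ⟨hr, hr'⟩ := (hD i r).mp hr0
    have hgr : g * r * g⁻¹ ∈ P := (Subgroup.mem_normalizer_iff.mp hg r).mp hr
    have e1 : r⁻¹ * g * r * g⁻¹ = r⁻¹ * (g * r * g⁻¹) := by group
    rw [e1, hD]
    refine ⟨P.mul_mem (P.inv_mem hr) hgr, ?_⟩
    rw [(show Commute r⁻¹ (g * r * g⁻¹) from hcomm _ (P.inv_mem hr) _ hgr).mul_pow]
    by_cases hi : i < e
    · have hpe : p ^ (e - i) = p ^ (e - (i + 1)) * p := by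
        rw [← pow_succ]; congr 1; omega
      have htP : r ^ (p ^ (e - (i + 1))) ∈ P := P.pow_mem hr _
      have htp : (r ^ (p ^ (e - (i + 1)))) ^ p = 1 := by rw [← pow_mul, ← hpe]; exact hr'
      have := hΩ _ htP htp
      rw [inv_pow, conj_pow, this, inv_mul_cancel]
    · have h0 : e - i = 0 := by omega
      rw [h0, pow_zero, pow_one] at hr'
      subst hr'
      simp

/-- an odd-order element normalizing a cyclic 2-group centralizes it -/
theorem conj_eq_of_mem_zpowers {g c : G} {k : ℕ} (hc : orderOf c = 2 ^ k) (hodd : Odd (orderOf g))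
    (hgc : g * c * g⁻¹ ∈ Subgroup.zpowers c) : g * c * g⁻¹ = c := by
  rcases Nat.eq_zero_or_pos k with rfl | hk
  · rw [pow_zero, orderOf_eq_one_iff] at hc
    subst hc
    simp
  have h1 := Cfsg.Agent.Lib.Helper9.AutChain.pow_fix_of_cyclic (MulAut.conj g) c k hk hc
    (by simpa [MulAut.conj_apply] using hgc)
  rw [← map_pow, MulAut.conj_apply] at h1
  have hcop : Nat.Coprime (2 ^ (k - 1)) (orderOf g) :=
    Nat.Coprime.pow_left _ (Nat.coprime_two_left.mpr hodd)
  obtain ⟨m, hm⟩ := exists_pow_eq_self_of_coprime hcop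
  have h2 : Commute (g ^ 2 ^ (k - 1)) c := by
    rw [commute_iff_eq]
    calc g ^ 2 ^ (k - 1) * c = (g ^ 2 ^ (k - 1) * c * (g ^ 2 ^ (k - 1))⁻¹) * g ^ 2 ^ (k - 1) := by
          group
      _ = c * g ^ 2 ^ (k - 1) := by rw [h1]
  have h3 : Commute g c := by
    rw [← hm]
    exact h2.pow_left m
  rw [h3.eq, mul_inv_cancel_right]

end Cfsg.Agent.Lib.Helper9.WrLocal

namespace Cfsg.Agent.Lib.Helper9.WrLocal

variable {G : Type*} [Group G]

/-- the order of a subgroup times its relative index -/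
theorem relIndex_mul_card_of_le {H K : Subgroup G} (h : H ≤ K) :
    H.relIndex K * Nat.card H = Nat.card K := by
  have h1 := (H.subgroupOf K).index_mul_card
  rwa [Nat.card_congr (Subgroup.subgroupOfEquivOfLe h).toEquiv] at h1

/-- if `M` contains a subgroup of order `2 ^ m` and `2 ^ (m + 2)` does not divide `|N|`, then
`4 ∤ |N : M|` -/
theorem not_four_dvd_relIndex [Finite G] {m : ℕ} (M N X : Subgroup G) (hMN : M ≤ N) (hXM : X ≤ M)
    (hX : Nat.card X = 2 ^ m) (hN : ¬ 2 ^ (m + 2) ∣ Nat.card N) : ¬ 4 ∣ M.relIndex N := by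
  intro h4
  apply hN
  rw [← relIndex_mul_card_of_le hMN, pow_add, mul_comm]
  apply Nat.mul_dvd_mul h4
  rw [← hX]
  exact Subgroup.card_dvd_of_le hXM

/-- the exponent of two in `|G|` is read off a Sylow 2-subgroup -/
theorem le_of_two_pow_dvd_card [Finite G] (S : Sylow 2 G) {m : ℕ} (hm : Nat.card S = 2 ^ m) {k : ℕ}
    (hk : 2 ^ k ∣ Nat.card G) : k ≤ m := by
  have h1 := S.card_eq_multiplicity
  rw [hm] at h1
  have h2 := Nat.pow_right_injective (le_refl 2) h1
  rw [h2]
  exact (Nat.Prime.pow_dvd_iff_le_factorization Nat.prime_two Nat.card_pos.ne').mp hk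

end Cfsg.Agent.Lib.Helper9.WrLocal
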