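import Mathlib
import Cfsg.Prelude.Def_CaseTheorems
import Cfsg.Agent.Lib.Helper9.QD.Arith

set_option autoImplicit false

/-!
# Coordinates in a wreathed 2-group `Z_{2^n} ≀ Z_2`
-/

namespace Cfsg.Agent.Lib.Helper9.Wr

open Cfsg.Agent.Lib.Helper9.QD (Mz Kz)

variable {S : Type*} [Group S] {n : ℕ} {x y z : S}

/-- data of a wreathed group -/
structure WrData (S : Type*) [Group S] (n : ℕ) (x y z : S) : Prop where
  hn : 2 ≤ n
  card : Nat.card S = 2 ^ (2 * n + 1)
  ox : orderOf x = 2 ^ n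
  comm : x * y = y * x
  disj : Subgroup.zpowers x ⊓ Subgroup.zpowers y = ⊥
  oz : orderOf z = 2
  rel : z * x * z⁻¹ = y

theorem exists_wrData (hS : Cfsg.IsWreathed S) : ∃ (n : ℕ) (x y z : S), WrData S n x y z := by
  obtain ⟨n, hn, hc, x, y, z, hx, hxy, hd, hz, hr⟩ := hS
  exact ⟨n, x, y, z, ⟨hn, hc, hx, hxy, hd, hz, hr⟩⟩

/-- powers indexed by `ZMod (2^n)` -/
def P (x : S) (a : ZMod (2 ^ n)) : S := x ^ a.val

/-- elements of the base group -/
def W (x y : S) (a b : ZMod (2 ^ n)) : S := P x a * P y b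

/-- elements outside the base group -/
def ZW (x y z : S) (a b : ZMod (2 ^ n)) : S := W x y a b * z

theorem ZW_def (x y z : S) (a b : ZMod (2 ^ n)) : ZW x y z a b = W x y a b * z := rfl

section Cyc

variable {u : S} (hu : orderOf u = 2 ^ n)
include hu

theorem P_natCast (k : ℕ) : P u ((k : ℕ) : ZMod (2 ^ n)) = u ^ k := by
  unfold P
  rw [ZMod.val_natCast]
  have := pow_mod_orderOf u k
  rw [hu] at this
  exact this

omit hu in
theorem P_zero : P u (0 : ZMod (2 ^ n)) = 1 := by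
  unfold P; rw [ZMod.val_zero, pow_zero]

theorem P_one : P u (1 : ZMod (2 ^ n)) = u := by
  have := P_natCast hu 1
  simpa using this

theorem P_add (i j : ZMod (2 ^ n)) : P u (i + j) = P u i * P u j := by
  unfold P
  rw [ZMod.val_add, ← pow_add]
  have := pow_mod_orderOf u (i.val + j.val)
  rw [hu] at this
  exact this

theorem P_neg (i : ZMod (2 ^ n)) : P u (-i) = (P u i)⁻¹ := by
  rw [eq_inv_iff_mul_eq_one, ← P_add hu, neg_add_cancel, P_zero]

theorem P_eq_one {i : ZMod (2 ^ n)} : P u i = 1 ↔ i = 0 := by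
  constructor
  · intro hi
    unfold P at hi
    have h1 : orderOf u ∣ i.val := orderOf_dvd_of_pow_eq_one hi
    rw [hu] at h1
    have h2 : i.val < 2 ^ n := ZMod.val_lt i
    have h3 : i.val = 0 := Nat.eq_zero_of_dvd_of_lt h1 h2
    exact (ZMod.val_eq_zero i).mp h3
  · rintro rfl; exact P_zero

theorem P_pow (i : ZMod (2 ^ n)) (k : ℕ) : (P u i) ^ k = P u ((k : ZMod (2 ^ n)) * i) := by
  induction k with
  | zero => simp [P_zero]
  | succ k ih => rw [pow_succ, ih, ← P_add hu]; congr 1; push_cast; ring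

theorem mem_zpowers_iff_P {g : S} : g ∈ Subgroup.zpowers u ↔ ∃ i : ZMod (2 ^ n), g = P u i := by
  classical
  constructor
  · intro hg
    have hfin : IsOfFinOrder u := by
      rw [← orderOf_pos_iff, hu]; positivity
    rw [hfin.mem_zpowers_iff_mem_range_orderOf, Finset.mem_image] at hg
    obtain ⟨k, -, rfl⟩ := hg
    exact ⟨(k : ZMod (2 ^ n)), (P_natCast hu k).symm⟩
  · rintro ⟨i, rfl⟩
    exact Subgroup.pow_mem _ (Subgroup.mem_zpowers u) _

end Cyc

namespace WrData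

variable (h : WrData S n x y z)
include h

theorem n1 : 1 ≤ n := by have := h.hn; omega

theorem z_mul_z : z * z = 1 := by
  have := pow_orderOf_eq_one z
  rw [h.oz, pow_two] at this
  exact this

theorem z_inv : z⁻¹ = z := inv_eq_of_mul_eq_one_left h.z_mul_z

theorem oy : orderOf y = 2 ^ n := by
  rw [← h.rel, ← h.ox]
  exact MulEquiv.orderOf_eq (MulAut.conj z) x

theorem rel' : z * y * z⁻¹ = x := by
  rw [← h.rel, h.z_inv]
  calc z * (z * x * z) * z = (z * z) * x * (z * z) := by group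
    _ = x := by rw [h.z_mul_z, one_mul, mul_one]

theorem P_comm (a b : ZMod (2 ^ n)) : P x a * P y b = P y b * P x a := by
  unfold P
  exact ((Commute.pow_pow (show Commute x y from h.comm) _ _)).eq

theorem z_conj_Px (a : ZMod (2 ^ n)) : z * P x a * z⁻¹ = P y a := by
  unfold P
  rw [← conj_pow, h.rel]

theorem z_conj_Py (a : ZMod (2 ^ n)) : z * P y a * z⁻¹ = P x a := by
  unfold P
  rw [← conj_pow, h.rel']

theorem W_add (a b c d : ZMod (2 ^ n)) : W x y (a + c) (b + d) = W x y a b * W x y c d := by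
  unfold W
  rw [P_add h.ox, P_add h.oy]
  calc P x a * P x c * (P y b * P y d) = P x a * (P x c * P y b) * P y d := by group
    _ = P x a * (P y b * P x c) * P y d := by rw [h.P_comm]
    _ = P x a * P y b * (P x c * P y d) := by group

omit h in
theorem W_zero : W x y (0 : ZMod (2 ^ n)) 0 = 1 := by
  unfold W; rw [P_zero, P_zero, one_mul]

theorem W_neg (a b : ZMod (2 ^ n)) : W x y (-a) (-b) = (W x y a b)⁻¹ := by
  rw [eq_inv_iff_mul_eq_one, ← h.W_add, neg_add_cancel, neg_add_cancel, W_zero]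

theorem W_eq_one {a b : ZMod (2 ^ n)} : W x y a b = 1 ↔ a = 0 ∧ b = 0 := by
  constructor
  · intro hab
    unfold W at hab
    have h1 : P x a = (P y b)⁻¹ := eq_inv_of_mul_eq_one_left hab
    have h2 : P x a ∈ Subgroup.zpowers x ⊓ Subgroup.zpowers y := by
      refine ⟨(mem_zpowers_iff_P h.ox).mpr ⟨a, rfl⟩, ?_⟩
      rw [h1]
      exact Subgroup.inv_mem _ ((mem_zpowers_iff_P h.oy).mpr ⟨b, rfl⟩)
    rw [h.disj, Subgroup.mem_bot] at h2
    have ha := (P_eq_one h.ox).mp h2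
    rw [h2, one_mul] at hab
    exact ⟨ha, (P_eq_one h.oy).mp hab⟩
  · rintro ⟨rfl, rfl⟩; exact W_zero

theorem W_inj {a b c d : ZMod (2 ^ n)} : W x y a b = W x y c d ↔ a = c ∧ b = d := by
  constructor
  · intro he
    have : W x y (a - c) (b - d) = 1 := by
      rw [sub_eq_add_neg, sub_eq_add_neg, h.W_add, h.W_neg, he, mul_inv_cancel]
    obtain ⟨h1, h2⟩ := h.W_eq_one.mp this
    exact ⟨sub_eq_zero.mp h1, sub_eq_zero.mp h2⟩
  · rintro ⟨rfl, rfl⟩; rfl

theorem W_comm (a b c d : ZMod (2 ^ n)) : W x y a b * W x y c d = W x y c d * W x y a b := by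
  rw [← h.W_add, ← h.W_add, add_comm a c, add_comm b d]

theorem W_pow (a b : ZMod (2 ^ n)) (k : ℕ) :
    (W x y a b) ^ k = W x y ((k : ZMod (2 ^ n)) * a) ((k : ZMod (2 ^ n)) * b) := by
  induction k with
  | zero => simp [W_zero]
  | succ k ih =>
    rw [pow_succ, ih, ← h.W_add]
    congr 1 <;> · push_cast; ring

theorem z_conj_W (a b : ZMod (2 ^ n)) : z * W x y a b * z⁻¹ = W x y b a := by
  unfold W
  calc z * (P x a * P y b) * z⁻¹ = (z * P x a * z⁻¹) * (z * P y b * z⁻¹) := by group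
    _ = P y a * P x b := by rw [h.z_conj_Px, h.z_conj_Py]
    _ = P x b * P y a := (h.P_comm b a).symm

theorem z_mul_W (a b : ZMod (2 ^ n)) : z * W x y a b = W x y b a * z := by
  have := h.z_conj_W a b
  rw [← this, inv_mul_cancel_right]

theorem W_mul_ZW (a b c d : ZMod (2 ^ n)) : W x y a b * ZW x y z c d = ZW x y z (a + c) (b + d) := by
  rw [ZW_def, ZW_def, h.W_add, mul_assoc]

theorem ZW_mul_W (a b c d : ZMod (2 ^ n)) : ZW x y z a b * W x y c d = ZW x y z (a + d) (b + c) := by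
  rw [ZW_def, ZW_def, mul_assoc, h.z_mul_W, h.W_add, mul_assoc]

theorem ZW_mul_ZW (a b c d : ZMod (2 ^ n)) : ZW x y z a b * ZW x y z c d = W x y (a + d) (b + c) := by
  rw [ZW_def x y z c d, ← mul_assoc, h.ZW_mul_W, ZW_def, mul_assoc, h.z_mul_z, mul_one]

theorem ZW_inv (a b : ZMod (2 ^ n)) : (ZW x y z a b)⁻¹ = ZW x y z (-b) (-a) := by
  rw [inv_eq_iff_mul_eq_one, h.ZW_mul_ZW]
  rw [add_neg_cancel, add_neg_cancel, W_zero]

omit h in
theorem ZW_zero : ZW x y z (0 : ZMod (2 ^ n)) 0 = z := by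
  rw [ZW_def, W_zero, one_mul]

theorem x_ne_one : x ≠ 1 := by
  intro hx
  have := h.ox
  rw [hx, orderOf_one] at this
  have : 2 ≤ 2 ^ n := by
    calc 2 = 2 ^ 1 := by norm_num
      _ ≤ 2 ^ n := Nat.pow_le_pow_right (by norm_num) h.n1
  omega

theorem W_one_zero : W x y (1 : ZMod (2 ^ n)) 0 = x := by
  unfold W; rw [P_one h.ox, P_zero, mul_one]

theorem W_zero_one : W x y (0 : ZMod (2 ^ n)) 1 = y := by
  unfold W; rw [P_one h.oy, P_zero, one_mul]

theorem one_ne_zero' : (1 : ZMod (2 ^ n)) ≠ 0 := by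
  intro h10
  have := h.W_one_zero
  rw [h10, W_zero] at this
  exact h.x_ne_one this.symm

/-- `z` is not in the base group -/
theorem z_ne_W (a b : ZMod (2 ^ n)) : z ≠ W x y a b := by
  intro hz
  have h1 : z * W x y (1 : ZMod (2 ^ n)) 0 * z⁻¹ = W x y (1 : ZMod (2 ^ n)) 0 := by
    rw [hz, h.W_comm, mul_inv_cancel_right]
  rw [h.z_conj_W, h.W_inj] at h1
  exact h.one_ne_zero' h1.1.symm

theorem W_ne_ZW (a b c d : ZMod (2 ^ n)) : W x y a b ≠ ZW x y z c d := by
  intro he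
  rw [ZW_def] at he
  have : z = W x y (a - c) (b - d) := by
    rw [sub_eq_add_neg, sub_eq_add_neg, add_comm a, add_comm b, h.W_add, h.W_neg, he]; group
  exact h.z_ne_W _ _ this

theorem ZW_inj {a b c d : ZMod (2 ^ n)} : ZW x y z a b = ZW x y z c d ↔ a = c ∧ b = d := by
  rw [ZW_def, ZW_def, mul_left_inj, h.W_inj]

theorem ZW_ne_one (a b : ZMod (2 ^ n)) : ZW x y z a b ≠ 1 := by
  rw [← W_zero (x := x) (y := y) (n := n)]
  exact (h.W_ne_ZW 0 0 a b).symm

/-- the base group -/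
def A (h : WrData S n x y z) : Subgroup S where
  carrier := {g | ∃ a b : ZMod (2 ^ n), g = W x y a b}
  one_mem' := ⟨0, 0, W_zero.symm⟩
  mul_mem' := by
    rintro _ _ ⟨a, b, rfl⟩ ⟨c, d, rfl⟩
    exact ⟨a + c, b + d, (h.W_add a b c d).symm⟩
  inv_mem' := by
    rintro _ ⟨a, b, rfl⟩
    exact ⟨-a, -b, (h.W_neg a b).symm⟩

theorem mem_A {g : S} : g ∈ h.A ↔ ∃ a b : ZMod (2 ^ n), g = W x y a b := Iff.rfl

theorem W_mem_A (a b : ZMod (2 ^ n)) : W x y a b ∈ h.A := ⟨a, b, rfl⟩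

theorem ZW_not_mem_A (a b : ZMod (2 ^ n)) : ZW x y z a b ∉ h.A := by
  rintro ⟨c, d, he⟩
  exact h.W_ne_ZW _ _ _ _ he.symm

theorem card_A : Nat.card h.A = 2 ^ (2 * n) := by
  have e : (ZMod (2 ^ n) × ZMod (2 ^ n)) ≃ h.A := by
    refine Equiv.ofBijective (fun p => ⟨W x y p.1 p.2, h.W_mem_A _ _⟩) ⟨?_, ?_⟩
    · rintro ⟨a, b⟩ ⟨c, d⟩ he
      have := congrArg Subtype.val he
      simp only at this
      obtain ⟨h1, h2⟩ := h.W_inj.mp this
      rw [h1, h2]
    · rintro ⟨g, a, b, rfl⟩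
      exact ⟨(a, b), rfl⟩
  rw [← Nat.card_congr e, Nat.card_prod, Nat.card_zmod, ← pow_add]
  congr 1; ring

theorem index_A [Finite S] : h.A.index = 2 := by
  have h1 := h.A.card_mul_index
  rw [h.card_A, h.card, pow_succ] at h1
  exact Nat.eq_of_mul_eq_mul_left (by positivity) h1

theorem z_not_mem_A : z ∉ h.A := by
  rintro ⟨a, b, he⟩
  exact h.z_ne_W a b he

theorem cases [Finite S] (g : S) :
    (∃ a b : ZMod (2 ^ n), g = W x y a b) ∨ (∃ a b : ZMod (2 ^ n), g = ZW x y z a b) := by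
  by_cases hg : g ∈ h.A
  · exact Or.inl hg
  · right
    have h1 : g * z ∈ h.A := by
      rw [Subgroup.mul_mem_iff_of_index_two h.index_A]
      exact ⟨fun h' => absurd h' hg, fun h' => absurd h' h.z_not_mem_A⟩
    obtain ⟨a, b, hab⟩ := h1
    refine ⟨a, b, ?_⟩
    rw [ZW_def, ← hab, mul_assoc, h.z_mul_z, mul_one]

end WrData

end Cfsg.Agent.Lib.Helper9.Wr
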