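import Mathlib
import Cfsg.Agent.Lib.Helper9.Wr.Basic
import Cfsg.Agent.Lib.Helper9.QD.Structure

set_option autoImplicit false

/-!
# Conjugation, orders and involution classes in a wreathed 2-group
-/

namespace Cfsg.Agent.Lib.Helper9.Wr

open Cfsg.Agent.Lib.Helper9.QD (Mz Kz two_mul_Mz Mz_ne_zero eq_zero_or_eq_Mz_of_two_mul
  orderOf_eq_two_iff' orderOf_eq_four_iff)

variable {S : Type*} [Group S] {n : ℕ} {x y z : S}

theorem card_eq_three {α : Type*} (a b c : α) (hab : a ≠ b) (hac : a ≠ c) (hbc : b ≠ c)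
    (hall : ∀ t : α, t = a ∨ t = b ∨ t = c) : Nat.card α = 3 := by
  rw [← Set.ncard_univ, Set.ncard_eq_three]
  refine ⟨a, b, c, hab, hac, hbc, ?_⟩
  ext t
  simp only [Set.mem_univ, Set.mem_insert_iff, Set.mem_singleton_iff, true_iff]
  exact hall t

namespace WrData

variable (h : WrData S n x y z)
include h

theorem conj_W_W (c d a b : ZMod (2 ^ n)) : W x y c d * W x y a b * (W x y c d)⁻¹ = W x y a b := by
  rw [h.W_comm, mul_inv_cancel_right]

theorem conj_W_ZW (c d a b : ZMod (2 ^ n)) :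
    W x y c d * ZW x y z a b * (W x y c d)⁻¹ = ZW x y z (a + c - d) (b + d - c) := by
  rw [h.W_mul_ZW, ← h.W_neg, h.ZW_mul_W, h.ZW_inj]
  constructor <;> ring

theorem conj_ZW_W (c d a b : ZMod (2 ^ n)) :
    ZW x y z c d * W x y a b * (ZW x y z c d)⁻¹ = W x y b a := by
  rw [h.ZW_mul_W, h.ZW_inv, h.ZW_mul_ZW, h.W_inj]
  constructor <;> ring

theorem conj_ZW_ZW (c d a b : ZMod (2 ^ n)) :
    ZW x y z c d * ZW x y z a b * (ZW x y z c d)⁻¹ = ZW x y z (b + c - d) (a + d - c) := by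
  rw [h.ZW_mul_ZW, h.ZW_inv, h.W_mul_ZW, h.ZW_inj]
  constructor <;> ring

theorem ZW_mul_self (a b : ZMod (2 ^ n)) : ZW x y z a b * ZW x y z a b = W x y (a + b) (a + b) := by
  rw [h.ZW_mul_ZW, add_comm b a]

/-- conjugates of base elements are base elements -/
theorem conj_W_eq [Finite S] (g : S) (a b : ZMod (2 ^ n)) :
    g * W x y a b * g⁻¹ = W x y a b ∨ g * W x y a b * g⁻¹ = W x y b a := by
  rcases h.cases g with ⟨c, d, rfl⟩ | ⟨c, d, rfl⟩
  · exact Or.inl (h.conj_W_W _ _ _ _)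
  · exact Or.inr (h.conj_ZW_W _ _ _ _)

theorem orderOf_ZW_eq_two {a b : ZMod (2 ^ n)} : orderOf (ZW x y z a b) = 2 ↔ a + b = 0 := by
  rw [orderOf_eq_two_iff', h.ZW_mul_self, h.W_eq_one]
  exact ⟨fun h1 => h1.1.1, fun h1 => ⟨⟨h1, h1⟩, h.ZW_ne_one a b⟩⟩

theorem orderOf_W_eq_two {a b : ZMod (2 ^ n)} :
    orderOf (W x y a b) = 2 ↔
      (a = Mz n ∧ b = 0) ∨ (a = 0 ∧ b = Mz n) ∨ (a = Mz n ∧ b = Mz n) := by
  have hM := two_mul_Mz (n := n) h.n1
  have hM0 := Mz_ne_zero (n := n) h.n1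
  rw [orderOf_eq_two_iff', ← h.W_add, h.W_eq_one, Ne, h.W_eq_one]
  constructor
  · rintro ⟨⟨h1, h2⟩, h3⟩
    have h1' : 2 * a = 0 := by linear_combination h1
    have h2' : 2 * b = 0 := by linear_combination h2
    rcases eq_zero_or_eq_Mz_of_two_mul h.n1 h1' with ha | ha <;>
    rcases eq_zero_or_eq_Mz_of_two_mul h.n1 h2' with hb | hb
    · exact absurd ⟨ha, hb⟩ h3
    · exact Or.inr (Or.inl ⟨ha, hb⟩)
    · exact Or.inl ⟨ha, hb⟩
    · exact Or.inr (Or.inr ⟨ha, hb⟩)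
  · rintro (⟨rfl, rfl⟩ | ⟨rfl, rfl⟩ | ⟨rfl, rfl⟩)
    · refine ⟨⟨by linear_combination hM, by ring⟩, fun h3 => hM0 h3.1⟩
    · refine ⟨⟨by ring, by linear_combination hM⟩, fun h3 => hM0 h3.2⟩
    · refine ⟨⟨by linear_combination hM, by linear_combination hM⟩, fun h3 => hM0 h3.1⟩

/-- diagonal elements are central -/
theorem diag_central [Finite S] (a : ZMod (2 ^ n)) (g : S) : g * W x y a a * g⁻¹ = W x y a a := by
  rcases h.conj_W_eq g a a with h1 | h1 <;> exact h1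

theorem card_classes_two [Finite S] :
    Nat.card {C : ConjClasses S // ∃ t : S, orderOf t = 2 ∧ ConjClasses.mk t = C} = 3 := by
  have hM0 := Mz_ne_zero (n := n) h.n1
  apply card_eq_three
    (⟨ConjClasses.mk (W x y (Mz n) (Mz n)), W x y (Mz n) (Mz n),
      h.orderOf_W_eq_two.mpr (Or.inr (Or.inr ⟨rfl, rfl⟩)), rfl⟩ :
      {C : ConjClasses S // ∃ t : S, orderOf t = 2 ∧ ConjClasses.mk t = C})
    ⟨ConjClasses.mk (W x y (Mz n) 0), W x y (Mz n) 0,
      h.orderOf_W_eq_two.mpr (Or.inl ⟨rfl, rfl⟩), rfl⟩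
    ⟨ConjClasses.mk (ZW x y z (0 : ZMod (2 ^ n)) 0), ZW x y z (0 : ZMod (2 ^ n)) 0,
      h.orderOf_ZW_eq_two.mpr (add_zero _), rfl⟩
  · intro he
    rw [Subtype.ext_iff] at he
    simp only at he
    rw [ConjClasses.mk_eq_mk_iff_isConj, isConj_iff] at he
    obtain ⟨c, hc⟩ := he
    rw [h.diag_central, h.W_inj] at hc
    exact hM0 hc.2
  · intro he
    rw [Subtype.ext_iff] at he
    simp only at he
    rw [ConjClasses.mk_eq_mk_iff_isConj, isConj_iff] at he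
    obtain ⟨c, hc⟩ := he
    rw [h.diag_central] at hc
    exact h.W_ne_ZW _ _ _ _ hc
  · intro he
    rw [Subtype.ext_iff] at he
    simp only at he
    rw [ConjClasses.mk_eq_mk_iff_isConj, isConj_iff] at he
    obtain ⟨c, hc⟩ := he
    rcases h.conj_W_eq c (Mz n) 0 with h1 | h1 <;>
    · rw [h1] at hc
      exact h.W_ne_ZW _ _ _ _ hc
  · rintro ⟨C, t, ht, rfl⟩
    rcases h.cases t with ⟨a, b, rfl⟩ | ⟨a, b, rfl⟩
    · rw [h.orderOf_W_eq_two] at ht
      rcases ht with ⟨rfl, rfl⟩ | ⟨rfl, rfl⟩ | ⟨rfl, rfl⟩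
      · right; left; rfl
      · right; left
        rw [Subtype.ext_iff]
        simp only
        rw [ConjClasses.mk_eq_mk_iff_isConj, isConj_iff]
        exact ⟨z, by rw [h.z_conj_W]⟩
      · left; rfl
    · right; right
      rw [h.orderOf_ZW_eq_two] at ht
      rw [Subtype.ext_iff]
      simp only
      rw [ConjClasses.mk_eq_mk_iff_isConj, isConj_iff]
      refine ⟨W x y (-a) 0, ?_⟩
      rw [h.conj_W_ZW, h.ZW_inj]
      constructor
      · ring
      · linear_combination ht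

end WrData

end Cfsg.Agent.Lib.Helper9.Wr
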