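import Mathlib
import Cfsg.Agent.Lib.Helper9.Wr.Structure
import Cfsg.Agent.Lib.Helper2.DihedralIso

set_option autoImplicit false

/-!
# Centre, commutator subgroup and central quotient of a wreathed 2-group
-/

namespace Cfsg.Agent.Lib.Helper9.Wr

open Cfsg.Agent.Lib.Helper9.QD (Mz Kz two_mul_Mz Mz_ne_zero eq_zero_or_eq_Mz_of_two_mul
  orderOf_eq_two_iff' orderOf_eq_four_iff)

variable {S : Type*} [Group S] {n : ℕ} {x y z : S}

namespace WrData

open scoped commutatorElement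

variable (h : WrData S n x y z)
include h

/-- elements of the base group with an odd coordinate have order `2^n` -/
theorem orderOf_W_of_odd {a b : ZMod (2 ^ n)} (hab : Mz n * a ≠ 0 ∨ Mz n * b ≠ 0) :
    orderOf (W x y a b) = 2 ^ n := by
  have hn := h.n1
  have e : n = (n - 1) + 1 := by omega
  have hM := two_mul_Mz (n := n) h.n1
  have hcast : ((2 ^ (n - 1) : ℕ) : ZMod (2 ^ n)) = Mz n := rfl
  have h1 : ¬ (W x y a b) ^ 2 ^ (n - 1) = 1 := by
    rw [h.W_pow, h.W_eq_one, hcast]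
    rintro ⟨h1, h2⟩
    rcases hab with h3 | h3
    · exact h3 h1
    · exact h3 h2
  have h2 : (W x y a b) ^ 2 ^ ((n - 1) + 1) = 1 := by
    rw [pow_succ, pow_mul, h.W_pow, h.W_pow, h.W_eq_one, hcast]
    push_cast
    constructor
    · linear_combination a * hM
    · linear_combination b * hM
  have := orderOf_eq_prime_pow h1 h2
  rw [this, ← e]

theorem Mz_mul_one_ne : Mz n * 1 ≠ 0 := by
  rw [mul_one]; exact Mz_ne_zero h.n1

theorem mem_zpowers_W_iff {a b : ZMod (2 ^ n)} {g : S} :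
    g ∈ Subgroup.zpowers (W x y a b) ↔ ∃ k : ZMod (2 ^ n), g = W x y (k * a) (k * b) := by
  constructor
  · intro hg
    have hfin : Finite (Subgroup.zpowers (W x y a b)) := by
      apply Nat.finite_of_card_ne_zero
      rw [Nat.card_zpowers]
      have : IsOfFinOrder (W x y a b) := by
        rw [isOfFinOrder_iff_pow_eq_one]
        refine ⟨2 ^ n, by positivity, ?_⟩
        rw [h.W_pow, h.W_eq_one]
        have : ((2 ^ n : ℕ) : ZMod (2 ^ n)) = 0 := ZMod.natCast_self _
        rw [this]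
        simp
      exact this.orderOf_pos.ne'
    rw [Subgroup.mem_zpowers_iff] at hg
    obtain ⟨k, rfl⟩ := hg
    refine ⟨(k : ZMod (2 ^ n)), ?_⟩
    have : ∀ m : ℕ, (W x y a b) ^ (m : ℤ) = W x y ((m : ZMod (2 ^ n)) * a) ((m : ZMod (2 ^ n)) * b) := by
      intro m
      rw [zpow_natCast, h.W_pow]
    rcases Int.eq_nat_or_neg k with ⟨m, rfl | rfl⟩
    · rw [this]; push_cast; rfl
    · rw [zpow_neg, this, ← h.W_neg]
      push_cast
      congr 1 <;> ring
  · rintro ⟨k, rfl⟩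
    have : W x y (k * a) (k * b) = (W x y a b) ^ k.val := by
      rw [h.W_pow, ZMod.natCast_zmod_val]
    rw [this]
    exact Subgroup.pow_mem _ (Subgroup.mem_zpowers _) _

theorem mem_center_iff [Finite S] {g : S} :
    g ∈ Subgroup.center S ↔ ∃ a : ZMod (2 ^ n), g = W x y a a := by
  constructor
  · intro hg
    rw [Subgroup.mem_center_iff] at hg
    rcases h.cases g with ⟨a, b, rfl⟩ | ⟨a, b, rfl⟩
    · have h1 := hg z
      rw [h.z_mul_W] at h1
      have h2 : ZW x y z b a = ZW x y z a b := h1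
      rw [h.ZW_inj] at h2
      exact ⟨a, by rw [h2.1]⟩
    · exfalso
      have h1 := hg (W x y (1 : ZMod (2 ^ n)) 0)
      rw [h.W_mul_ZW, h.ZW_mul_W, h.ZW_inj] at h1
      apply h.one_ne_zero'
      linear_combination h1.1
  · rintro ⟨a, rfl⟩
    rw [Subgroup.mem_center_iff]
    intro g
    have := h.diag_central a g
    calc g * W x y a a = (g * W x y a a * g⁻¹) * g := by group
      _ = W x y a a * g := by rw [this]

theorem center_eq [Finite S] : Subgroup.center S = Subgroup.zpowers (W x y (1 : ZMod (2 ^ n)) 1) := by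
  ext g
  rw [h.mem_center_iff, h.mem_zpowers_W_iff]
  constructor
  · rintro ⟨a, rfl⟩; exact ⟨a, by rw [mul_one]⟩
  · rintro ⟨k, rfl⟩; exact ⟨k, by rw [mul_one]⟩

theorem card_center [Finite S] : Nat.card (Subgroup.center S) = 2 ^ n := by
  rw [h.center_eq, Nat.card_zpowers, h.orderOf_W_of_odd (Or.inl h.Mz_mul_one_ne)]

theorem commutator_eq [Finite S] :
    commutator S = Subgroup.zpowers (W x y (1 : ZMod (2 ^ n)) (-1)) := by
  have key : ∀ g₁ g₂ : S, ∃ e : ZMod (2 ^ n), ⁅g₁, g₂⁆ = W x y e (-e) := by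
    intro g₁ g₂
    rw [commutatorElement_def]
    rcases h.cases g₁ with ⟨c, d, rfl⟩ | ⟨c, d, rfl⟩ <;>
    rcases h.cases g₂ with ⟨a, b, rfl⟩ | ⟨a, b, rfl⟩
    · refine ⟨0, ?_⟩
      rw [h.conj_W_W, mul_inv_cancel, neg_zero, W_zero]
    · refine ⟨c - d, ?_⟩
      rw [h.conj_W_ZW, h.ZW_inv, h.ZW_mul_ZW, h.W_inj]
      constructor <;> ring
    · refine ⟨b - a, ?_⟩
      rw [h.conj_ZW_W, ← h.W_neg, ← h.W_add, h.W_inj]
      constructor <;> ring
    · refine ⟨b + c - d - a, ?_⟩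
      rw [h.conj_ZW_ZW, h.ZW_inv, h.ZW_mul_ZW, h.W_inj]
      constructor <;> ring
  apply le_antisymm
  · rw [commutator_def, Subgroup.commutator_le]
    intro g₁ _ g₂ _
    obtain ⟨e, he⟩ := key g₁ g₂
    rw [he, h.mem_zpowers_W_iff]
    exact ⟨e, by rw [mul_one, mul_neg, mul_one]⟩
  · rw [Subgroup.zpowers_le]
    have : W x y (1 : ZMod (2 ^ n)) (-1) = ⁅W x y (1 : ZMod (2 ^ n)) 0, ZW x y z (0 : ZMod (2 ^ n)) 0⁆ := by
      rw [commutatorElement_def, h.conj_W_ZW, h.ZW_inv, h.ZW_mul_ZW, h.W_inj]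
      constructor <;> ring
    rw [this, commutator_def]
    exact Subgroup.commutator_mem_commutator (Subgroup.mem_top _) (Subgroup.mem_top _)

theorem card_commutator [Finite S] : Nat.card (commutator S) = 2 ^ n := by
  rw [h.commutator_eq, Nat.card_zpowers, h.orderOf_W_of_odd (Or.inl h.Mz_mul_one_ne)]

theorem quotient_center_dihedral [Finite S] :
    Nonempty (S ⧸ Subgroup.center S ≃* DihedralGroup (2 ^ n)) := by
  have hM0 := Mz_ne_zero (n := n) h.n1
  have hM := two_mul_Mz (n := n) h.n1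
  set s : S ⧸ Subgroup.center S := QuotientGroup.mk z with hs
  set t : S ⧸ Subgroup.center S := QuotientGroup.mk (ZW x y z (1 : ZMod (2 ^ n)) 0) with ht
  have hone : ∀ g : S, (QuotientGroup.mk g : S ⧸ Subgroup.center S) = 1 ↔ g ∈ Subgroup.center S :=
    fun g => QuotientGroup.eq_one_iff g
  have hss : s * s = 1 := by
    rw [hs, ← QuotientGroup.mk_mul, h.z_mul_z]; rfl
  have htt : t * t = 1 := by
    rw [ht, ← QuotientGroup.mk_mul, hone, h.ZW_mul_self, h.mem_center_iff]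
    exact ⟨_, rfl⟩
  have hs1 : s ≠ 1 := by
    rw [hs, Ne, hone, h.mem_center_iff]
    rintro ⟨a, ha⟩
    exact h.z_ne_W _ _ ha
  have ht1 : t ≠ 1 := by
    rw [ht, Ne, hone, h.mem_center_iff]
    rintro ⟨a, ha⟩
    exact h.W_ne_ZW _ _ _ _ ha.symm
  have hts : t * s = QuotientGroup.mk (W x y (1 : ZMod (2 ^ n)) 0) := by
    rw [ht, hs, ← QuotientGroup.mk_mul]
    congr 1
    have e0 : z = ZW x y z (0 : ZMod (2 ^ n)) 0 := ZW_zero.symm
    calc ZW x y z (1 : ZMod (2 ^ n)) 0 * z = ZW x y z (1 : ZMod (2 ^ n)) 0 * ZW x y z (0 : ZMod (2 ^ n)) 0 := by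
          rw [← e0]
      _ = W x y (1 : ZMod (2 ^ n)) 0 := by
          rw [h.ZW_mul_ZW, h.W_inj]
          constructor <;> ring
  have hord : orderOf (t * s) = 2 ^ n := by
    have hn := h.n1
    have e : n = (n - 1) + 1 := by omega
    have hcast : ((2 ^ (n - 1) : ℕ) : ZMod (2 ^ n)) = Mz n := rfl
    have hcast2 : ((2 ^ n : ℕ) : ZMod (2 ^ n)) = 0 := ZMod.natCast_self _
    have h1 : ¬ (t * s) ^ 2 ^ (n - 1) = 1 := by
      rw [hts, ← QuotientGroup.mk_pow, hone, h.W_pow, hcast, h.mem_center_iff]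
      rintro ⟨a, ha⟩
      rw [h.W_inj] at ha
      apply hM0
      rw [mul_one, mul_zero] at ha
      rw [ha.1, ← ha.2]
    have h2 : (t * s) ^ 2 ^ ((n - 1) + 1) = 1 := by
      rw [← e, hts, ← QuotientGroup.mk_pow, hone, h.W_pow, hcast2, zero_mul, zero_mul, W_zero]
      exact one_mem _
    have := orderOf_eq_prime_pow h1 h2
    rw [this, ← e]
  obtain ⟨e⟩ := Cfsg.Agent.Lib.Helper2.TwoInv.nonempty_mulEquiv_dihedral htt hss ht1 hs1
  rw [hord] at e
  have hcardQ : Nat.card (S ⧸ Subgroup.center S) = 2 ^ (n + 1) := by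
    have h1 := Subgroup.card_eq_card_quotient_mul_card_subgroup (Subgroup.center S)
    rw [h.card, h.card_center] at h1
    have h2 : 2 ^ (2 * n + 1) = 2 ^ (n + 1) * 2 ^ n := by rw [← pow_add]; congr 1; ring
    rw [h2] at h1
    exact (Nat.eq_of_mul_eq_mul_right (by positivity) h1).symm
  have htop : Subgroup.closure ({t, s} : Set (S ⧸ Subgroup.center S)) = ⊤ := by
    apply Subgroup.eq_top_of_card_eq
    rw [Nat.card_congr e.toEquiv, DihedralGroup.nat_card, hcardQ, pow_succ, mul_comm]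
  exact ⟨(Subgroup.topEquiv.symm.trans (MulEquiv.subgroupCongr htop.symm)).trans e⟩

end WrData

end Cfsg.Agent.Lib.Helper9.Wr
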