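import Mathlib
import Cfsg.Agent.Lib.Helper9.Wr.Center
import Cfsg.Agent.Lib.Helper9.QD.Klein

set_option autoImplicit false

/-!
# Klein four-subgroups of a wreathed 2-group
-/

namespace Cfsg.Agent.Lib.Helper9.Wr

open Cfsg.Agent.Lib.Helper9.QD (Mz Kz two_mul_Mz Mz_ne_zero eq_zero_or_eq_Mz_of_two_mul
  ncard_four_le)

variable {S : Type*} [Group S] {n : ℕ} {x y z : S}

theorem ncard_eq_four {α : Type*} {a b c d : α} (hab : a ≠ b) (hac : a ≠ c) (had : a ≠ d)
    (hbc : b ≠ c) (hbd : b ≠ d) (hcd : c ≠ d) : ({a, b, c, d} : Set α).ncard = 4 := by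
  rw [Set.ncard_insert_of_notMem, Set.ncard_insert_of_notMem, Set.ncard_pair hcd]
  · simp only [Set.mem_insert_iff, Set.mem_singleton_iff, not_or]
    exact ⟨hbc, hbd⟩
  · simp only [Set.mem_insert_iff, Set.mem_singleton_iff, not_or]
    exact ⟨hab, hac, had⟩

/-- a subgroup consisting of the identity and three distinct involutions is a Klein four-group -/
theorem isKleinFour_of_mem_iff {G : Type*} [Group G] (H : Subgroup G) (a b c : G)
    (ha1 : a ≠ 1) (hb1 : b ≠ 1) (hc1 : c ≠ 1) (hab : a ≠ b) (hac : a ≠ c) (hbc : b ≠ c)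
    (ha : a * a = 1) (hb : b * b = 1) (hc : c * c = 1)
    (hH : ∀ g : G, g ∈ H ↔ g = 1 ∨ g = a ∨ g = b ∨ g = c) : IsKleinFour H := by
  have hset : (H : Set G) = {1, a, b, c} := by
    ext g
    simp only [SetLike.mem_coe, hH, Set.mem_insert_iff, Set.mem_singleton_iff]
  have hcard : Nat.card H = 4 := by
    have e : Nat.card H = (H : Set G).ncard := Nat.card_coe_set_eq (H : Set G)
    rw [e, hset]
    exact ncard_eq_four ha1.symm hb1.symm hc1.symm hab hac hbc
  have hfin : Finite H := Nat.finite_of_card_ne_zero (by rw [hcard]; norm_num)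
  have hnt : Nontrivial H := Finite.one_lt_card_iff_nontrivial.mp (by rw [hcard]; norm_num)
  refine ⟨hcard, ?_⟩
  rw [Monoid.exponent_eq_prime_iff Nat.prime_two]
  rintro ⟨g, hg⟩ hg1
  have hg1' : g ≠ 1 := fun e => hg1 (Subtype.ext e)
  rw [← Subgroup.orderOf_coe]
  apply orderOf_eq_prime
  · rw [pow_two]
    rcases (hH g).mp hg with rfl | rfl | rfl | rfl
    · exact absurd rfl hg1'
    · exact ha
    · exact hb
    · exact hc
  · exact hg1'

theorem sq_eq_one_of_isKleinFour {G : Type*} [Group G] (T : Subgroup G) (hT : IsKleinFour T)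
    {t : G} (ht : t ∈ T) : t * t = 1 := by
  have h1 : (⟨t, ht⟩ : T) ^ 2 = 1 := by
    have := Monoid.pow_exponent_eq_one (⟨t, ht⟩ : T)
    rwa [hT.exponent_two] at this
  have h2 := congrArg Subtype.val h1
  simpa [pow_two] using h2

theorem comm_of_isKleinFour {G : Type*} [Group G] (T : Subgroup G) (hT : IsKleinFour T)
    {s t : G} (hs : s ∈ T) (ht : t ∈ T) : s * t = t * s := by
  have := mul_comm_of_exponent_two hT.exponent_two (⟨s, hs⟩ : T) ⟨t, ht⟩
  exact congrArg Subtype.val this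

namespace WrData

variable (h : WrData S n x y z)

/-- the normal four-group `Ω₁(A)` -/
def T (h : WrData S n x y z) : Subgroup S where
  carrier := {g | ∃ c d : ZMod (2 ^ n), 2 * c = 0 ∧ 2 * d = 0 ∧ g = W x y c d}
  one_mem' := ⟨0, 0, mul_zero _, mul_zero _, W_zero.symm⟩
  mul_mem' := by
    rintro _ _ ⟨a, b, ha, hb, rfl⟩ ⟨c, d, hc, hd, rfl⟩
    exact ⟨a + c, b + d, by linear_combination ha + hc, by linear_combination hb + hd,
      (h.W_add a b c d).symm⟩
  inv_mem' := by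
    rintro _ ⟨a, b, ha, hb, rfl⟩
    exact ⟨-a, -b, by linear_combination -ha, by linear_combination -hb, (h.W_neg a b).symm⟩

/-- the four-group `⟨W M M, ZW a (-a)⟩` -/
def Ta (h : WrData S n x y z) (a : ZMod (2 ^ n)) : Subgroup S where
  carrier := {g | (∃ c : ZMod (2 ^ n), 2 * c = 0 ∧ g = W x y c c) ∨
    (∃ c : ZMod (2 ^ n), 2 * c = 0 ∧ g = ZW x y z (a + c) (-a + c))}
  one_mem' := Or.inl ⟨0, mul_zero _, W_zero.symm⟩
  mul_mem' := by
    rintro _ _ (⟨c, hc, rfl⟩ | ⟨c, hc, rfl⟩) (⟨d, hd, rfl⟩ | ⟨d, hd, rfl⟩)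
    · left; exact ⟨c + d, by linear_combination hc + hd, (h.W_add _ _ _ _).symm⟩
    · right
      refine ⟨c + d, by linear_combination hc + hd, ?_⟩
      rw [h.W_mul_ZW, h.ZW_inj]; constructor <;> ring
    · right
      refine ⟨c + d, by linear_combination hc + hd, ?_⟩
      rw [h.ZW_mul_W, h.ZW_inj]; constructor <;> ring
    · left
      refine ⟨c + d, by linear_combination hc + hd, ?_⟩
      rw [h.ZW_mul_ZW, h.W_inj]; constructor <;> ring
  inv_mem' := by
    rintro _ (⟨c, hc, rfl⟩ | ⟨c, hc, rfl⟩)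
    · left; exact ⟨-c, by linear_combination -hc, (h.W_neg _ _).symm⟩
    · right
      refine ⟨c, hc, ?_⟩
      rw [h.ZW_inv, h.ZW_inj]
      constructor
      · linear_combination -hc
      · linear_combination -hc

include h

theorem mem_T_iff {g : S} : g ∈ h.T ↔
    g = 1 ∨ g = W x y (Mz n) 0 ∨ g = W x y 0 (Mz n) ∨ g = W x y (Mz n) (Mz n) := by
  have hM := two_mul_Mz (n := n) h.n1
  constructor
  · rintro ⟨c, d, hc, hd, rfl⟩
    rcases eq_zero_or_eq_Mz_of_two_mul h.n1 hc with rfl | rfl <;>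
    rcases eq_zero_or_eq_Mz_of_two_mul h.n1 hd with rfl | rfl
    · left; exact W_zero
    · right; right; left; rfl
    · right; left; rfl
    · right; right; right; rfl
  · rintro (rfl | rfl | rfl | rfl)
    · exact one_mem _
    · exact ⟨Mz n, 0, hM, mul_zero _, rfl⟩
    · exact ⟨0, Mz n, mul_zero _, hM, rfl⟩
    · exact ⟨Mz n, Mz n, hM, hM, rfl⟩

theorem isKleinFour_T : IsKleinFour h.T := by
  have hM := two_mul_Mz (n := n) h.n1
  have hM0 := Mz_ne_zero (n := n) h.n1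
  apply isKleinFour_of_mem_iff h.T _ _ _ _ _ _ _ _ _ _ _ _ (fun g => h.mem_T_iff)
  · rw [Ne, h.W_eq_one]; exact fun h1 => hM0 h1.1
  · rw [Ne, h.W_eq_one]; exact fun h1 => hM0 h1.2
  · rw [Ne, h.W_eq_one]; exact fun h1 => hM0 h1.1
  · rw [Ne, h.W_inj]; exact fun h1 => hM0 h1.1
  · rw [Ne, h.W_inj]; exact fun h1 => hM0 h1.2.symm
  · rw [Ne, h.W_inj]; exact fun h1 => hM0 h1.1.symm
  · rw [← h.W_add, h.W_eq_one]; exact ⟨by linear_combination hM, by ring⟩
  · rw [← h.W_add, h.W_eq_one]; exact ⟨by ring, by linear_combination hM⟩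
  · rw [← h.W_add, h.W_eq_one]; exact ⟨by linear_combination hM, by linear_combination hM⟩

theorem normal_T [Finite S] : h.T.Normal := by
  constructor
  rintro _ ⟨c, d, hc, hd, rfl⟩ g
  rcases h.conj_W_eq g c d with h1 | h1
  · rw [h1]; exact ⟨c, d, hc, hd, rfl⟩
  · rw [h1]; exact ⟨d, c, hd, hc, rfl⟩

theorem mem_Ta_iff (a : ZMod (2 ^ n)) {g : S} : g ∈ h.Ta a ↔
    g = 1 ∨ g = W x y (Mz n) (Mz n) ∨ g = ZW x y z a (-a) ∨ g = ZW x y z (a + Mz n) (-a + Mz n) := by
  have hM := two_mul_Mz (n := n) h.n1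
  constructor
  · rintro (⟨c, hc, rfl⟩ | ⟨c, hc, rfl⟩)
    · rcases eq_zero_or_eq_Mz_of_two_mul h.n1 hc with rfl | rfl
      · left; exact W_zero
      · right; left; rfl
    · rcases eq_zero_or_eq_Mz_of_two_mul h.n1 hc with rfl | rfl
      · right; right; left; rw [add_zero, add_zero]
      · right; right; right; rfl
  · rintro (rfl | rfl | rfl | rfl)
    · exact one_mem _
    · exact Or.inl ⟨Mz n, hM, rfl⟩
    · exact Or.inr ⟨0, mul_zero _, by rw [add_zero, add_zero]⟩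
    · exact Or.inr ⟨Mz n, hM, rfl⟩

theorem isKleinFour_Ta (a : ZMod (2 ^ n)) : IsKleinFour (h.Ta a) := by
  have hM := two_mul_Mz (n := n) h.n1
  have hM0 := Mz_ne_zero (n := n) h.n1
  apply isKleinFour_of_mem_iff (h.Ta a) _ _ _ _ _ _ _ _ _ _ _ _ (fun g => h.mem_Ta_iff a)
  · rw [Ne, h.W_eq_one]; exact fun h1 => hM0 h1.1
  · exact h.ZW_ne_one _ _
  · exact h.ZW_ne_one _ _
  · exact h.W_ne_ZW _ _ _ _
  · exact h.W_ne_ZW _ _ _ _
  · rw [Ne, h.ZW_inj]
    intro h1
    apply hM0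
    linear_combination -h1.1
  · rw [← h.W_add, h.W_eq_one]; exact ⟨by linear_combination hM, by linear_combination hM⟩
  · rw [h.ZW_mul_self, h.W_eq_one]; exact ⟨by ring, by ring⟩
  · rw [h.ZW_mul_self, h.W_eq_one]; exact ⟨by linear_combination hM, by linear_combination hM⟩

theorem Ta_ne_T (a : ZMod (2 ^ n)) : h.Ta a ≠ h.T := by
  intro he
  have h1 : ZW x y z a (-a) ∈ h.Ta a := (h.mem_Ta_iff a).mpr (Or.inr (Or.inr (Or.inl rfl)))
  rw [he] at h1
  obtain ⟨c, d, -, -, h2⟩ := h1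
  exact h.W_ne_ZW _ _ _ _ h2.symm

/-- a Klein four-group inside the base group is `T` -/
theorem klein_eq_T_of_le [Finite S] (T' : Subgroup S) (hT' : IsKleinFour T') (hle : T' ≤ h.A) :
    T' = h.T := by
  apply Subgroup.eq_of_le_of_card_ge
  · intro g hg
    obtain ⟨a, b, rfl⟩ := hle hg
    have h1 := sq_eq_one_of_isKleinFour T' hT' hg
    rw [← h.W_add, h.W_eq_one] at h1
    exact ⟨a, b, by linear_combination h1.1, by linear_combination h1.2, rfl⟩
  · rw [hT'.card_four, h.isKleinFour_T.card_four]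

/-- a Klein four-group outside the base group is some `Ta a` -/
theorem klein_eq_Ta [Finite S] (T' : Subgroup S) (hT' : IsKleinFour T') {a b : ZMod (2 ^ n)}
    (hab : ZW x y z a b ∈ T') : T' = h.Ta a := by
  have hb : a + b = 0 := by
    have h1 := sq_eq_one_of_isKleinFour T' hT' hab
    rw [h.ZW_mul_self, h.W_eq_one] at h1
    exact h1.1
  have hb' : b = -a := by linear_combination hb
  subst hb'
  apply Subgroup.eq_of_le_of_card_ge
  · intro g hg
    have h1 := sq_eq_one_of_isKleinFour T' hT' hg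
    have h2 := comm_of_isKleinFour T' hT' hg hab
    rcases h.cases g with ⟨c, d, rfl⟩ | ⟨c, d, rfl⟩
    · left
      rw [← h.W_add, h.W_eq_one] at h1
      rw [h.W_mul_ZW, h.ZW_mul_W, h.ZW_inj] at h2
      have hcd : c = d := by linear_combination h2.1
      subst hcd
      exact ⟨c, by linear_combination h1.1, rfl⟩
    · right
      rw [h.ZW_mul_self, h.W_eq_one] at h1
      rw [h.ZW_mul_ZW, h.ZW_mul_ZW, h.W_inj] at h2
      refine ⟨c - a, ?_, ?_⟩
      · linear_combination h2.1 + h1.1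
      · rw [h.ZW_inj]
        constructor
        · ring
        · linear_combination -h2.1
  · rw [hT'.card_four, (h.isKleinFour_Ta a).card_four]

theorem Ta_conj [Finite S] (a₁ a₂ : ZMod (2 ^ n)) :
    (h.Ta a₁).map (MulAut.conj (W x y (a₂ - a₁) 0)).toMonoidHom = h.Ta a₂ := by
  apply Subgroup.eq_of_le_of_card_ge
  · rintro _ ⟨g, hg, rfl⟩
    simp only [MulEquiv.toMonoidHom_eq_coe, MonoidHom.coe_coe, MulAut.conj_apply]
    rcases hg with ⟨c, hc, rfl⟩ | ⟨c, hc, rfl⟩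
    · left
      exact ⟨c, hc, h.conj_W_W _ _ _ _⟩
    · right
      refine ⟨c, hc, ?_⟩
      rw [h.conj_W_ZW, h.ZW_inj]
      constructor <;> ring
  · rw [Subgroup.card_map_of_injective (MulAut.conj _).injective,
      (h.isKleinFour_Ta a₁).card_four, (h.isKleinFour_Ta a₂).card_four]

theorem klein_main [Finite S] :
    ∃ T : Subgroup S, IsKleinFour T ∧ T.Normal ∧ (∃ T₀ : Subgroup S, IsKleinFour T₀ ∧ T₀ ≠ T) ∧
      ∀ T₁ T₂ : Subgroup S, IsKleinFour T₁ → IsKleinFour T₂ → T₁ ≠ T → T₂ ≠ T →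
        ∃ s : S, T₁.map (MulAut.conj s).toMonoidHom = T₂ := by
  refine ⟨h.T, h.isKleinFour_T, h.normal_T, ⟨h.Ta 0, h.isKleinFour_Ta 0, h.Ta_ne_T 0⟩, ?_⟩
  intro T₁ T₂ hT₁ hT₂ hne₁ hne₂
  have key : ∀ T' : Subgroup S, IsKleinFour T' → T' ≠ h.T → ∃ a, T' = h.Ta a := by
    intro T' hT' hne
    have hnle : ¬ T' ≤ h.A := fun hle => hne (h.klein_eq_T_of_le T' hT' hle)
    obtain ⟨u, huT, huA⟩ := SetLike.not_le_iff_exists.mp hnle
    rcases h.cases u with ⟨c, d, rfl⟩ | ⟨c, d, rfl⟩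
    · exact absurd (h.W_mem_A c d) huA
    · exact ⟨c, h.klein_eq_Ta T' hT' huT⟩
  obtain ⟨a₁, rfl⟩ := key T₁ hT₁ hne₁
  obtain ⟨a₂, rfl⟩ := key T₂ hT₂ hne₂
  exact ⟨_, h.Ta_conj a₁ a₂⟩

end WrData

end Cfsg.Agent.Lib.Helper9.Wr
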