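import Mathlib
import Cfsg.Agent.Lib.Helper9.Wr.Center

set_option autoImplicit false

/-!
# The unique abelian subgroup of index 2 in a wreathed 2-group
-/

namespace Cfsg.Agent.Lib.Helper9.Wr

open Cfsg.Agent.Lib.Helper9.QD (Mz Kz two_mul_Mz Mz_ne_zero)

variable {S : Type*} [Group S] {n : ℕ} {x y z : S}

theorem relIndex_mul_card_of_le' {G : Type*} [Group G] {H K : Subgroup G} (h : H ≤ K) :
    H.relIndex K * Nat.card H = Nat.card K := by
  have h1 := (H.subgroupOf K).index_mul_card
  rwa [Nat.card_congr (Subgroup.subgroupOfEquivOfLe h).toEquiv] at h1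

namespace WrData

variable (h : WrData S n x y z)
include h

theorem isMulCommutative_A : IsMulCommutative h.A := by
  rw [isMulCommutative_iff]
  rintro ⟨_, a, b, rfl⟩ ⟨_, c, d, rfl⟩
  apply Subtype.ext
  exact h.W_comm a b c d

/-- the isomorphism `Z_{2^n} × Z_{2^n} ≃ A` -/
theorem A_equiv : Nonempty (h.A ≃* Multiplicative (ZMod (2 ^ n) × ZMod (2 ^ n))) := by
  let f : Multiplicative (ZMod (2 ^ n) × ZMod (2 ^ n)) →* h.A :=
    { toFun := fun p => ⟨W x y (Multiplicative.toAdd p).1 (Multiplicative.toAdd p).2, h.W_mem_A _ _⟩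
      map_one' := by
        apply Subtype.ext
        exact W_zero
      map_mul' := by
        intro p q
        apply Subtype.ext
        exact h.W_add _ _ _ _ }
  have hbij : Function.Bijective f := by
    constructor
    · intro p q hpq
      have := congrArg Subtype.val hpq
      obtain ⟨h1, h2⟩ := h.W_inj.mp this
      exact Multiplicative.toAdd.injective (Prod.ext h1 h2)
    · rintro ⟨g, a, b, rfl⟩
      exact ⟨Multiplicative.ofAdd (a, b), rfl⟩
  exact ⟨(MulEquiv.ofBijective f hbij).symm⟩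

theorem abelian_unique [Finite S] (U : Subgroup S) (hU : IsMulCommutative U)
    (hcard : Nat.card U = 2 ^ (2 * n)) : U = h.A := by
  by_contra hne
  have hnle : ¬ U ≤ h.A := by
    intro hle
    apply hne
    apply Subgroup.eq_of_le_of_card_ge hle
    rw [hcard, h.card_A]
  obtain ⟨u, huU, huA⟩ := SetLike.not_le_iff_exists.mp hnle
  rcases h.cases u with ⟨c, d, rfl⟩ | ⟨c, d, rfl⟩
  · exact huA (h.W_mem_A c d)
  · -- `U ⊓ A ≤ Z(S)`
    have hle : U ⊓ h.A ≤ Subgroup.center S := by
      rintro g ⟨hgU, a, b, rfl⟩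
      have hc : (⟨ZW x y z c d, huU⟩ : U) * ⟨W x y a b, hgU⟩ = ⟨W x y a b, hgU⟩ * ⟨ZW x y z c d, huU⟩ :=
        (isMulCommutative_iff.mp hU) _ _
      have hc' : ZW x y z c d * W x y a b = W x y a b * ZW x y z c d := congrArg Subtype.val hc
      have : ZW x y z c d * W x y a b * (ZW x y z c d)⁻¹ = W x y a b := by
        rw [hc', mul_inv_cancel_right]
      rw [h.conj_ZW_W, h.W_inj] at this
      rw [h.mem_center_iff]
      exact ⟨a, by rw [this.1]⟩
    have h1 := Subgroup.card_le_of_le hle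
    rw [h.card_center] at h1
    have h2 : (U ⊓ h.A).relIndex U * Nat.card (U ⊓ h.A : Subgroup S) = Nat.card U :=
      relIndex_mul_card_of_le' inf_le_left
    have hnorm : h.A.Normal := Subgroup.normal_of_index_eq_two h.index_A
    have h3 : h.A.relIndex U ∣ h.A.index := Subgroup.relIndex_dvd_index_of_normal h.A U
    rw [h.index_A] at h3
    have h4 : h.A.relIndex U ≤ 2 := Nat.le_of_dvd (by norm_num) h3
    rw [inf_comm, Subgroup.inf_relIndex_right, hcard] at h2
    have h5 : 2 ^ (2 * n) ≤ 2 * 2 ^ n := by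
      calc 2 ^ (2 * n) = h.A.relIndex U * Nat.card (h.A ⊓ U : Subgroup S) := h2.symm
        _ ≤ 2 * 2 ^ n := by
          rw [inf_comm] at h1
          exact Nat.mul_le_mul h4 h1
    have hn := h.hn
    have h6 : 2 * 2 ^ n = 2 ^ (n + 1) := by rw [pow_succ]; ring
    rw [h6] at h5
    have h7 : 2 * n ≤ n + 1 := (Nat.pow_le_pow_iff_right (by norm_num)).mp h5
    omega

end WrData

end Cfsg.Agent.Lib.Helper9.Wr
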