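import Mathlib
import Cfsg.Agent.Lib.Helper9.Wr.Center

set_option autoImplicit false

/-!
# Centres of non-abelian subgroups of a wreathed 2-group
-/

namespace Cfsg.Agent.Lib.Helper9.Wr

open Cfsg.Agent.Lib.Helper9.QD (Mz Kz two_mul_Mz Mz_ne_zero)

variable {S : Type*} [Group S] {n : ℕ} {x y z : S}

namespace WrData

variable (h : WrData S n x y z)
include h

theorem center_le_of_not_comm [Finite S] (X : Subgroup S) (hX : ¬ IsMulCommutative X) :
    (Subgroup.center X).map X.subtype ≤ Subgroup.center S := by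
  rintro _ ⟨⟨g, hgX⟩, hgc, rfl⟩
  have hgc' : ∀ t ∈ X, t * g = g * t := by
    intro t ht
    have := (Subgroup.mem_center_iff.mp hgc) ⟨t, ht⟩
    exact congrArg Subtype.val this
  show g ∈ Subgroup.center S
  -- X is not inside A
  have hnle : ¬ X ≤ h.A := by
    intro hle
    apply hX
    rw [isMulCommutative_iff]
    rintro ⟨p, hp⟩ ⟨q, hq⟩
    obtain ⟨a, b, rfl⟩ := hle hp
    obtain ⟨c, d, rfl⟩ := hle hq
    exact Subtype.ext (h.W_comm a b c d)
  obtain ⟨u, huX, huA⟩ := SetLike.not_le_iff_exists.mp hnle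
  rcases h.cases u with ⟨c, d, rfl⟩ | ⟨c, d, rfl⟩
  · exact absurd (h.W_mem_A c d) huA
  rcases h.cases g with ⟨a, b, rfl⟩ | ⟨a, b, rfl⟩
  · have h1 := hgc' _ huX
    rw [h.ZW_mul_W, h.W_mul_ZW, h.ZW_inj] at h1
    rw [h.mem_center_iff]
    exact ⟨a, by congr 1; linear_combination h1.1⟩
  · exfalso
    apply hX
    -- X ∩ A is central
    have hcen : ∀ e f : ZMod (2 ^ n), W x y e f ∈ X → e = f := by
      intro e f hef
      have h1 := hgc' _ hef
      rw [h.W_mul_ZW, h.ZW_mul_W, h.ZW_inj] at h1
      linear_combination h1.1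
    have hdiag : ∀ e : ZMod (2 ^ n), ∀ t : S, t * W x y e e = W x y e e * t := by
      intro e t
      have := h.diag_central e t
      calc t * W x y e e = (t * W x y e e * t⁻¹) * t := by group
        _ = W x y e e * t := by rw [this]
    -- every element of X outside A is a central element times g
    have hout : ∀ p q : ZMod (2 ^ n), ZW x y z p q ∈ X →
        ∃ e : ZMod (2 ^ n), ZW x y z p q = W x y e e * ZW x y z a b := by
      intro p q hpq
      have h1 : ZW x y z p q * (ZW x y z a b)⁻¹ ∈ X := X.mul_mem hpq (X.inv_mem hgX)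
      rw [h.ZW_inv, h.ZW_mul_ZW] at h1
      have h2 := hcen _ _ h1
      refine ⟨p + -a, ?_⟩
      rw [h.W_mul_ZW, h.ZW_inj]
      constructor
      · ring
      · linear_combination -h2
    rw [isMulCommutative_iff]
    rintro ⟨p, hp⟩ ⟨q, hq⟩
    apply Subtype.ext
    show p * q = q * p
    rcases h.cases p with ⟨p₁, p₂, rfl⟩ | ⟨p₁, p₂, rfl⟩
    · have := hcen _ _ hp
      subst this
      exact (hdiag p₁ q).symm
    · rcases h.cases q with ⟨q₁, q₂, rfl⟩ | ⟨q₁, q₂, rfl⟩
      · have := hcen _ _ hq
        subst this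
        exact hdiag q₁ _
      · obtain ⟨e, he⟩ := hout _ _ hp
        obtain ⟨f, hf⟩ := hout _ _ hq
        rw [he, hf]
        calc W x y e e * ZW x y z a b * (W x y f f * ZW x y z a b)
            = W x y e e * (ZW x y z a b * W x y f f) * ZW x y z a b := by group
          _ = W x y e e * (W x y f f * ZW x y z a b) * ZW x y z a b := by rw [hdiag f]
          _ = (W x y e e * W x y f f) * ZW x y z a b * ZW x y z a b := by group
          _ = (W x y f f * W x y e e) * ZW x y z a b * ZW x y z a b := by rw [h.W_comm]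
          _ = W x y f f * (W x y e e * ZW x y z a b) * ZW x y z a b := by group
          _ = W x y f f * (ZW x y z a b * W x y e e) * ZW x y z a b := by rw [hdiag e]
          _ = W x y f f * ZW x y z a b * (W x y e e * ZW x y z a b) := by group

end WrData

end Cfsg.Agent.Lib.Helper9.Wr
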