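import Mathlib

set_option autoImplicit false

/-!
# Abelian subgroups of index 2 in generalized quaternion groups
-/

namespace Cfsg.Agent.Lib.Helper9.Wr

open QuaternionGroup

theorem zmod4_aux : ∀ i : ZMod (2 * 2), i ≠ 0 → i ≠ 2 → i + i = 2 := by decide

/-- outside an abelian subgroup of index 2 of a generalized quaternion group every element
squares to the central involution -/
theorem quaternion_sq_of_not_mem {k : ℕ} [NeZero k] (hk : 2 ≤ k) (B : Subgroup (QuaternionGroup k))
    (hB : B.index = 2) (hcomm : ∀ p ∈ B, ∀ q ∈ B, p * q = q * p) (g : QuaternionGroup k)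
    (hg : g ∉ B) : g * g = a (k : ZMod (2 * k)) := by
  cases g with
  | xa i =>
    rw [xa_mul_xa]; congr 1; ring
  | a i =>
    -- some `xa j` lies in `B`
    obtain ⟨j, hj⟩ : ∃ j, xa j ∈ B := by
      by_cases h0 : xa (0 : ZMod (2 * k)) ∈ B
      · exact ⟨0, h0⟩
      · refine ⟨0 + i, ?_⟩
        rw [← xa_mul_a, Subgroup.mul_mem_iff_of_index_two hB]
        exact ⟨fun h' => absurd h' h0, fun h' => absurd h' hg⟩
    have h2 : ∀ m : ZMod (2 * k), a m ∈ B → 2 * m = 0 := by
      intro m hm
      have := hcomm _ hm _ hj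
      rw [a_mul_xa, xa_mul_a] at this
      have e : j - m = j + m := by injection this
      linear_combination -e
    have h1 : a (1 : ZMod (2 * k)) ∉ B := by
      intro h1
      have h3 := h2 1 h1
      rw [mul_one] at h3
      have : ((2 : ℕ) : ZMod (2 * k)) = 0 := by exact_mod_cast h3
      rw [ZMod.natCast_eq_zero_iff] at this
      have := Nat.le_of_dvd (by norm_num) this
      omega
    have h4 : a (2 : ZMod (2 * k)) ∈ B := by
      have : a (2 : ZMod (2 * k)) = a 1 * a 1 := by rw [a_mul_a]; congr 1; norm_num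
      rw [this, Subgroup.mul_mem_iff_of_index_two hB]
    have hk2 : k = 2 := by
      have h3 := h2 2 h4
      have : ((4 : ℕ) : ZMod (2 * k)) = 0 := by
        push_cast; linear_combination h3
      rw [ZMod.natCast_eq_zero_iff] at this
      have := Nat.le_of_dvd (by norm_num) this
      omega
    subst hk2
    rw [a_mul_a]
    congr 1
    apply zmod4_aux
    · rintro rfl
      apply hg
      rw [a_zero]; exact one_mem _
    · rintro rfl
      exact hg h4

theorem quaternion_a_k_ne_one {k : ℕ} [NeZero k] : (a (k : ZMod (2 * k)) : QuaternionGroup k) ≠ 1 := by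
  rw [one_def]
  intro h
  have h1 : (k : ZMod (2 * k)) = 0 := by injection h
  rw [ZMod.natCast_eq_zero_iff] at h1
  have := Nat.le_of_dvd (Nat.pos_of_ne_zero (NeZero.ne k)) h1
  have := NeZero.ne k
  omega

theorem quaternion_a_k_sq {k : ℕ} [NeZero k] :
    (a (k : ZMod (2 * k)) : QuaternionGroup k) * a (k : ZMod (2 * k)) = 1 := by
  rw [a_mul_a, one_def]
  congr 1
  have : ((k + k : ℕ) : ZMod (2 * k)) = 0 := by
    rw [ZMod.natCast_eq_zero_iff]; exact ⟨1, by ring⟩
  push_cast at this
  exact this

theorem quaternion_not_comm {k : ℕ} [NeZero k] (hk : 2 ≤ k) :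
    (a 1 : QuaternionGroup k) * xa 0 ≠ xa 0 * a 1 := by
  rw [a_mul_xa, xa_mul_a]
  intro h
  have e : (0 : ZMod (2 * k)) - 1 = 0 + 1 := by injection h
  have h3 : ((2 : ℕ) : ZMod (2 * k)) = 0 := by push_cast; linear_combination -e
  rw [ZMod.natCast_eq_zero_iff] at h3
  have := Nat.le_of_dvd (by norm_num) h3
  omega

/-- transported version -/
theorem sq_of_not_mem_of_equiv {Y : Type*} [Group Y] {k : ℕ} [NeZero k] (hk : 2 ≤ k)
    (e : Y ≃* QuaternionGroup k) (B : Subgroup Y) (hB : B.index = 2)
    (hcomm : ∀ p ∈ B, ∀ q ∈ B, p * q = q * p) (g : Y) (hg : g ∉ B) :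
    g * g = e.symm (a (k : ZMod (2 * k))) := by
  have hsurj : Function.Surjective e.symm.toMonoidHom := e.symm.surjective
  have h1 : (B.comap e.symm.toMonoidHom).index = 2 := by
    rw [Subgroup.index_comap_of_surjective B hsurj, hB]
  have h2 := quaternion_sq_of_not_mem hk (B.comap e.symm.toMonoidHom) h1 ?_ (e g) ?_
  · have := congrArg e.symm h2
    rw [map_mul, e.symm_apply_apply] at this
    exact this
  · intro p hp q hq
    have := hcomm _ hp _ hq
    apply e.symm.injective
    rw [map_mul, map_mul]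
    exact this
  · intro hm
    apply hg
    have : e.symm.toMonoidHom (e g) ∈ B := hm
    simpa using this

end Cfsg.Agent.Lib.Helper9.Wr
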