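import Mathlib
import Cfsg.Agent.Lib.Helper9.Wr.Center
import Cfsg.Agent.Lib.Helper9.Wr.Abelian
import Cfsg.Agent.Lib.Helper9.Wr.QuatAbs
import Cfsg.Agent.Lib.Helper10.UniqueOrderP

set_option autoImplicit false

/-!
# The generalized quaternion subgroup of index `2^n` of a wreathed 2-group
-/

namespace Cfsg.Agent.Lib.Helper9.Wr

open Cfsg.Agent.Lib.Helper9.QD (Mz Kz two_mul_Mz Mz_ne_zero eq_zero_or_eq_Mz_of_two_mul)

variable {S : Type*} [Group S] {n : ℕ} {x y z : S}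

namespace WrData

/-- the generalized quaternion subgroup -/
def Yq (h : WrData S n x y z) : Subgroup S where
  carrier := {g | (∃ a : ZMod (2 ^ n), g = W x y a (-a)) ∨
    (∃ a : ZMod (2 ^ n), g = ZW x y z a (Mz n - a))}
  one_mem' := Or.inl ⟨0, by rw [neg_zero, W_zero]⟩
  mul_mem' := by
    have hM := two_mul_Mz (n := n) h.n1
    rintro _ _ (⟨a, rfl⟩ | ⟨a, rfl⟩) (⟨c, rfl⟩ | ⟨c, rfl⟩)
    · left; exact ⟨a + c, by rw [← h.W_add, h.W_inj]; constructor <;> ring⟩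
    · right; exact ⟨a + c, by rw [h.W_mul_ZW, h.ZW_inj]; constructor <;> ring⟩
    · right; exact ⟨a - c, by rw [h.ZW_mul_W, h.ZW_inj]; constructor <;> ring⟩
    · left
      refine ⟨a + Mz n - c, ?_⟩
      rw [h.ZW_mul_ZW, h.W_inj]
      constructor
      · ring
      · linear_combination hM
  inv_mem' := by
    have hM := two_mul_Mz (n := n) h.n1
    rintro _ (⟨a, rfl⟩ | ⟨a, rfl⟩)
    · left; exact ⟨-a, by rw [← h.W_neg]⟩
    · right
      refine ⟨a - Mz n, ?_⟩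
      rw [h.ZW_inv, h.ZW_inj]
      constructor
      · ring
      · linear_combination -hM

variable (h : WrData S n x y z)
include h

theorem W_mem_Yq {a b : ZMod (2 ^ n)} : W x y a b ∈ h.Yq ↔ a + b = 0 := by
  constructor
  · rintro (⟨c, hc⟩ | ⟨c, hc⟩)
    · obtain ⟨h1, h2⟩ := h.W_inj.mp hc
      rw [h1, h2]; ring
    · exact absurd hc (h.W_ne_ZW _ _ _ _)
  · intro hab
    left
    exact ⟨a, by rw [h.W_inj]; exact ⟨rfl, by linear_combination hab⟩⟩

theorem ZW_mem_Yq {a b : ZMod (2 ^ n)} : ZW x y z a b ∈ h.Yq ↔ a + b = Mz n := by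
  constructor
  · rintro (⟨c, hc⟩ | ⟨c, hc⟩)
    · exact absurd hc.symm (h.W_ne_ZW _ _ _ _)
    · obtain ⟨h1, h2⟩ := h.ZW_inj.mp hc
      rw [h1, h2]; ring
  · intro hab
    right
    exact ⟨a, by rw [h.ZW_inj]; exact ⟨rfl, by linear_combination hab⟩⟩

theorem Yq_quaternion [Finite S] : Nonempty (h.Yq ≃* QuaternionGroup (2 ^ (n - 1))) := by
  have hM := two_mul_Mz (n := n) h.n1
  have hNZ : NeZero (2 ^ (n - 1)) := ⟨by positivity⟩
  have ha_mem : W x y (1 : ZMod (2 ^ n)) (-1) ∈ h.Yq := h.W_mem_Yq.mpr (by ring)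
  have hx_mem : ZW x y z (0 : ZMod (2 ^ n)) (Mz n) ∈ h.Yq := h.ZW_mem_Yq.mpr (by ring)
  have hzp : ∀ (g : h.Yq) (j : ZMod (2 ^ n)), (g : S) = W x y j (-j) →
      g ∈ Subgroup.zpowers (⟨W x y (1 : ZMod (2 ^ n)) (-1), ha_mem⟩ : h.Yq) := by
    intro g j hg
    have : g = (⟨W x y (1 : ZMod (2 ^ n)) (-1), ha_mem⟩ : h.Yq) ^ j.val := by
      apply Subtype.ext
      rw [hg]
      simp only [Subgroup.coe_pow]
      rw [h.W_pow, ZMod.natCast_zmod_val, h.W_inj]
      constructor <;> ring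
    rw [this]
    exact Subgroup.pow_mem _ (Subgroup.mem_zpowers _) _
  refine Cfsg.Agent.Lib.Helper10.nonempty_mulEquiv_quaternionGroup (2 ^ (n - 1))
    (⟨W x y (1 : ZMod (2 ^ n)) (-1), ha_mem⟩ : h.Yq) ⟨ZW x y z (0 : ZMod (2 ^ n)) (Mz n), hx_mem⟩
    ?_ ?_ ?_ ?_ ?_
  · have : orderOf (⟨W x y (1 : ZMod (2 ^ n)) (-1), ha_mem⟩ : h.Yq)
        = orderOf (W x y (1 : ZMod (2 ^ n)) (-1)) := (Subgroup.orderOf_coe _).symm
    rw [this, h.orderOf_W_of_odd (Or.inl h.Mz_mul_one_ne)]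
    have hn := h.n1
    rw [← pow_succ']; congr 1; omega
  · apply Subtype.ext
    simp only [Subgroup.coe_mul, Subgroup.coe_inv]
    rw [h.conj_ZW_W, ← h.W_neg, h.W_inj]
    constructor <;> ring
  · apply Subtype.ext
    simp only [Subgroup.coe_pow]
    rw [pow_two, h.ZW_mul_self, h.W_pow, h.W_inj]
    have hcast : ((2 ^ (n - 1) : ℕ) : ZMod (2 ^ n)) = Mz n := rfl
    rw [hcast]
    constructor
    · ring
    · linear_combination hM
  · intro hmem
    rw [Subgroup.mem_zpowers_iff] at hmem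
    obtain ⟨k, hk⟩ := hmem
    have hk' := congrArg Subtype.val hk
    simp only [Subgroup.coe_zpow] at hk'
    have : ZW x y z (0 : ZMod (2 ^ n)) (Mz n) ∈ h.A := by
      rw [← hk']
      exact Subgroup.zpow_mem _ (h.W_mem_A _ _) _
    exact h.ZW_not_mem_A _ _ this
  · intro g
    rcases g.2 with ⟨j, hg⟩ | ⟨j, hg⟩
    · left
      exact hzp g j hg
    · right
      apply hzp _ (-j)
      simp only [Subgroup.coe_mul, Subgroup.coe_inv]
      rw [hg, h.ZW_inv, h.ZW_mul_ZW, h.W_inj]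
      constructor <;> ring

theorem card_Yq [Finite S] : Nat.card h.Yq = 2 ^ (n + 1) := by
  obtain ⟨e⟩ := h.Yq_quaternion
  have hNZ : NeZero (2 ^ (n - 1)) := ⟨by positivity⟩
  rw [Nat.card_congr e.toEquiv, Nat.card_eq_fintype_card, QuaternionGroup.card]
  have hn := h.n1
  have : n + 1 = 2 + (n - 1) := by omega
  rw [this, pow_add]
  norm_num

theorem quat_unique [Finite S] (Y : Subgroup S) (hY : Nat.card Y = 2 ^ (n + 1))
    (e : Y ≃* QuaternionGroup (2 ^ (n - 1))) : Y = h.Yq := by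
  have hNZ : NeZero (2 ^ (n - 1)) := ⟨by positivity⟩
  have hk : 2 ≤ 2 ^ (n - 1) := by
    have hn := h.hn
    calc 2 = 2 ^ 1 := by norm_num
      _ ≤ 2 ^ (n - 1) := Nat.pow_le_pow_right (by norm_num) (by omega)
  -- Y is not inside A
  have hnle : ¬ Y ≤ h.A := by
    intro hle
    apply quaternion_not_comm hk
    have hc : ∀ p q : Y, p * q = q * p := by
      rintro ⟨p, hp⟩ ⟨q, hq⟩
      obtain ⟨a, b, rfl⟩ := hle hp
      obtain ⟨c, d, rfl⟩ := hle hq
      exact Subtype.ext (h.W_comm a b c d)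
    have := hc (e.symm (QuaternionGroup.a 1)) (e.symm (QuaternionGroup.xa 0))
    rw [← map_mul, ← map_mul] at this
    exact e.symm.injective this
  obtain ⟨u, huY, huA⟩ := SetLike.not_le_iff_exists.mp hnle
  -- B = Y ∩ A as a subgroup of Y
  set B : Subgroup Y := h.A.subgroupOf Y with hB
  have hBidx : B.index = 2 := by
    have hnorm : h.A.Normal := Subgroup.normal_of_index_eq_two h.index_A
    have h3 : h.A.relIndex Y ∣ h.A.index := Subgroup.relIndex_dvd_index_of_normal h.A Y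
    rw [h.index_A] at h3
    have h4 : h.A.relIndex Y ≠ 1 := by
      rw [Ne, Subgroup.relIndex_eq_one]; exact hnle
    rcases (Nat.dvd_prime Nat.prime_two).mp h3 with h5 | h5
    · exact absurd h5 h4
    · exact h5
  have hBcomm : ∀ p ∈ B, ∀ q ∈ B, p * q = q * p := by
    rintro ⟨p, hp⟩ hpB ⟨q, hq⟩ hqB
    rw [hB, Subgroup.mem_subgroupOf] at hpB hqB
    obtain ⟨a, b, hab⟩ := hpB
    obtain ⟨c, d, hcd⟩ := hqB
    simp only at hab hcd
    subst hab; subst hcd
    exact Subtype.ext (h.W_comm a b c d)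
  have ht2 : orderOf ((e.symm (QuaternionGroup.a ((2 ^ (n - 1) : ℕ) : ZMod (2 * 2 ^ (n - 1)))) : Y) : S)
      = 2 := by
    rw [Subgroup.orderOf_coe, MulEquiv.orderOf_eq]
    apply orderOf_eq_prime
    · rw [pow_two]; exact quaternion_a_k_sq
    · exact quaternion_a_k_ne_one
  -- elements of Y outside A lie in Yq
  have hout : ∀ a b : ZMod (2 ^ n), ZW x y z a b ∈ Y → ZW x y z a b ∈ h.Yq := by
    intro a b hab
    have hnB : (⟨ZW x y z a b, hab⟩ : Y) ∉ B := by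
      rw [hB, Subgroup.mem_subgroupOf]
      exact h.ZW_not_mem_A a b
    have h1 := sq_of_not_mem_of_equiv hk e B hBidx hBcomm _ hnB
    have h2 := congrArg Subtype.val h1
    simp only [Subgroup.coe_mul] at h2
    rw [h.ZW_mul_self] at h2
    have ht3 := ht2
    rw [← h2, h.orderOf_W_eq_two] at ht3
    rw [h.ZW_mem_Yq]
    rcases ht3 with ⟨h3, h4⟩ | ⟨h3, h4⟩ | ⟨h3, h4⟩
    · exfalso; rw [h3] at h4; exact Mz_ne_zero h.n1 h4
    · exfalso; rw [h3] at h4; exact Mz_ne_zero h.n1 h4.symm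
    · exact h3
  apply Subgroup.eq_of_le_of_card_ge
  · intro g hg
    rcases h.cases u with ⟨c, d, rfl⟩ | ⟨c, d, rfl⟩
    · exact absurd (h.W_mem_A c d) huA
    rcases h.cases g with ⟨a, b, rfl⟩ | ⟨a, b, rfl⟩
    · have h1 : W x y a b * ZW x y z c d ∈ Y := Y.mul_mem hg huY
      rw [h.W_mul_ZW] at h1
      have h2 := hout _ _ h1
      have h3 := hout _ _ huY
      rw [← h.W_mul_ZW] at h2
      exact (Subgroup.mul_mem_cancel_right _ h3).mp h2
    · exact hout _ _ hg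
  · rw [hY, h.card_Yq]

theorem quat_main [Finite S] :
    (∃! Y : Subgroup S, Nat.card Y = 2 ^ (n + 1) ∧ Nonempty (Y ≃* QuaternionGroup (2 ^ (n - 1)))) ∧
    ∀ Y : Subgroup S, Nat.card Y = 2 ^ (n + 1) → Nonempty (Y ≃* QuaternionGroup (2 ^ (n - 1))) →
      Y.Normal := by
  have huniq : ∀ Y : Subgroup S, Nat.card Y = 2 ^ (n + 1) →
      Nonempty (Y ≃* QuaternionGroup (2 ^ (n - 1))) → Y = h.Yq := by
    rintro Y hY ⟨e⟩
    exact h.quat_unique Y hY e
  refine ⟨⟨h.Yq, ⟨h.card_Yq, h.Yq_quaternion⟩, fun Y hY => huniq Y hY.1 hY.2⟩, ?_⟩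
  intro Y hY hYe
  rw [huniq Y hY hYe]
  constructor
  intro g hg s
  -- the conjugate subgroup is again quaternion of the same order
  set Y' : Subgroup S := h.Yq.map (MulAut.conj s).toMonoidHom with hY'
  have hinj : Function.Injective (MulAut.conj s).toMonoidHom := (MulAut.conj s).injective
  have hc : Nat.card Y' = 2 ^ (n + 1) := by
    rw [hY', Subgroup.card_map_of_injective hinj, h.card_Yq]
  obtain ⟨e⟩ := h.Yq_quaternion
  have he : Nonempty (Y' ≃* QuaternionGroup (2 ^ (n - 1))) :=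
    ⟨(h.Yq.equivMapOfInjective _ hinj).symm.trans e⟩
  have := huniq Y' hc he
  have hmem : s * g * s⁻¹ ∈ Y' := by
    rw [hY']
    exact ⟨g, hg, by simp⟩
  rwa [this] at hmem

end WrData

end Cfsg.Agent.Lib.Helper9.Wr
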