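import Mathlib
import Cfsg.Agent.Lib.Helper9.Wr.Quat
import Cfsg.Agent.Lib.Helper9.Wr.NonAb
import Cfsg.Agent.Lib.Helper9.Wr.Klein
import Cfsg.Agent.Lib.Helper9.Conj

set_option autoImplicit false

/-!
# The self-centralizing subgroups `V_t = Z(S) Ω₁(A) ⟨ZW c d⟩` of a wreathed 2-group
-/

namespace Cfsg.Agent.Lib.Helper9.Wr

open Cfsg.Agent.Lib.Helper9.QD (Mz Kz two_mul_Mz two_mul_Kz Mz_ne_zero eq_zero_or_eq_Mz_of_two_mul
  eq_of_four_mul)

open Cfsg.Agent.Lib.Helper9 (mem_conjMap conj_mem_conjMap)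

variable {S : Type*} [Group S] {n : ℕ} {x y z : S}

namespace WrData

/-- `B = Z(S) Ω₁(A)` -/
def B (h : WrData S n x y z) : Subgroup S where
  carrier := {g | ∃ c d : ZMod (2 ^ n), 2 * (c - d) = 0 ∧ g = W x y c d}
  one_mem' := ⟨0, 0, by ring, W_zero.symm⟩
  mul_mem' := by
    rintro _ _ ⟨a, b, hab, rfl⟩ ⟨c, d, hcd, rfl⟩
    exact ⟨a + c, b + d, by linear_combination hab + hcd, (h.W_add a b c d).symm⟩
  inv_mem' := by
    rintro _ ⟨a, b, hab, rfl⟩
    exact ⟨-a, -b, by linear_combination -hab, (h.W_neg a b).symm⟩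

/-- `V_t = B ∪ {ZW c d : 2 (c - d) = 2 t}` -/
def Vt (h : WrData S n x y z) (t : ZMod (2 ^ n)) : Subgroup S where
  carrier := {g | (∃ c d : ZMod (2 ^ n), 2 * (c - d) = 0 ∧ g = W x y c d) ∨
    (∃ c d : ZMod (2 ^ n), 2 * (c - d) = 2 * t ∧ g = ZW x y z c d)}
  one_mem' := Or.inl ⟨0, 0, by ring, W_zero.symm⟩
  mul_mem' := by
    rintro _ _ (⟨a, b, hab, rfl⟩ | ⟨a, b, hab, rfl⟩) (⟨c, d, hcd, rfl⟩ | ⟨c, d, hcd, rfl⟩)
    · left; exact ⟨a + c, b + d, by linear_combination hab + hcd, (h.W_add a b c d).symm⟩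
    · right
      exact ⟨a + c, b + d, by linear_combination hab + hcd, h.W_mul_ZW a b c d⟩
    · right
      exact ⟨a + d, b + c, by linear_combination hab - hcd, h.ZW_mul_W a b c d⟩
    · left
      exact ⟨a + d, b + c, by linear_combination hab - hcd, h.ZW_mul_ZW a b c d⟩
  inv_mem' := by
    rintro _ (⟨a, b, hab, rfl⟩ | ⟨a, b, hab, rfl⟩)
    · left; exact ⟨-a, -b, by linear_combination -hab, (h.W_neg a b).symm⟩
    · right
      exact ⟨-b, -a, by linear_combination hab, h.ZW_inv a b⟩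

/-- the normalizer of `V_t` -/
def NVt (h : WrData S n x y z) (t : ZMod (2 ^ n)) : Subgroup S where
  carrier := {g | (∃ c d : ZMod (2 ^ n), 4 * (c - d) = 0 ∧ g = W x y c d) ∨
    (∃ c d : ZMod (2 ^ n), 4 * (c - d) = 4 * t ∧ g = ZW x y z c d)}
  one_mem' := Or.inl ⟨0, 0, by ring, W_zero.symm⟩
  mul_mem' := by
    rintro _ _ (⟨a, b, hab, rfl⟩ | ⟨a, b, hab, rfl⟩) (⟨c, d, hcd, rfl⟩ | ⟨c, d, hcd, rfl⟩)
    · left; exact ⟨a + c, b + d, by linear_combination hab + hcd, (h.W_add a b c d).symm⟩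
    · right
      exact ⟨a + c, b + d, by linear_combination hab + hcd, h.W_mul_ZW a b c d⟩
    · right
      exact ⟨a + d, b + c, by linear_combination hab - hcd, h.ZW_mul_W a b c d⟩
    · left
      exact ⟨a + d, b + c, by linear_combination hab - hcd, h.ZW_mul_ZW a b c d⟩
  inv_mem' := by
    rintro _ (⟨a, b, hab, rfl⟩ | ⟨a, b, hab, rfl⟩)
    · left; exact ⟨-a, -b, by linear_combination -hab, (h.W_neg a b).symm⟩
    · right
      exact ⟨-b, -a, by linear_combination hab, h.ZW_inv a b⟩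

/-- the quaternion subgroups of order `8` -/
def Qa (h : WrData S n x y z) (a : ZMod (2 ^ n)) : Subgroup S where
  carrier := {g | (∃ c : ZMod (2 ^ n), 4 * c = 0 ∧ g = W x y c (-c)) ∨
    (∃ c : ZMod (2 ^ n), 4 * c = 4 * a ∧ g = ZW x y z c (Mz n - c))}
  one_mem' := Or.inl ⟨0, by ring, by rw [neg_zero, W_zero]⟩
  mul_mem' := by
    have hM := two_mul_Mz (n := n) h.n1
    rintro _ _ (⟨c, hc, rfl⟩ | ⟨c, hc, rfl⟩) (⟨d, hd, rfl⟩ | ⟨d, hd, rfl⟩)
    · left
      exact ⟨c + d, by linear_combination hc + hd, by rw [← h.W_add, h.W_inj]; constructor <;> ring⟩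
    · right
      exact ⟨c + d, by linear_combination hc + hd,
        by rw [h.W_mul_ZW, h.ZW_inj]; constructor <;> ring⟩
    · right
      exact ⟨c - d, by linear_combination hc - hd,
        by rw [h.ZW_mul_W, h.ZW_inj]; constructor <;> ring⟩
    · left
      refine ⟨c + Mz n - d, by linear_combination hc - hd + 2 * hM, ?_⟩
      rw [h.ZW_mul_ZW, h.W_inj]
      constructor
      · ring
      · linear_combination hM
  inv_mem' := by
    have hM := two_mul_Mz (n := n) h.n1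
    rintro _ (⟨c, hc, rfl⟩ | ⟨c, hc, rfl⟩)
    · left; exact ⟨-c, by linear_combination -hc, by rw [← h.W_neg]⟩
    · right
      refine ⟨c - Mz n, by linear_combination hc - 2 * hM, ?_⟩
      rw [h.ZW_inv, h.ZW_inj]
      constructor
      · ring
      · linear_combination -hM

variable (h : WrData S n x y z)
include h

theorem W_mem_B {c d : ZMod (2 ^ n)} : W x y c d ∈ h.B ↔ 2 * (c - d) = 0 := by
  constructor
  · rintro ⟨a, b, hab, he⟩
    obtain ⟨rfl, rfl⟩ := h.W_inj.mp he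
    exact hab
  · intro hcd; exact ⟨c, d, hcd, rfl⟩

theorem ZW_not_mem_B (c d : ZMod (2 ^ n)) : ZW x y z c d ∉ h.B := by
  rintro ⟨a, b, _, he⟩
  exact h.W_ne_ZW _ _ _ _ he.symm

theorem B_le_A : h.B ≤ h.A := by
  rintro _ ⟨c, d, _, rfl⟩
  exact h.W_mem_A c d

theorem W_mem_Vt {t c d : ZMod (2 ^ n)} : W x y c d ∈ h.Vt t ↔ 2 * (c - d) = 0 := by
  constructor
  · rintro (⟨a, b, hab, he⟩ | ⟨a, b, _, he⟩)
    · obtain ⟨rfl, rfl⟩ := h.W_inj.mp he
      exact hab
    · exact absurd he (h.W_ne_ZW _ _ _ _)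
  · intro hcd; exact Or.inl ⟨c, d, hcd, rfl⟩

theorem ZW_mem_Vt {t c d : ZMod (2 ^ n)} : ZW x y z c d ∈ h.Vt t ↔ 2 * (c - d) = 2 * t := by
  constructor
  · rintro (⟨a, b, _, he⟩ | ⟨a, b, hab, he⟩)
    · exact absurd he.symm (h.W_ne_ZW _ _ _ _)
    · obtain ⟨rfl, rfl⟩ := h.ZW_inj.mp he
      exact hab
  · intro hcd; exact Or.inr ⟨c, d, hcd, rfl⟩

theorem W_mem_NVt {t c d : ZMod (2 ^ n)} : W x y c d ∈ h.NVt t ↔ 4 * (c - d) = 0 := by
  constructor
  · rintro (⟨a, b, hab, he⟩ | ⟨a, b, _, he⟩)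
    · obtain ⟨rfl, rfl⟩ := h.W_inj.mp he
      exact hab
    · exact absurd he (h.W_ne_ZW _ _ _ _)
  · intro hcd; exact Or.inl ⟨c, d, hcd, rfl⟩

theorem ZW_mem_NVt {t c d : ZMod (2 ^ n)} : ZW x y z c d ∈ h.NVt t ↔ 4 * (c - d) = 4 * t := by
  constructor
  · rintro (⟨a, b, _, he⟩ | ⟨a, b, hab, he⟩)
    · exact absurd he.symm (h.W_ne_ZW _ _ _ _)
    · obtain ⟨rfl, rfl⟩ := h.ZW_inj.mp he
      exact hab
  · intro hcd; exact Or.inr ⟨c, d, hcd, rfl⟩

theorem W_mem_Qa {a c d : ZMod (2 ^ n)} : W x y c d ∈ h.Qa a ↔ 4 * c = 0 ∧ d = -c := by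
  constructor
  · rintro (⟨e, he, heq⟩ | ⟨e, _, heq⟩)
    · obtain ⟨rfl, rfl⟩ := h.W_inj.mp heq
      exact ⟨he, rfl⟩
    · exact absurd heq (h.W_ne_ZW _ _ _ _)
  · rintro ⟨hc, rfl⟩; exact Or.inl ⟨c, hc, rfl⟩

theorem ZW_mem_Qa {a c d : ZMod (2 ^ n)} :
    ZW x y z c d ∈ h.Qa a ↔ 4 * c = 4 * a ∧ d = Mz n - c := by
  constructor
  · rintro (⟨e, _, heq⟩ | ⟨e, he, heq⟩)
    · exact absurd heq.symm (h.W_ne_ZW _ _ _ _)
    · obtain ⟨rfl, rfl⟩ := h.ZW_inj.mp heq
      exact ⟨he, rfl⟩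
  · rintro ⟨hc, rfl⟩; exact Or.inr ⟨c, hc, rfl⟩

theorem Vt_le_NVt (t : ZMod (2 ^ n)) : h.Vt t ≤ h.NVt t := by
  rintro _ (⟨c, d, hcd, rfl⟩ | ⟨c, d, hcd, rfl⟩)
  · exact h.W_mem_NVt.mpr (by linear_combination 2 * hcd)
  · exact h.ZW_mem_NVt.mpr (by linear_combination 2 * hcd)

theorem B_le_Vt (t : ZMod (2 ^ n)) : h.B ≤ h.Vt t := by
  rintro _ ⟨c, d, hcd, rfl⟩
  exact h.W_mem_Vt.mpr hcd

theorem center_le_B [Finite S] : Subgroup.center S ≤ h.B := by
  intro g hg
  obtain ⟨a, rfl⟩ := h.mem_center_iff.mp hg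
  exact h.W_mem_B.mpr (by ring)

theorem center_le_Vt [Finite S] (t : ZMod (2 ^ n)) : Subgroup.center S ≤ h.Vt t :=
  h.center_le_B.trans (h.B_le_Vt t)

theorem Qa_le_Vt (a : ZMod (2 ^ n)) : h.Qa a ≤ h.Vt (2 * a) := by
  have hM := two_mul_Mz (n := n) h.n1
  rintro _ (⟨c, hc, rfl⟩ | ⟨c, hc, rfl⟩)
  · exact h.W_mem_Vt.mpr (by linear_combination hc)
  · exact h.ZW_mem_Vt.mpr (by linear_combination hc - hM)

theorem Qa_quaternion (a : ZMod (2 ^ n)) : Nonempty (h.Qa a ≃* QuaternionGroup 2) := by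
  have hn2 := h.hn
  have hM := two_mul_Mz (n := n) h.n1
  have hK := two_mul_Kz (n := n) h.hn
  have hM0 := Mz_ne_zero (n := n) h.n1
  have hi_mem : W x y (Kz n) (-Kz n) ∈ h.Qa a :=
    h.W_mem_Qa.mpr ⟨by linear_combination 2 * hK + hM, rfl⟩
  have hj_mem : ZW x y z a (Mz n - a) ∈ h.Qa a := h.ZW_mem_Qa.mpr ⟨rfl, rfl⟩
  have hzp : ∀ (g : h.Qa a) (c : ZMod (2 ^ n)), 4 * c = 0 → (g : S) = W x y c (-c) →
      g ∈ Subgroup.zpowers (⟨W x y (Kz n) (-Kz n), hi_mem⟩ : h.Qa a) := by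
    intro g c hc hg
    have hpow : ∀ k : ℕ, (g : S) = W x y ((k : ZMod (2 ^ n)) * Kz n) ((k : ZMod (2 ^ n)) * (-Kz n)) →
        g ∈ Subgroup.zpowers (⟨W x y (Kz n) (-Kz n), hi_mem⟩ : h.Qa a) := by
      intro k hk
      have : g = (⟨W x y (Kz n) (-Kz n), hi_mem⟩ : h.Qa a) ^ k := by
        apply Subtype.ext
        rw [hk]
        simp only [Subgroup.coe_pow]
        rw [h.W_pow]
      rw [this]
      exact Subgroup.pow_mem _ (Subgroup.mem_zpowers _) _
    rcases eq_of_four_mul h.hn hc with rfl | rfl | rfl | rfl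
    · apply hpow 0; rw [hg, h.W_inj]; constructor <;> push_cast <;> ring
    · apply hpow 1; rw [hg, h.W_inj]; constructor <;> push_cast <;> ring
    · apply hpow 2; rw [hg, h.W_inj]
      constructor
      · push_cast; linear_combination -hK
      · push_cast; linear_combination hK
    · apply hpow 3; rw [hg, h.W_inj]
      constructor
      · push_cast; linear_combination -hK
      · push_cast; linear_combination hK
  have hNZ : NeZero 2 := ⟨by norm_num⟩
  refine Cfsg.Agent.Lib.Helper10.nonempty_mulEquiv_quaternionGroup 2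
    (⟨W x y (Kz n) (-Kz n), hi_mem⟩ : h.Qa a) ⟨ZW x y z a (Mz n - a), hj_mem⟩ ?_ ?_ ?_ ?_ ?_
  · rw [Subgroup.orderOf_mk, Cfsg.Agent.Lib.Helper9.QD.orderOf_eq_four_iff, h.W_pow, h.W_pow,
      h.W_eq_one, Ne, h.W_eq_one]
    push_cast
    refine ⟨⟨by linear_combination 2 * hK + hM, by linear_combination -2 * hK - hM⟩, ?_⟩
    rintro ⟨h1, -⟩
    apply hM0
    linear_combination h1 - hK
  · apply Subtype.ext
    simp only [Subgroup.coe_mul, Subgroup.coe_inv]
    rw [h.conj_ZW_W, ← h.W_neg, h.W_inj]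
    constructor <;> ring
  · apply Subtype.ext
    simp only [Subgroup.coe_pow]
    rw [pow_two, h.ZW_mul_self, h.W_pow, h.W_inj]
    push_cast
    constructor
    · linear_combination -hK
    · linear_combination hK + hM
  · intro hmem
    rw [Subgroup.mem_zpowers_iff] at hmem
    obtain ⟨k, hk⟩ := hmem
    have hk' := congrArg Subtype.val hk
    simp only [Subgroup.coe_zpow] at hk'
    have : ZW x y z a (Mz n - a) ∈ h.A := by
      rw [← hk']
      exact Subgroup.zpow_mem _ (h.W_mem_A _ _) _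
    exact h.ZW_not_mem_A _ _ this
  · intro g
    rcases g.2 with ⟨c, hc, hg⟩ | ⟨c, hc, hg⟩
    · left
      exact hzp g c hc hg
    · right
      apply hzp _ (a - c) (by linear_combination -hc)
      simp only [Subgroup.coe_mul, Subgroup.coe_inv]
      rw [hg, h.ZW_inv, h.ZW_mul_ZW, h.W_inj]
      constructor
      · ring
      · ring

theorem Vt_eq_sup [Finite S] (a : ZMod (2 ^ n)) : h.Vt (2 * a) = h.Qa a ⊔ Subgroup.center S := by
  have hM := two_mul_Mz (n := n) h.n1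
  have hK := two_mul_Kz (n := n) h.hn
  apply le_antisymm
  · have hcen : ∀ e : ZMod (2 ^ n), W x y e e ∈ h.Qa a ⊔ Subgroup.center S :=
      fun e => Subgroup.mem_sup_right (h.mem_center_iff.mpr ⟨e, rfl⟩)
    have hi : W x y (Kz n) (-Kz n) ∈ h.Qa a ⊔ Subgroup.center S :=
      Subgroup.mem_sup_left (h.W_mem_Qa.mpr ⟨by linear_combination 2 * hK + hM, rfl⟩)
    rintro _ (⟨c, d, hcd, rfl⟩ | ⟨c, d, hcd, rfl⟩)
    · rcases eq_zero_or_eq_Mz_of_two_mul h.n1 hcd with h1 | h1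
      · have : c = d := sub_eq_zero.mp h1
        rw [this]; exact hcen d
      · have : W x y c d = W x y (Kz n) (-Kz n) * W x y (d + Kz n) (d + Kz n) := by
          rw [← h.W_add, h.W_inj]
          constructor
          · linear_combination h1 - hK
          · ring
        rw [this]
        exact Subgroup.mul_mem _ hi (hcen _)
    · -- `ZW c d = W e e * ZW (c - e) (d - e)` with `c + d - 2 e = M`
      have h2 : 2 * (c - d - 2 * a) = 0 := by linear_combination hcd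
      have key : ∀ e : ZMod (2 ^ n), 2 * e = c + d - Mz n →
          ZW x y z c d ∈ h.Qa a ⊔ Subgroup.center S := by
        intro e he
        have : ZW x y z c d = W x y e e * ZW x y z (c - e) (Mz n - (c - e)) := by
          rw [h.W_mul_ZW, h.ZW_inj]
          constructor
          · ring
          · linear_combination -he
        rw [this]
        apply Subgroup.mul_mem _ (hcen e)
        apply Subgroup.mem_sup_left
        rw [h.ZW_mem_Qa]
        refine ⟨?_, rfl⟩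
        linear_combination hcd - 2 * he + hM
      rcases eq_zero_or_eq_Mz_of_two_mul h.n1 h2 with h3 | h3
      · apply key (a + d - Kz n)
        linear_combination -h3 - hK
      · apply key (a + d)
        linear_combination -h3
  · exact sup_le (h.Qa_le_Vt a) (h.center_le_Vt _)

theorem mem_normalizer_Vt_of_mem [Finite S] (t : ZMod (2 ^ n)) {g : S} (hg : g ∈ h.NVt t) :
    g ∈ Subgroup.normalizer (h.Vt t : Set S) := by
  apply Cfsg.Agent.Lib.Helper9.mem_normalizer_of_conjMap_eq_self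
  apply Cfsg.Agent.Lib.Helper9.conjMap_eq_of_le
  rintro _ ⟨v, hv, rfl⟩
  simp only [MulEquiv.coe_toMonoidHom, MulAut.conj_apply]
  rcases hg with ⟨c, d, hcd, rfl⟩ | ⟨c, d, hcd, rfl⟩ <;>
  rcases hv with ⟨a, b, hab, rfl⟩ | ⟨a, b, hab, rfl⟩
  · rw [h.conj_W_W]; exact h.W_mem_Vt.mpr hab
  · rw [h.conj_W_ZW]; exact h.ZW_mem_Vt.mpr (by linear_combination hab + hcd)
  · rw [h.conj_ZW_W]; exact h.W_mem_Vt.mpr (by linear_combination -hab)
  · rw [h.conj_ZW_ZW]; exact h.ZW_mem_Vt.mpr (by linear_combination -hab + hcd)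

theorem normalizer_Vt [Finite S] (t : ZMod (2 ^ n)) :
    Subgroup.normalizer (h.Vt t : Set S) = h.NVt t := by
  apply le_antisymm
  · intro g hg
    have h0 : ZW x y z t 0 ∈ h.Vt t := h.ZW_mem_Vt.mpr (by ring)
    have h1 := (Subgroup.mem_normalizer_iff.mp hg _).mp h0
    rcases h.cases g with ⟨c, d, rfl⟩ | ⟨c, d, rfl⟩
    · rw [h.conj_W_ZW, h.ZW_mem_Vt] at h1
      exact h.W_mem_NVt.mpr (by linear_combination h1)
    · rw [h.conj_ZW_ZW, h.ZW_mem_Vt] at h1
      exact h.ZW_mem_NVt.mpr (by linear_combination h1)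
  · intro g hg
    exact h.mem_normalizer_Vt_of_mem t hg

theorem relIndex_Vt [Finite S] (t : ZMod (2 ^ n)) :
    (h.Vt t).relIndex (Subgroup.normalizer (h.Vt t : Set S)) = 2 := by
  have hM := two_mul_Mz (n := n) h.n1
  have hK := two_mul_Kz (n := n) h.hn
  have hM0 := Mz_ne_zero (n := n) h.n1
  rw [h.normalizer_Vt, Subgroup.relIndex_eq_two_iff_exists_notMem_and]
  refine ⟨W x y (Kz n) 0, h.W_mem_NVt.mpr (by linear_combination 2 * hK + hM), ?_, ?_⟩
  · rw [h.W_mem_Vt]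
    intro h1
    apply hM0
    linear_combination h1 - hK
  · rintro _ (⟨c, d, hcd, rfl⟩ | ⟨c, d, hcd, rfl⟩)
    · have h2 : 2 * (2 * (c - d)) = 0 := by linear_combination hcd
      rcases eq_zero_or_eq_Mz_of_two_mul h.n1 h2 with h3 | h3
      · right; exact h.W_mem_Vt.mpr h3
      · left
        rw [← h.W_add, h.W_mem_Vt]
        linear_combination h3 + hK + hM
    · have h2 : 2 * (2 * (c - d - t)) = 0 := by linear_combination hcd
      rcases eq_zero_or_eq_Mz_of_two_mul h.n1 h2 with h3 | h3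
      · right; exact h.ZW_mem_Vt.mpr (by linear_combination h3)
      · left
        rw [h.ZW_mul_W, h.ZW_mem_Vt]
        linear_combination h3 - hK

/-- `V_t` and `V_{t + 2 e}` are conjugate in `S` -/
theorem Vt_conj [Finite S] (t e : ZMod (2 ^ n)) :
    (h.Vt t).map (MulAut.conj (W x y e 0)).toMonoidHom = h.Vt (t + 2 * e) := by
  have key : ∀ (t e : ZMod (2 ^ n)),
      (h.Vt t).map (MulAut.conj (W x y e 0)).toMonoidHom ≤ h.Vt (t + 2 * e) := by
    intro t e
    rintro _ ⟨v, hv, rfl⟩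
    simp only [MulEquiv.coe_toMonoidHom, MulAut.conj_apply]
    rcases hv with ⟨a, b, hab, rfl⟩ | ⟨a, b, hab, rfl⟩
    · rw [h.conj_W_W]; exact h.W_mem_Vt.mpr hab
    · rw [h.conj_W_ZW]; exact h.ZW_mem_Vt.mpr (by linear_combination hab)
  apply le_antisymm (key t e)
  have := key (t + 2 * e) (-e)
  have e1 : t + 2 * e + 2 * -e = t := by ring
  have e2 : W x y (-e) 0 = (W x y e 0)⁻¹ := by rw [← h.W_neg, neg_zero]
  rw [e1, e2] at this
  have h3 := Cfsg.Agent.Lib.Helper9.conjMap_le_iff.mp this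
  rwa [inv_inv] at h3

/-- `V_t` is self-centralizing -/
theorem centralizer_Vt_le [Finite S] (t : ZMod (2 ^ n)) :
    Subgroup.centralizer (h.Vt t : Set S) ≤ h.Vt t := by
  have hM0 := Mz_ne_zero (n := n) h.n1
  have hM := two_mul_Mz (n := n) h.n1
  intro g hg
  rw [Subgroup.mem_centralizer_iff] at hg
  have h0 : ZW x y z t 0 ∈ h.Vt t := h.ZW_mem_Vt.mpr (by ring)
  have h1 : W x y (Mz n) 0 ∈ h.Vt t := h.W_mem_Vt.mpr (by linear_combination hM)
  rcases h.cases g with ⟨c, d, rfl⟩ | ⟨c, d, rfl⟩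
  · have h2 := hg _ h0
    rw [h.ZW_mul_W, h.W_mul_ZW, h.ZW_inj] at h2
    exact h.W_mem_Vt.mpr (by linear_combination -2 * h2.1)
  · exfalso
    have h2 := hg _ h1
    rw [h.W_mul_ZW, h.ZW_mul_W, h.ZW_inj] at h2
    apply hM0
    linear_combination h2.1

/-- every quaternion subgroup of order `8` is one of the `Q_a` -/
theorem quat_eq_Qa [Finite S] (Q : Subgroup S) (e : Q ≃* QuaternionGroup 2) :
    ∃ a : ZMod (2 ^ n), Q = h.Qa a := by
  have hM := two_mul_Mz (n := n) h.n1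
  have hM0 := Mz_ne_zero (n := n) h.n1
  have hNZ : NeZero 2 := ⟨by norm_num⟩
  have hexp : ∀ q : Q, q ^ 4 = 1 := by
    intro q
    have h4 : ∀ r : QuaternionGroup 2, r ^ 4 = 1 := by decide
    apply e.injective
    rw [map_pow, h4, map_one]
  have hcard : Nat.card Q = 8 := by
    rw [Nat.card_congr e.toEquiv, Nat.card_eq_fintype_card, QuaternionGroup.card]
  -- Q is not inside A
  have hnle : ¬ Q ≤ h.A := by
    intro hle
    apply quaternion_not_comm (k := 2) le_rfl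
    have hc : ∀ p q : Q, p * q = q * p := by
      rintro ⟨p, hp⟩ ⟨q, hq⟩
      obtain ⟨a, b, rfl⟩ := hle hp
      obtain ⟨c, d, rfl⟩ := hle hq
      exact Subtype.ext (h.W_comm a b c d)
    have := hc (e.symm (QuaternionGroup.a 1)) (e.symm (QuaternionGroup.xa 0))
    rw [← map_mul, ← map_mul] at this
    exact e.symm.injective this
  obtain ⟨u, huQ, huA⟩ := SetLike.not_le_iff_exists.mp hnle
  set B : Subgroup Q := h.A.subgroupOf Q with hB
  have hBidx : B.index = 2 := by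
    have hnorm : h.A.Normal := Subgroup.normal_of_index_eq_two h.index_A
    have h3 : h.A.relIndex Q ∣ h.A.index := Subgroup.relIndex_dvd_index_of_normal h.A Q
    rw [h.index_A] at h3
    have h4 : h.A.relIndex Q ≠ 1 := by
      rw [Ne, Subgroup.relIndex_eq_one]; exact hnle
    rcases (Nat.dvd_prime Nat.prime_two).mp h3 with h5 | h5
    · exact absurd h5 h4
    · exact h5
  have hBcomm : ∀ p ∈ B, ∀ q ∈ B, p * q = q * p := by
    rintro ⟨p, hp⟩ hpB ⟨q, hq⟩ hqB
    rw [hB, Subgroup.mem_subgroupOf] at hpB hqB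
    obtain ⟨a, b, hab⟩ := hpB
    obtain ⟨c, d, hcd⟩ := hqB
    simp only at hab hcd
    subst hab; subst hcd
    exact Subtype.ext (h.W_comm a b c d)
  have ht2 : orderOf ((e.symm (QuaternionGroup.a ((2 : ℕ) : ZMod (2 * 2))) : Q) : S) = 2 := by
    rw [Subgroup.orderOf_coe, MulEquiv.orderOf_eq]
    apply orderOf_eq_prime
    · rw [pow_two]; exact quaternion_a_k_sq
    · exact quaternion_a_k_ne_one
  -- elements of Q outside A have coordinates summing to `M`
  have hout : ∀ a b : ZMod (2 ^ n), ZW x y z a b ∈ Q → a + b = Mz n := by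
    intro a b hab
    have hnB : (⟨ZW x y z a b, hab⟩ : Q) ∉ B := by
      rw [hB, Subgroup.mem_subgroupOf]
      exact h.ZW_not_mem_A a b
    have h1 := sq_of_not_mem_of_equiv (k := 2) le_rfl e B hBidx hBcomm _ hnB
    have h2 := congrArg Subtype.val h1
    simp only [Subgroup.coe_mul] at h2
    rw [h.ZW_mul_self] at h2
    have ht3 := ht2
    rw [← h2, h.orderOf_W_eq_two] at ht3
    rcases ht3 with ⟨h3, h4⟩ | ⟨h3, h4⟩ | ⟨h3, h4⟩
    · exfalso; rw [h3] at h4; exact hM0 h4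
    · exfalso; rw [h3] at h4; exact hM0 h4.symm
    · exact h3
  rcases h.cases u with ⟨c, d, rfl⟩ | ⟨a, b, rfl⟩
  · exact absurd (h.W_mem_A c d) huA
  have hab := hout a b huQ
  have hb : b = Mz n - a := by linear_combination hab
  subst hb
  refine ⟨a, ?_⟩
  -- elements of `Q ∩ A`
  have hin : ∀ c d : ZMod (2 ^ n), W x y c d ∈ Q → 4 * c = 0 ∧ d = -c := by
    intro c d hcd
    have h1 : W x y c d * ZW x y z a (Mz n - a) ∈ Q := Q.mul_mem hcd huQ
    rw [h.W_mul_ZW] at h1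
    have h2 := hout _ _ h1
    have hd : d = -c := by linear_combination h2
    refine ⟨?_, hd⟩
    have h3 := hexp ⟨W x y c d, hcd⟩
    have h4 := congrArg Subtype.val h3
    simp only [Subgroup.coe_pow, Subgroup.coe_one] at h4
    rw [h.W_pow, h.W_eq_one] at h4
    have := h4.1
    push_cast at this
    exact this
  apply Subgroup.eq_of_le_of_card_ge
  · intro g hg
    rcases h.cases g with ⟨c, d, rfl⟩ | ⟨c, d, rfl⟩
    · exact h.W_mem_Qa.mpr (hin c d hg)
    · have h1 : ZW x y z c d * (ZW x y z a (Mz n - a))⁻¹ ∈ Q := Q.mul_mem hg (Q.inv_mem huQ)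
      rw [h.ZW_inv, h.ZW_mul_ZW] at h1
      obtain ⟨h2, h3⟩ := hin _ _ h1
      rw [h.ZW_mem_Qa]
      constructor
      · linear_combination h2
      · linear_combination h3
  · obtain ⟨e'⟩ := h.Qa_quaternion a
    rw [hcard, Nat.card_congr e'.toEquiv, Nat.card_eq_fintype_card, QuaternionGroup.card]

/-- the centralizer of `V_t` is the centre of `S` -/
theorem centralizer_Vt_le_center [Finite S] (t : ZMod (2 ^ n)) :
    Subgroup.centralizer (h.Vt t : Set S) ≤ Subgroup.center S := by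
  have hM0 := Mz_ne_zero (n := n) h.n1
  have hM := two_mul_Mz (n := n) h.n1
  intro g hg
  rw [Subgroup.mem_centralizer_iff] at hg
  have h0 : ZW x y z t 0 ∈ h.Vt t := h.ZW_mem_Vt.mpr (by ring)
  have h1 : W x y (Mz n) 0 ∈ h.Vt t := h.W_mem_Vt.mpr (by linear_combination hM)
  rcases h.cases g with ⟨c, d, rfl⟩ | ⟨c, d, rfl⟩
  · have h2 := hg _ h0
    rw [h.ZW_mul_W, h.W_mul_ZW, h.ZW_inj] at h2
    rw [h.mem_center_iff]
    exact ⟨c, by rw [h.W_inj]; exact ⟨rfl, by linear_combination h2.1⟩⟩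
  · exfalso
    have h2 := hg _ h1
    rw [h.W_mul_ZW, h.ZW_mul_W, h.ZW_inj] at h2
    apply hM0
    linear_combination h2.1

theorem mem_zpowers_diag_iff [Finite S] {g : S} :
    g ∈ Subgroup.zpowers (W x y (1 : ZMod (2 ^ n)) 1) ↔ ∃ c : ZMod (2 ^ n), g = W x y c c := by
  rw [← h.center_eq, h.mem_center_iff]

end WrData

end Cfsg.Agent.Lib.Helper9.Wr
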