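import Mathlib
import Cfsg.Agent.Lib.Helper9.Wr.Cent
import Cfsg.Agent.Lib.Helper9.AutChain
import Cfsg.Agent.Lib.Helper9.QD.SubAut
import Cfsg.Agent.Lib.Helper9.Dih.TwoPow

set_option autoImplicit false

/-!
# Self-centralizing subgroups of a wreathed 2-group whose automorphism group is not a 2-group
-/

namespace Cfsg.Agent.Lib.Helper9.Wr

open Cfsg.Agent.Lib.Helper9.QD (Mz Kz two_mul_Mz two_mul_Kz Mz_ne_zero eq_zero_or_eq_Mz_of_two_mul
  eq_of_four_mul Mz_mul_Mz Mz_mul_even Mz_mul_odd even_or_odd coe_mem_zpowers_iff)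

open Cfsg.Agent.Lib.Helper9 (mem_conjMap conj_mem_conjMap)

variable {S : Type*} [Group S] {n : ℕ} {x y z : S}

/-- central elements are mapped to central elements -/
theorem apply_mem_center {X : Type*} [Group X] (α : MulAut X) {w : X}
    (hw : w ∈ Subgroup.center X) : α w ∈ Subgroup.center X := by
  rw [Subgroup.mem_center_iff] at hw ⊢
  intro g
  have := hw (α⁻¹ g)
  have h2 := congrArg α this
  rw [map_mul, map_mul] at h2
  simpa using h2

theorem pow_eq_one_of_mem_zpowers {G : Type*} [Group G] {w g : G} {N : ℕ} (hw : w ^ N = 1)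
    (hg : g ∈ Subgroup.zpowers w) : g ^ N = 1 := by
  obtain ⟨m, rfl⟩ := Subgroup.mem_zpowers_iff.mp hg
  rw [← zpow_natCast, ← zpow_mul, mul_comm, zpow_mul, zpow_natCast, hw, one_zpow]

namespace WrData

variable (h : WrData S n x y z)
include h

theorem pow_two_pow_W (c d : ZMod (2 ^ n)) : (W x y c d) ^ (2 ^ n) = 1 := by
  rw [h.W_pow, h.W_eq_one]
  have : ((2 ^ n : ℕ) : ZMod (2 ^ n)) = 0 := ZMod.natCast_self _
  rw [this]
  simp

theorem pow_half_W (c d : ZMod (2 ^ n)) :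
    (W x y c d) ^ (2 ^ (n - 1)) = W x y (Mz n * c) (Mz n * d) := by
  rw [h.W_pow]
  rfl

theorem pow_two_pow_ZW (c d : ZMod (2 ^ n)) :
    (ZW x y z c d) ^ (2 ^ n) = W x y (Mz n * (c + d)) (Mz n * (c + d)) := by
  have hn := h.n1
  have e1 : (ZW x y z c d) ^ (2 ^ n) = ((ZW x y z c d) ^ 2) ^ (2 ^ (n - 1)) := by
    rw [← pow_mul]
    congr 1
    rw [← pow_succ']; congr 1; omega
  rw [e1, pow_two, h.ZW_mul_self, h.pow_half_W]

/-- **the modular case**: `Aut (V_t)` is a `2`-group for odd `t` -/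
theorem isPGroup_mulAut_Vt_of_odd [Finite S] (t : ZMod (2 ^ n)) (ht : Mz n * t = Mz n) :
    IsPGroup 2 (MulAut (h.Vt t)) := by
  have hM := two_mul_Mz (n := n) h.n1
  have hM0 := Mz_ne_zero (n := n) h.n1
  have hMM := Mz_mul_Mz (n := n) h.hn
  have hw_mem : W x y (1 : ZMod (2 ^ n)) 1 ∈ h.Vt t := h.W_mem_Vt.mpr (by ring)
  have hzw : ∀ g : h.Vt t, g ∈ Subgroup.zpowers (⟨W x y (1 : ZMod (2 ^ n)) 1, hw_mem⟩ : h.Vt t) ↔
      ∃ c : ZMod (2 ^ n), (g : S) = W x y c c := by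
    intro g
    rw [coe_mem_zpowers_iff]
    exact h.mem_zpowers_diag_iff
  -- characterization of `D`
  have hD : ∀ g : h.Vt t, g ∈ h.B.subgroupOf (h.Vt t) ↔ g ^ (2 ^ n) = 1 := by
    rintro ⟨g, hg⟩
    rw [Subgroup.mem_subgroupOf]
    constructor
    · rintro ⟨c, d, -, he⟩
      apply Subtype.ext
      simp only at he
      simp only [Subgroup.coe_pow, Subgroup.coe_one]
      rw [he, h.pow_two_pow_W]
    · intro hp
      have hp' : g ^ (2 ^ n) = 1 := by
        have := congrArg Subtype.val hp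
        simpa using this
      rcases hg with ⟨c, d, hcd, rfl⟩ | ⟨c, d, hcd, rfl⟩
      · exact h.W_mem_B.mpr hcd
      · exfalso
        rw [h.pow_two_pow_ZW, h.W_eq_one] at hp'
        have h2 : 2 * (c - d - t) = 0 := by linear_combination hcd
        apply hM0
        rcases eq_zero_or_eq_Mz_of_two_mul h.n1 h2 with h3 | h3
        · have : c = d + t := by linear_combination h3
          rw [this] at hp'
          linear_combination hp'.1 - ht - d * hM
        · have : c = d + t + Mz n := by linear_combination h3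
          rw [this] at hp'
          linear_combination hp'.1 - ht - d * hM - hMM
  apply AutChain.isPGroup_of_chain3 (⟨W x y (1 : ZMod (2 ^ n)) 1, hw_mem⟩ : h.Vt t) n h.n1
    (by rw [Subgroup.orderOf_mk, h.orderOf_W_of_odd (Or.inl h.Mz_mul_one_ne)])
    (h.B.subgroupOf (h.Vt t)) n
  · intro g hg
    exact (hD g).mp hg
  · -- `α w` is central
    intro α
    have hwc : (⟨W x y (1 : ZMod (2 ^ n)) 1, hw_mem⟩ : h.Vt t) ∈ Subgroup.center (h.Vt t) := by
      rw [Subgroup.mem_center_iff]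
      intro g
      apply Subtype.ext
      simp only [Subgroup.coe_mul]
      have := h.diag_central (1 : ZMod (2 ^ n)) (g : S)
      calc (g : S) * W x y (1 : ZMod (2 ^ n)) 1
          = ((g : S) * W x y (1 : ZMod (2 ^ n)) 1 * (g : S)⁻¹) * (g : S) := by group
        _ = W x y (1 : ZMod (2 ^ n)) 1 * (g : S) := by rw [this]
    have h1 := apply_mem_center α hwc
    rw [hzw]
    have h2 : ((α ⟨W x y (1 : ZMod (2 ^ n)) 1, hw_mem⟩ : h.Vt t) : S) ∈
        Subgroup.centralizer (h.Vt t : Set S) := by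
      rw [Subgroup.mem_centralizer_iff]
      intro v hv
      have := (Subgroup.mem_center_iff.mp h1) ⟨v, hv⟩
      exact congrArg Subtype.val this
    exact h.mem_center_iff.mp (h.centralizer_Vt_le_center t h2)
  · intro α g hg
    rw [hD] at hg ⊢
    rw [← map_pow, hg, map_one]
  · rintro ⟨g, hg⟩ hgD ⟨g', hg'⟩ hg'D hgC hg'C
    rw [hzw] at hgC hg'C ⊢
    rw [Subgroup.mem_subgroupOf] at hgD hg'D
    simp only at hgD hg'D hgC hg'C
    simp only [Subgroup.coe_mul, Subgroup.coe_inv]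
    obtain ⟨c, d, hcd, rfl⟩ := hgD
    obtain ⟨c', d', hcd', rfl⟩ := hg'D
    have h1 : c - d = Mz n := by
      rcases eq_zero_or_eq_Mz_of_two_mul h.n1 hcd with h3 | h3
      · exfalso; apply hgC; exact ⟨c, by rw [sub_eq_zero.mp h3]⟩
      · exact h3
    have h2 : c' - d' = Mz n := by
      rcases eq_zero_or_eq_Mz_of_two_mul h.n1 hcd' with h3 | h3
      · exfalso; apply hg'C; exact ⟨c', by rw [sub_eq_zero.mp h3]⟩
      · exact h3
    refine ⟨-c + c', ?_⟩
    rw [← h.W_neg, ← h.W_add, h.W_inj]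
    exact ⟨rfl, by linear_combination h1 - h2⟩
  · rintro ⟨g, hg⟩ ⟨g', hg'⟩ hgD hg'D
    rw [Subgroup.mem_subgroupOf] at hgD hg'D ⊢
    simp only at hgD hg'D
    simp only [Subgroup.coe_mul, Subgroup.coe_inv]
    rcases hg with ⟨c, d, hcd, rfl⟩ | ⟨c, d, hcd, rfl⟩
    · exact absurd (h.W_mem_B.mpr hcd) hgD
    rcases hg' with ⟨c', d', hcd', rfl⟩ | ⟨c', d', hcd', rfl⟩
    · exact absurd (h.W_mem_B.mpr hcd') hg'D
    rw [h.ZW_inv, h.ZW_mul_ZW, h.W_mem_B]
    linear_combination hcd - hcd'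

/-! ### The abelian self-centralizing subgroups not contained in `A` -/

omit h in
theorem Mz_mul_cases (hn : 1 ≤ n) (e : ZMod (2 ^ n)) : Mz n * e = 0 ∨ Mz n * e = Mz n := by
  rcases even_or_odd e with ⟨j, rfl⟩ | ⟨j, rfl⟩
  · exact Or.inl (Mz_mul_even hn j)
  · exact Or.inr (Mz_mul_odd hn j)

omit h in
theorem exists_two_mul_of_Mz_mul (hn : 1 ≤ n) {e : ZMod (2 ^ n)} (he : Mz n * e = 0) :
    ∃ j, e = 2 * j := by
  rcases even_or_odd e with ⟨j, rfl⟩ | ⟨j, rfl⟩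
  · exact ⟨j, rfl⟩
  · exfalso
    rw [Mz_mul_odd hn] at he
    exact Mz_ne_zero hn he

omit h in
theorem exists_two_mul_add_one_of_Mz_mul (hn : 1 ≤ n) {e : ZMod (2 ^ n)} (he : Mz n * e = Mz n) :
    ∃ j, e = 2 * j + 1 := by
  rcases even_or_odd e with ⟨j, rfl⟩ | ⟨j, rfl⟩
  · exfalso
    rw [Mz_mul_even hn] at he
    exact Mz_ne_zero hn he.symm
  · exact ⟨j, rfl⟩

end WrData

namespace WrData

/-- `Y_s = Z(S) ∪ {ZW c (c - s)}` -/
def Ys (h : WrData S n x y z) (s : ZMod (2 ^ n)) : Subgroup S where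
  carrier := {g | (∃ c : ZMod (2 ^ n), g = W x y c c) ∨
    (∃ c : ZMod (2 ^ n), g = ZW x y z c (c - s))}
  one_mem' := Or.inl ⟨0, W_zero.symm⟩
  mul_mem' := by
    rintro _ _ (⟨c, rfl⟩ | ⟨c, rfl⟩) (⟨d, rfl⟩ | ⟨d, rfl⟩)
    · left; exact ⟨c + d, (h.W_add _ _ _ _).symm⟩
    · right; exact ⟨c + d, by rw [h.W_mul_ZW, h.ZW_inj]; constructor <;> ring⟩
    · right; exact ⟨c + d, by rw [h.ZW_mul_W, h.ZW_inj]; constructor <;> ring⟩
    · left; exact ⟨c + d - s, by rw [h.ZW_mul_ZW, h.W_inj]; constructor <;> ring⟩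
  inv_mem' := by
    rintro _ (⟨c, rfl⟩ | ⟨c, rfl⟩)
    · left; exact ⟨-c, (h.W_neg _ _).symm⟩
    · right; exact ⟨s - c, by rw [h.ZW_inv, h.ZW_inj]; constructor <;> ring⟩

/-- the characteristic subgroup `{g ∈ Y_{2 s'} : g ^ 2^(n-1) = 1}` -/
def Ds (h : WrData S n x y z) (s' : ZMod (2 ^ n)) : Subgroup S where
  carrier := {g | (∃ c : ZMod (2 ^ n), Mz n * c = 0 ∧ g = W x y c c) ∨
    (∃ c : ZMod (2 ^ n), Mz n * (c - s') = 0 ∧ g = ZW x y z c (c - 2 * s'))}
  one_mem' := Or.inl ⟨0, mul_zero _, W_zero.symm⟩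
  mul_mem' := by
    rintro _ _ (⟨c, hc, rfl⟩ | ⟨c, hc, rfl⟩) (⟨d, hd, rfl⟩ | ⟨d, hd, rfl⟩)
    · left; exact ⟨c + d, by linear_combination hc + hd, (h.W_add _ _ _ _).symm⟩
    · right
      exact ⟨c + d, by linear_combination hc + hd,
        by rw [h.W_mul_ZW, h.ZW_inj]; constructor <;> ring⟩
    · right
      exact ⟨c + d, by linear_combination hc + hd,
        by rw [h.ZW_mul_W, h.ZW_inj]; constructor <;> ring⟩
    · left
      exact ⟨c + d - 2 * s', by linear_combination hc + hd,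
        by rw [h.ZW_mul_ZW, h.W_inj]; constructor <;> ring⟩
  inv_mem' := by
    rintro _ (⟨c, hc, rfl⟩ | ⟨c, hc, rfl⟩)
    · left; exact ⟨-c, by linear_combination -hc, (h.W_neg _ _).symm⟩
    · right
      exact ⟨2 * s' - c, by linear_combination -hc,
        by rw [h.ZW_inv, h.ZW_inj]; constructor <;> ring⟩

variable (h : WrData S n x y z)
include h

theorem W_mem_Ys {s c d : ZMod (2 ^ n)} : W x y c d ∈ h.Ys s ↔ c = d := by
  constructor
  · rintro (⟨e, he⟩ | ⟨e, he⟩)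
    · obtain ⟨rfl, rfl⟩ := h.W_inj.mp he; rfl
    · exact absurd he (h.W_ne_ZW _ _ _ _)
  · rintro rfl; exact Or.inl ⟨c, rfl⟩

theorem ZW_mem_Ys {s c d : ZMod (2 ^ n)} : ZW x y z c d ∈ h.Ys s ↔ c - d = s := by
  constructor
  · rintro (⟨e, he⟩ | ⟨e, he⟩)
    · exact absurd he.symm (h.W_ne_ZW _ _ _ _)
    · obtain ⟨rfl, rfl⟩ := h.ZW_inj.mp he; ring
  · intro hcd; exact Or.inr ⟨c, by rw [h.ZW_inj]; exact ⟨rfl, by linear_combination -hcd⟩⟩

/-- squares of elements of `Y_s` -/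
theorem sq_mem_Ys {s : ZMod (2 ^ n)} (g : h.Ys s) :
    (∃ c : ZMod (2 ^ n), ((g * g : h.Ys s) : S) = W x y (2 * c) (2 * c)) ∨
    (∃ c : ZMod (2 ^ n), ((g * g : h.Ys s) : S) = W x y (2 * c - s) (2 * c - s)) := by
  rcases g.2 with ⟨c, hc⟩ | ⟨c, hc⟩
  · left
    refine ⟨c, ?_⟩
    simp only [Subgroup.coe_mul]
    rw [hc, ← h.W_add, h.W_inj]; constructor <;> ring
  · right
    refine ⟨c, ?_⟩
    simp only [Subgroup.coe_mul]
    rw [hc, h.ZW_mul_self, h.W_inj]; constructor <;> ring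

/-- `Aut (Y_s)` is a `2`-group for odd `s` (cyclic case) -/
theorem isPGroup_mulAut_Ys_of_odd [Finite S] (s : ZMod (2 ^ n)) (hs : Mz n * s = Mz n) :
    IsPGroup 2 (MulAut (h.Ys s)) := by
  have hw_mem : W x y (1 : ZMod (2 ^ n)) 1 ∈ h.Ys s := h.W_mem_Ys.mpr rfl
  have hzw : ∀ g : h.Ys s, g ∈ Subgroup.zpowers (⟨W x y (1 : ZMod (2 ^ n)) 1, hw_mem⟩ : h.Ys s) ↔
      ∃ c : ZMod (2 ^ n), (g : S) = W x y c c := by
    intro g
    rw [coe_mem_zpowers_iff]
    exact h.mem_zpowers_diag_iff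
  have hord : orderOf (⟨W x y (1 : ZMod (2 ^ n)) 1, hw_mem⟩ : h.Ys s) = 2 ^ n := by
    rw [Subgroup.orderOf_mk, h.orderOf_W_of_odd (Or.inl h.Mz_mul_one_ne)]
  have hsq : ∀ g : h.Ys s, g * g ∈
      Subgroup.zpowers (⟨W x y (1 : ZMod (2 ^ n)) 1, hw_mem⟩ : h.Ys s) := by
    intro g
    rw [hzw]
    rcases h.sq_mem_Ys g with ⟨c, hc⟩ | ⟨c, hc⟩
    · exact ⟨_, hc⟩
    · exact ⟨_, hc⟩
  obtain ⟨j, rfl⟩ := exists_two_mul_add_one_of_Mz_mul h.n1 hs
  have hv_mem : ZW x y z (j + 1) (j + 1 - (2 * j + 1)) ∈ h.Ys (2 * j + 1) :=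
    h.ZW_mem_Ys.mpr (by ring)
  have hwv : (⟨W x y (1 : ZMod (2 ^ n)) 1, hw_mem⟩ : h.Ys (2 * j + 1)) =
      ⟨_, hv_mem⟩ * ⟨_, hv_mem⟩ := by
    apply Subtype.ext
    simp only [Subgroup.coe_mul]
    rw [h.ZW_mul_self, h.W_inj]; constructor <;> ring
  have h1 : ∀ α : MulAut (h.Ys (2 * j + 1)),
      α ⟨W x y (1 : ZMod (2 ^ n)) 1, hw_mem⟩ ∈
        Subgroup.zpowers (⟨W x y (1 : ZMod (2 ^ n)) 1, hw_mem⟩ : h.Ys (2 * j + 1)) := by
    intro α
    have e1 : α ⟨W x y (1 : ZMod (2 ^ n)) 1, hw_mem⟩ = α ⟨_, hv_mem⟩ * α ⟨_, hv_mem⟩ := by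
      rw [hwv, map_mul]
    rw [e1]
    exact hsq _
  have hw1 : (⟨W x y (1 : ZMod (2 ^ n)) 1, hw_mem⟩ : h.Ys (2 * j + 1)) ^ (2 ^ n) = 1 :=
    orderOf_dvd_iff_pow_eq_one.mp (dvd_of_eq hord)
  apply AutChain.isPGroup_of_chain3 (⟨W x y (1 : ZMod (2 ^ n)) 1, hw_mem⟩ : h.Ys (2 * j + 1))
    n h.n1 hord (Subgroup.zpowers ⟨W x y (1 : ZMod (2 ^ n)) 1, hw_mem⟩) n
  · intro g hg
    exact pow_eq_one_of_mem_zpowers hw1 hg
  · exact h1
  · intro α g hg
    obtain ⟨m, rfl⟩ := Subgroup.mem_zpowers_iff.mp hg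
    rw [map_zpow]
    exact Subgroup.zpow_mem _ (h1 α) m
  · intro g hg g' _ hgC _
    exact absurd hg hgC
  · rintro ⟨g, hg⟩ ⟨g', hg'⟩ hgD hg'D
    rw [hzw] at hgD hg'D ⊢
    simp only at hgD hg'D
    simp only [Subgroup.coe_mul, Subgroup.coe_inv]
    rcases hg with ⟨c, rfl⟩ | ⟨c, rfl⟩
    · exact absurd ⟨c, rfl⟩ hgD
    rcases hg' with ⟨c', rfl⟩ | ⟨c', rfl⟩
    · exact absurd ⟨c', rfl⟩ hg'D
    refine ⟨c' - c, ?_⟩
    rw [h.ZW_inv, h.ZW_mul_ZW, h.W_inj]
    constructor <;> ring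

theorem pow_quarter_W (c d : ZMod (2 ^ n)) :
    (W x y c d) ^ (2 ^ (n - 2)) = W x y (Kz n * c) (Kz n * d) := by
  rw [h.W_pow]
  rfl

theorem pow_half_ZW (c d : ZMod (2 ^ n)) :
    (ZW x y z c d) ^ (2 ^ (n - 1)) = W x y (Kz n * (c + d)) (Kz n * (c + d)) := by
  have hn := h.hn
  have e1 : (ZW x y z c d) ^ (2 ^ (n - 1)) = ((ZW x y z c d) ^ 2) ^ (2 ^ (n - 2)) := by
    rw [← pow_mul]
    congr 1
    rw [← pow_succ']; congr 1; omega
  rw [e1, pow_two, h.ZW_mul_self, h.pow_quarter_W]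

theorem W_mem_Ds {s' c d : ZMod (2 ^ n)} : W x y c d ∈ h.Ds s' ↔ c = d ∧ Mz n * c = 0 := by
  constructor
  · rintro (⟨e, he0, he⟩ | ⟨e, _, he⟩)
    · obtain ⟨rfl, rfl⟩ := h.W_inj.mp he; exact ⟨rfl, he0⟩
    · exact absurd he (h.W_ne_ZW _ _ _ _)
  · rintro ⟨rfl, hc⟩; exact Or.inl ⟨c, hc, rfl⟩

theorem ZW_mem_Ds {s' c d : ZMod (2 ^ n)} :
    ZW x y z c d ∈ h.Ds s' ↔ d = c - 2 * s' ∧ Mz n * (c - s') = 0 := by
  constructor
  · rintro (⟨e, _, he⟩ | ⟨e, he0, he⟩)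
    · exact absurd he.symm (h.W_ne_ZW _ _ _ _)
    · obtain ⟨rfl, rfl⟩ := h.ZW_inj.mp he; exact ⟨rfl, he0⟩
  · rintro ⟨rfl, hc⟩; exact Or.inr ⟨c, hc, rfl⟩

/-- `Aut (Y_s)` is a `2`-group for even `s` -/
theorem isPGroup_mulAut_Ys_of_even [Finite S] (s' : ZMod (2 ^ n)) :
    IsPGroup 2 (MulAut (h.Ys (2 * s'))) := by
  have hn2 := h.hn
  have hM := two_mul_Mz (n := n) h.n1
  have hK := two_mul_Kz (n := n) h.hn
  have hM0 := Mz_ne_zero (n := n) h.n1
  have hw_mem : W x y (2 : ZMod (2 ^ n)) 2 ∈ h.Ys (2 * s') := h.W_mem_Ys.mpr rfl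
  have hw1_mem : W x y (1 : ZMod (2 ^ n)) 1 ∈ h.Ys (2 * s') := h.W_mem_Ys.mpr rfl
  have hzw : ∀ g : h.Ys (2 * s'),
      g ∈ Subgroup.zpowers (⟨W x y (2 : ZMod (2 ^ n)) 2, hw_mem⟩ : h.Ys (2 * s')) ↔
      ∃ k : ZMod (2 ^ n), (g : S) = W x y (2 * k) (2 * k) := by
    intro g
    rw [coe_mem_zpowers_iff]
    simp only
    rw [h.mem_zpowers_W_iff]
    constructor
    · rintro ⟨k, hk⟩; exact ⟨k, by rw [hk, mul_comm]⟩
    · rintro ⟨k, hk⟩; exact ⟨k, by rw [hk, mul_comm]⟩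
  have hord : orderOf (⟨W x y (2 : ZMod (2 ^ n)) 2, hw_mem⟩ : h.Ys (2 * s')) = 2 ^ (n - 1) := by
    rw [Subgroup.orderOf_mk]
    have e : n - 1 = (n - 2) + 1 := by omega
    have h1 : ¬ (W x y (2 : ZMod (2 ^ n)) 2) ^ 2 ^ (n - 2) = 1 := by
      rw [h.pow_quarter_W, h.W_eq_one]
      rintro ⟨h1, -⟩
      apply hM0
      linear_combination h1 - hK
    have h2 : (W x y (2 : ZMod (2 ^ n)) 2) ^ 2 ^ ((n - 2) + 1) = 1 := by
      rw [pow_succ, pow_mul, h.pow_quarter_W, h.W_pow, h.W_eq_one]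
      push_cast
      constructor <;> linear_combination 2 * hK + hM
    have := orderOf_eq_prime_pow h1 h2
    rw [this, ← e]
  have hw1 : (⟨W x y (2 : ZMod (2 ^ n)) 2, hw_mem⟩ : h.Ys (2 * s')) ^ (2 ^ (n - 1)) = 1 :=
    orderOf_dvd_iff_pow_eq_one.mp (dvd_of_eq hord)
  -- characterization of `D`
  have hD : ∀ g : h.Ys (2 * s'), g ∈ (h.Ds s').subgroupOf (h.Ys (2 * s')) ↔
      g ^ (2 ^ (n - 1)) = 1 := by
    rintro ⟨g, hg⟩
    rw [Subgroup.mem_subgroupOf]
    have hcoe : (⟨g, hg⟩ : h.Ys (2 * s')) ^ (2 ^ (n - 1)) = 1 ↔ g ^ (2 ^ (n - 1)) = 1 := by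
      constructor
      · intro hp
        have := congrArg Subtype.val hp
        simpa using this
      · intro hp
        apply Subtype.ext
        simpa using hp
    rw [hcoe]
    simp only
    rcases hg with ⟨c, rfl⟩ | ⟨c, rfl⟩
    · rw [h.W_mem_Ds, h.pow_half_W, h.W_eq_one]
      exact ⟨fun h1 => ⟨h1.2, h1.2⟩, fun h1 => ⟨rfl, h1.1⟩⟩
    · rw [h.ZW_mem_Ds, h.pow_half_ZW, h.W_eq_one]
      constructor
      · rintro ⟨-, h1⟩
        have : Kz n * (c + (c - 2 * s')) = 0 := by linear_combination h1 + (c - s') * hK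
        exact ⟨this, this⟩
      · rintro ⟨h1, -⟩
        exact ⟨rfl, by linear_combination h1 - (c - s') * hK⟩
  -- squares
  have hsq : ∀ g : h.Ys (2 * s'), g * g ∈
      Subgroup.zpowers (⟨W x y (2 : ZMod (2 ^ n)) 2, hw_mem⟩ : h.Ys (2 * s')) := by
    intro g
    rw [hzw]
    rcases h.sq_mem_Ys g with ⟨c, hc⟩ | ⟨c, hc⟩
    · exact ⟨c, hc⟩
    · exact ⟨c - s', by rw [hc, h.W_inj]; constructor <;> ring⟩
  have hww : (⟨W x y (2 : ZMod (2 ^ n)) 2, hw_mem⟩ : h.Ys (2 * s')) =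
      ⟨_, hw1_mem⟩ * ⟨_, hw1_mem⟩ := by
    apply Subtype.ext
    simp only [Subgroup.coe_mul]
    rw [← h.W_add, h.W_inj]; constructor <;> ring
  have h1 : ∀ α : MulAut (h.Ys (2 * s')),
      α ⟨W x y (2 : ZMod (2 ^ n)) 2, hw_mem⟩ ∈
        Subgroup.zpowers (⟨W x y (2 : ZMod (2 ^ n)) 2, hw_mem⟩ : h.Ys (2 * s')) := by
    intro α
    have e1 : α ⟨W x y (2 : ZMod (2 ^ n)) 2, hw_mem⟩ = α ⟨_, hw1_mem⟩ * α ⟨_, hw1_mem⟩ := by
      rw [hww, map_mul]
    rw [e1]
    exact hsq _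
  apply AutChain.isPGroup_of_chain3 (⟨W x y (2 : ZMod (2 ^ n)) 2, hw_mem⟩ : h.Ys (2 * s'))
    (n - 1) (by omega) hord ((h.Ds s').subgroupOf (h.Ys (2 * s'))) (n - 1)
  · intro g hg
    exact (hD g).mp hg
  · exact h1
  · intro α g hg
    rw [hD] at hg ⊢
    rw [← map_pow, hg, map_one]
  · rintro ⟨g, hg⟩ hgD ⟨g', hg'⟩ hg'D hgC hg'C
    rw [hzw] at hgC hg'C ⊢
    rw [Subgroup.mem_subgroupOf] at hgD hg'D
    simp only at hgD hg'D hgC hg'C
    simp only [Subgroup.coe_mul, Subgroup.coe_inv]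
    rcases hg with ⟨c, rfl⟩ | ⟨c, rfl⟩
    · exfalso
      obtain ⟨-, hc⟩ := h.W_mem_Ds.mp hgD
      obtain ⟨k, rfl⟩ := exists_two_mul_of_Mz_mul h.n1 hc
      exact hgC ⟨k, rfl⟩
    rcases hg' with ⟨c', rfl⟩ | ⟨c', rfl⟩
    · exfalso
      obtain ⟨-, hc⟩ := h.W_mem_Ds.mp hg'D
      obtain ⟨k, rfl⟩ := exists_two_mul_of_Mz_mul h.n1 hc
      exact hg'C ⟨k, rfl⟩
    obtain ⟨-, hc⟩ := h.ZW_mem_Ds.mp hgD
    obtain ⟨-, hc'⟩ := h.ZW_mem_Ds.mp hg'D
    have hcc : Mz n * (c' - c) = 0 := by linear_combination hc' - hc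
    obtain ⟨k, hk⟩ := exists_two_mul_of_Mz_mul h.n1 hcc
    refine ⟨k, ?_⟩
    rw [h.ZW_inv, h.ZW_mul_ZW, h.W_inj]
    constructor
    · linear_combination hk
    · linear_combination hk
  · rintro ⟨g, hg⟩ ⟨g', hg'⟩ hgD hg'D
    rw [Subgroup.mem_subgroupOf] at hgD hg'D ⊢
    simp only at hgD hg'D
    simp only [Subgroup.coe_mul, Subgroup.coe_inv]
    rcases hg with ⟨c, rfl⟩ | ⟨c, rfl⟩ <;> rcases hg' with ⟨c', rfl⟩ | ⟨c', rfl⟩
    · rw [h.W_mem_Ds] at hgD hg'D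
      have hc : Mz n * c = Mz n := by
        rcases Mz_mul_cases h.n1 c with h0 | h0
        · exact absurd ⟨rfl, h0⟩ hgD
        · exact h0
      have hc' : Mz n * c' = Mz n := by
        rcases Mz_mul_cases h.n1 c' with h0 | h0
        · exact absurd ⟨rfl, h0⟩ hg'D
        · exact h0
      rw [← h.W_neg, ← h.W_add, h.W_mem_Ds]
      exact ⟨rfl, by linear_combination hc' - hc⟩
    · rw [h.W_mem_Ds] at hgD
      rw [h.ZW_mem_Ds] at hg'D
      have hc : Mz n * c = Mz n := by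
        rcases Mz_mul_cases h.n1 c with h0 | h0
        · exact absurd ⟨rfl, h0⟩ hgD
        · exact h0
      have hc' : Mz n * (c' - s') = Mz n := by
        rcases Mz_mul_cases h.n1 (c' - s') with h0 | h0
        · exact absurd ⟨rfl, h0⟩ hg'D
        · exact h0
      rw [← h.W_neg, h.W_mul_ZW, h.ZW_mem_Ds]
      exact ⟨by ring, by linear_combination hc' - hc⟩
    · rw [h.ZW_mem_Ds] at hgD
      rw [h.W_mem_Ds] at hg'D
      have hc : Mz n * (c - s') = Mz n := by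
        rcases Mz_mul_cases h.n1 (c - s') with h0 | h0
        · exact absurd ⟨rfl, h0⟩ hgD
        · exact h0
      have hc' : Mz n * c' = Mz n := by
        rcases Mz_mul_cases h.n1 c' with h0 | h0
        · exact absurd ⟨rfl, h0⟩ hg'D
        · exact h0
      rw [h.ZW_inv, h.ZW_mul_W, h.ZW_mem_Ds]
      exact ⟨by ring, by linear_combination hc' - hc⟩
    · rw [h.ZW_mem_Ds] at hgD hg'D
      have hc : Mz n * (c - s') = Mz n := by
        rcases Mz_mul_cases h.n1 (c - s') with h0 | h0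
        · exact absurd ⟨rfl, h0⟩ hgD
        · exact h0
      have hc' : Mz n * (c' - s') = Mz n := by
        rcases Mz_mul_cases h.n1 (c' - s') with h0 | h0
        · exact absurd ⟨rfl, h0⟩ hg'D
        · exact h0
      rw [h.ZW_inv, h.ZW_mul_ZW, h.W_mem_Ds]
      exact ⟨by ring, by linear_combination hc' - hc⟩

/-! ### The classification -/

theorem center_le_of_centric (X : Subgroup S) (hC : Subgroup.centralizer (X : Set S) ≤ X) :
    Subgroup.center S ≤ X := by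
  intro g hg
  apply hC
  rw [Subgroup.mem_centralizer_iff]
  intro v _
  exact (Subgroup.mem_center_iff.mp hg v)

/-- abelian self-centralizing subgroups not inside `A` have a `2`-group of automorphisms -/
theorem isPGroup_mulAut_of_comm [Finite S] (X : Subgroup S)
    (hC : Subgroup.centralizer (X : Set S) ≤ X) (hX : IsMulCommutative X) (hnle : ¬ X ≤ h.A) :
    IsPGroup 2 (MulAut X) := by
  obtain ⟨u, huX, huA⟩ := SetLike.not_le_iff_exists.mp hnle
  rcases h.cases u with ⟨c, d, rfl⟩ | ⟨a₀, b₀, rfl⟩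
  · exact absurd (h.W_mem_A c d) huA
  have hcomm : ∀ g ∈ X, ZW x y z a₀ b₀ * g = g * ZW x y z a₀ b₀ := by
    intro g hg
    have := (isMulCommutative_iff.mp hX) ⟨ZW x y z a₀ b₀, huX⟩ ⟨g, hg⟩
    exact congrArg Subtype.val this
  have hZX := h.center_le_of_centric X hC
  have hXY : X = h.Ys (a₀ - b₀) := by
    apply le_antisymm
    · intro g hg
      have h1 := hcomm g hg
      rcases h.cases g with ⟨c, d, rfl⟩ | ⟨c, d, rfl⟩
      · rw [h.ZW_mul_W, h.W_mul_ZW, h.ZW_inj] at h1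
        exact h.W_mem_Ys.mpr (by linear_combination -h1.1)
      · rw [h.ZW_mul_ZW, h.ZW_mul_ZW, h.W_inj] at h1
        exact h.ZW_mem_Ys.mpr (by linear_combination -h1.1)
    · rintro _ (⟨c, rfl⟩ | ⟨c, rfl⟩)
      · exact hZX (h.mem_center_iff.mpr ⟨c, rfl⟩)
      · have : ZW x y z c (c - (a₀ - b₀)) = W x y (c - a₀) (c - a₀) * ZW x y z a₀ b₀ := by
          rw [h.W_mul_ZW, h.ZW_inj]; constructor <;> ring
        rw [this]
        exact X.mul_mem (hZX (h.mem_center_iff.mpr ⟨_, rfl⟩)) huX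
  rw [hXY]
  rcases Mz_mul_cases h.n1 (a₀ - b₀) with h0 | h0
  · obtain ⟨s', hs'⟩ := exists_two_mul_of_Mz_mul h.n1 h0
    rw [hs']
    exact h.isPGroup_mulAut_Ys_of_even s'
  · exact h.isPGroup_mulAut_Ys_of_odd _ h0

/-- **Classification** of the self-centralizing subgroups whose automorphism group is not a
`2`-group -/
theorem centric_cases [Finite S] (X : Subgroup S)
    (hC : Subgroup.centralizer (X : Set S) ≤ X) (hA : ¬ IsPGroup 2 (MulAut X)) :
    X = h.A ∨ ∃ a : ZMod (2 ^ n), X = h.Vt (2 * a) := by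
  have hM := two_mul_Mz (n := n) h.n1
  have hM0 := Mz_ne_zero (n := n) h.n1
  by_cases hle : X ≤ h.A
  · left
    apply le_antisymm hle
    intro g hg
    apply hC
    rw [Subgroup.mem_centralizer_iff]
    intro v hv
    obtain ⟨a, b, rfl⟩ := hg
    obtain ⟨c, d, rfl⟩ := hle hv
    exact h.W_comm _ _ _ _
  right
  by_cases hcomm : IsMulCommutative X
  · exact absurd (h.isPGroup_mulAut_of_comm X hC hcomm hle) hA
  obtain ⟨u, huX, huA⟩ := SetLike.not_le_iff_exists.mp hle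
  rcases h.cases u with ⟨c, d, rfl⟩ | ⟨a₀, b₀, rfl⟩
  · exact absurd (h.W_mem_A c d) huA
  have hZX := h.center_le_of_centric X hC
  -- the map to the dihedral quotient
  set f : X →* S ⧸ Subgroup.center S := (QuotientGroup.mk' (Subgroup.center S)).comp X.subtype
    with hf
  have hker : ∀ g : X, g ∈ f.ker ↔ (g : S) ∈ Subgroup.center S := by
    intro g
    rw [MonoidHom.mem_ker, hf, MonoidHom.comp_apply, QuotientGroup.mk'_apply,
      QuotientGroup.eq_one_iff]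
    rfl
  have hkerc : f.ker = Subgroup.center X := by
    ext g
    rw [hker]
    constructor
    · intro hg
      rw [Subgroup.mem_center_iff]
      intro v
      apply Subtype.ext
      exact Subgroup.mem_center_iff.mp hg v
    · intro hg
      exact h.center_le_of_not_comm X hcomm ⟨g, hg, rfl⟩
  obtain ⟨e⟩ := h.quotient_center_dihedral
  have : Finite (S ⧸ Subgroup.center S) := inferInstance
  rcases Cfsg.Agent.Lib.Helper9.Dih.subgroup_dichotomy e h.n1 f.range with hK | hP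
  · -- the four-group case
    have hsq : ∀ g ∈ X, g * g ∈ Subgroup.center S := by
      intro g hg
      have h1 : f ⟨g, hg⟩ ∈ f.range := ⟨_, rfl⟩
      have h2 := sq_eq_one_of_isKleinFour f.range hK h1
      rw [← map_mul] at h2
      have h3 : (⟨g, hg⟩ * ⟨g, hg⟩ : X) ∈ f.ker := h2
      rw [hker] at h3
      exact h3
    have hin : ∀ c d : ZMod (2 ^ n), W x y c d ∈ X → 2 * (c - d) = 0 := by
      intro c d hcd
      have h1 := hsq _ hcd
      rw [← h.W_add, h.mem_center_iff] at h1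
      obtain ⟨a, ha⟩ := h1
      obtain ⟨h2, h3⟩ := h.W_inj.mp ha
      linear_combination h2 - h3
    have hout : ∀ c d : ZMod (2 ^ n), ZW x y z c d ∈ X → 2 * (c - d) = 2 * (a₀ - b₀) := by
      intro c d hcd
      have h1 : ZW x y z c d * (ZW x y z a₀ b₀)⁻¹ ∈ X := X.mul_mem hcd (X.inv_mem huX)
      rw [h.ZW_inv, h.ZW_mul_ZW] at h1
      have := hin _ _ h1
      linear_combination this
    -- a non-central element of `X ∩ A`
    have hex : ∃ c d : ZMod (2 ^ n), W x y c d ∈ X ∧ c ≠ d := by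
      by_contra hcon
      push Not at hcon
      apply hcomm
      have hdiag : ∀ e : ZMod (2 ^ n), ∀ t : S, t * W x y e e = W x y e e * t := by
        intro e t
        have := h.diag_central e t
        calc t * W x y e e = (t * W x y e e * t⁻¹) * t := by group
          _ = W x y e e * t := by rw [this]
      have hform : ∀ g ∈ X, (∃ e : ZMod (2 ^ n), g = W x y e e) ∨
          (∃ e : ZMod (2 ^ n), g = W x y e e * ZW x y z a₀ b₀) := by
        intro g hg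
        rcases h.cases g with ⟨c, d, rfl⟩ | ⟨c, d, rfl⟩
        · left; exact ⟨c, by rw [hcon c d hg]⟩
        · right
          have h1 : ZW x y z c d * (ZW x y z a₀ b₀)⁻¹ ∈ X := X.mul_mem hg (X.inv_mem huX)
          rw [h.ZW_inv, h.ZW_mul_ZW] at h1
          have h2 := hcon _ _ h1
          refine ⟨c - a₀, ?_⟩
          rw [h.W_mul_ZW, h.ZW_inj]
          constructor
          · ring
          · linear_combination -h2
      rw [isMulCommutative_iff]
      rintro ⟨p, hp⟩ ⟨q, hq⟩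
      apply Subtype.ext
      show p * q = q * p
      rcases hform p hp with ⟨e, rfl⟩ | ⟨e, rfl⟩
      · exact (hdiag e q).symm
      · rcases hform q hq with ⟨e', rfl⟩ | ⟨e', rfl⟩
        · exact hdiag e' _
        · calc W x y e e * ZW x y z a₀ b₀ * (W x y e' e' * ZW x y z a₀ b₀)
              = W x y e e * (ZW x y z a₀ b₀ * W x y e' e') * ZW x y z a₀ b₀ := by group
            _ = W x y e e * (W x y e' e' * ZW x y z a₀ b₀) * ZW x y z a₀ b₀ := by rw [hdiag e']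
            _ = (W x y e e * W x y e' e') * ZW x y z a₀ b₀ * ZW x y z a₀ b₀ := by group
            _ = (W x y e' e' * W x y e e) * ZW x y z a₀ b₀ * ZW x y z a₀ b₀ := by rw [h.W_comm]
            _ = W x y e' e' * (W x y e e * ZW x y z a₀ b₀) * ZW x y z a₀ b₀ := by group
            _ = W x y e' e' * (ZW x y z a₀ b₀ * W x y e e) * ZW x y z a₀ b₀ := by rw [hdiag e]
            _ = W x y e' e' * ZW x y z a₀ b₀ * (W x y e e * ZW x y z a₀ b₀) := by group
    obtain ⟨c₁, d₁, hcd₁, hne⟩ := hex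
    have hcdM : c₁ - d₁ = Mz n := by
      rcases eq_zero_or_eq_Mz_of_two_mul h.n1 (hin _ _ hcd₁) with h3 | h3
      · exact absurd (sub_eq_zero.mp h3) hne
      · exact h3
    have hBX : h.B ≤ X := by
      rintro _ ⟨c, d, hcd, rfl⟩
      rcases eq_zero_or_eq_Mz_of_two_mul h.n1 hcd with h3 | h3
      · rw [sub_eq_zero.mp h3]
        exact hZX (h.mem_center_iff.mpr ⟨d, rfl⟩)
      · have : W x y c d = W x y c₁ d₁ * W x y (d - d₁) (d - d₁) := by
          rw [← h.W_add, h.W_inj]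
          constructor
          · linear_combination h3 - hcdM
          · ring
        rw [this]
        exact X.mul_mem hcd₁ (hZX (h.mem_center_iff.mpr ⟨_, rfl⟩))
    have hXV : X = h.Vt (a₀ - b₀) := by
      apply le_antisymm
      · intro g hg
        rcases h.cases g with ⟨c, d, rfl⟩ | ⟨c, d, rfl⟩
        · exact h.W_mem_Vt.mpr (hin c d hg)
        · exact h.ZW_mem_Vt.mpr (hout c d hg)
      · rintro _ (⟨c, d, hcd, rfl⟩ | ⟨c, d, hcd, rfl⟩)
        · exact hBX (h.W_mem_B.mpr hcd)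
        · have : ZW x y z c d = W x y (c - a₀) (d - b₀) * ZW x y z a₀ b₀ := by
            rw [h.W_mul_ZW, h.ZW_inj]; constructor <;> ring
          rw [this]
          exact X.mul_mem (hBX (h.W_mem_B.mpr (by linear_combination hcd))) huX
    rcases Mz_mul_cases h.n1 (a₀ - b₀) with h0 | h0
    · obtain ⟨a, ha⟩ := exists_two_mul_of_Mz_mul h.n1 h0
      exact ⟨a, by rw [hXV, ha]⟩
    · exfalso
      apply hA
      rw [hXV]
      exact h.isPGroup_mulAut_Vt_of_odd _ h0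
  · -- `Aut` of the image is a `2`-group
    exfalso
    apply hA
    have hw_mem : W x y (1 : ZMod (2 ^ n)) 1 ∈ X := hZX (h.mem_center_iff.mpr ⟨1, rfl⟩)
    have hkz : ∀ g : X, g ∈ f.ker ↔
        g ∈ Subgroup.zpowers (⟨W x y (1 : ZMod (2 ^ n)) 1, hw_mem⟩ : X) := by
      intro g
      rw [hker, coe_mem_zpowers_iff, h.center_eq]
    have hwc : (⟨W x y (1 : ZMod (2 ^ n)) 1, hw_mem⟩ : X) ∈ Subgroup.center X := by
      rw [← hkerc, hker]
      exact h.mem_center_iff.mpr ⟨1, rfl⟩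
    have hQ : IsPGroup 2 (MulAut (X ⧸ f.ker)) :=
      hP.of_equiv (MulAut.congr (QuotientGroup.quotientKerEquivRange f)).symm
    apply AutChain.isPGroup_of_quotient f.ker _ _ n _ hQ
    · intro α
      rw [hkerc]
      exact Subgroup.characteristic_iff_map_eq.mp Subgroup.centerCharacteristic α
    · intro α
      refine ⟨n - 1, ?_⟩
      have h1 : α ⟨W x y (1 : ZMod (2 ^ n)) 1, hw_mem⟩ ∈
          Subgroup.zpowers (⟨W x y (1 : ZMod (2 ^ n)) 1, hw_mem⟩ : X) := by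
        rw [← hkz, hkerc]
        exact apply_mem_center α hwc
      have h2 := AutChain.pow_fix_of_cyclic α _ n h.n1
        (by rw [Subgroup.orderOf_mk, h.orderOf_W_of_odd (Or.inl h.Mz_mul_one_ne)]) h1
      intro c hc
      exact AutChain.fix_zpowers _ h2 c ((hkz c).mp hc)
    · intro c hc
      rw [hker] at hc
      obtain ⟨a, ha⟩ := h.mem_center_iff.mp hc
      apply Subtype.ext
      simp only [Subgroup.coe_pow, Subgroup.coe_one]
      rw [ha, h.pow_two_pow_W]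

end WrData

end Cfsg.Agent.Lib.Helper9.Wr
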