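import Mathlib
import Cfsg.Prelude.Def_CaseTheorems
import Cfsg.Agent.Lib.Helper9.Wr.Centric
import Cfsg.Agent.Lib.Helper9.Wr.Abelian
import Cfsg.Agent.Lib.Helper9.Wr.Local0
import Cfsg.Agent.Lib.Helper9.SylowTransport
import Cfsg.Agent.Lib.Helper9.Misc

/-!
# Wreathed Sylow 2-subgroups: transport of the subgroups of `S` to `G`
-/

set_option autoImplicit false

namespace Cfsg.Agent.Lib.Helper9.Wr

open Cfsg.Agent.Lib.Helper9.QD (Mz Kz two_mul_Mz two_mul_Kz Mz_ne_zero eq_zero_or_eq_Mz_of_two_mul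
  eq_of_four_mul Mz_mul_Mz Mz_mul_even Mz_mul_odd even_or_odd coe_mem_zpowers_iff)

variable {G : Type*} [Group G]

/-- image in `G` of a subgroup of the subgroup `S` -/
abbrev up (S : Subgroup G) (X : Subgroup S) : Subgroup G := X.map S.subtype

theorem up_le (S : Subgroup G) (X : Subgroup S) : up S X ≤ S := Subgroup.map_subtype_le X

theorem coe_mem_up {S : Subgroup G} {X : Subgroup S} {s : S} : (s : G) ∈ up S X ↔ s ∈ X := by
  constructor
  · rintro ⟨t, ht, hts⟩
    have : t = s := Subtype.ext hts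
    rwa [← this]
  · intro hs; exact ⟨s, hs, rfl⟩

theorem exists_of_mem_up {S : Subgroup G} {X : Subgroup S} {u : G} (hu : u ∈ up S X) :
    ∃ s : S, s ∈ X ∧ (s : G) = u := by
  obtain ⟨s, hs, rfl⟩ := hu
  exact ⟨s, hs, rfl⟩

theorem up_subgroupOf (S : Subgroup G) (X : Subgroup S) : (up S X).subgroupOf S = X := by
  ext s
  rw [Subgroup.mem_subgroupOf, coe_mem_up]

theorem up_of_subgroupOf {S U : Subgroup G} (hUS : U ≤ S) : up S (U.subgroupOf S) = U :=
  Subgroup.map_subgroupOf_eq_of_le hUS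

theorem up_sup (S : Subgroup G) (X Y : Subgroup S) : up S (X ⊔ Y) = up S X ⊔ up S Y :=
  Subgroup.map_sup X Y _

theorem up_mono {S : Subgroup G} {X Y : Subgroup S} (h : X ≤ Y) : up S X ≤ up S Y :=
  Subgroup.map_mono h

theorem card_up (S : Subgroup G) (X : Subgroup S) : Nat.card (up S X) = Nat.card X :=
  (Nat.card_congr (Subgroup.equivMapOfInjective X S.subtype S.subtype_injective).toEquiv).symm

theorem up_zpowers (S : Subgroup G) (s : S) : up S (Subgroup.zpowers s) = Subgroup.zpowers (s : G) := by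
  rw [up, MonoidHom.map_zpowers]
  rfl

theorem coe_mem_normalizer_up {S : Subgroup G} {X : Subgroup S} {s : S}
    (hs : s ∈ Subgroup.normalizer (X : Set S)) : (s : G) ∈ Subgroup.normalizer (up S X : Set G) := by
  apply Cfsg.Agent.Lib.Helper9.AutIndex.coe_mem_normalizer_of_subgroupOf (up_le S X)
  rwa [up_subgroupOf]

theorem coe_mem_centralizer_up_iff {S : Subgroup G} {X : Subgroup S} {s : S} :
    (s : G) ∈ Subgroup.centralizer (up S X : Set G) ↔ s ∈ Subgroup.centralizer (X : Set S) := by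
  rw [Subgroup.mem_centralizer_iff, Subgroup.mem_centralizer_iff]
  constructor
  · intro hs t ht
    apply Subtype.ext
    have := hs (t : G) (coe_mem_up.mpr ht)
    simpa using this
  · rintro hs _ ⟨t, ht, rfl⟩
    have := congrArg Subtype.val (hs t ht)
    simpa using this

theorem up_conj (S : Subgroup G) (X : Subgroup S) (s : S) :
    up S (X.map (MulAut.conj s).toMonoidHom) = (up S X).map (MulAut.conj (s : G)).toMonoidHom := by
  ext u
  constructor
  · rintro ⟨_, ⟨t, ht, rfl⟩, rfl⟩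
    exact ⟨(t : G), coe_mem_up.mpr ht, by simp⟩
  · rintro ⟨_, ⟨t, ht, rfl⟩, rfl⟩
    exact ⟨(MulAut.conj s) t, ⟨t, ht, rfl⟩, by simp⟩

/-- the set-up common to the wreathed statements -/
theorem exists_setup [Finite G] (S : Sylow 2 G) (hS : Cfsg.IsWreathed (S : Subgroup G)) (n : ℕ)
    (hn : Nat.card S = 2 ^ (2 * n + 1)) (U : Subgroup G) (hUS : U ≤ S) (hUab : IsMulCommutative U)
    (hUcard : Nat.card U = 2 ^ (2 * n)) (Q : Subgroup G) (hQS : Q ≤ S)
    (eQ : Q ≃* QuaternionGroup 2) :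
    ∃ (x y z : (S : Subgroup G)) (h : WrData (S : Subgroup G) n x y z) (a : ZMod (2 ^ n)),
      U = up S h.A ∧ Q = up S (h.Qa a) ∧
      Q ⊔ (Subgroup.center (S : Subgroup G)).map (S : Subgroup G).subtype =
        up S (h.Vt (2 * a)) := by
  obtain ⟨n', x, y, z, h⟩ := exists_wrData hS
  have hnn : n' = n := by
    have h1 := h.card
    have hn' : Nat.card (S : Subgroup G) = 2 ^ (2 * n + 1) := hn
    rw [hn'] at h1
    have h2 := Nat.pow_right_injective (le_refl 2) h1
    omega
  subst hnn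
  have hU : U.subgroupOf S = h.A := by
    apply h.abelian_unique
    · rw [isMulCommutative_iff]
      intro a b
      apply Subtype.ext
      apply Subtype.ext
      exact setLike_mul_comm (s := U) (Subgroup.mem_subgroupOf.mp a.2)
        (Subgroup.mem_subgroupOf.mp b.2)
    · rw [Nat.card_congr (Subgroup.subgroupOfEquivOfLe hUS).toEquiv, hUcard]
  obtain ⟨a, ha⟩ := h.quat_eq_Qa (Q.subgroupOf S) ((Subgroup.subgroupOfEquivOfLe hQS).trans eQ)
  refine ⟨x, y, z, h, a, ?_, ?_, ?_⟩
  · rw [← hU, up_of_subgroupOf hUS]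
  · rw [← ha, up_of_subgroupOf hQS]
  · rw [h.Vt_eq_sup, up_sup, ← ha, up_of_subgroupOf hQS]

end Cfsg.Agent.Lib.Helper9.Wr
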