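import Mathlib
import Cfsg.Agent.Lib.Helper9.Wr.Local1
import Cfsg.Agent.Lib.Helper9.IndexTwo

/-!
# The focal subgroup of a Sylow 2-subgroup and the kernel of the transfer
-/

set_option autoImplicit false
set_option linter.unusedSectionVars false

namespace Cfsg.Agent.Lib.Helper9.Wr

variable {G : Type*} [Group G] [Finite G] (S : Sylow 2 G)

theorem mem_focal {x' u : G} (hx' : x' ∈ (S : Subgroup G)) (hu : u * x' * u⁻¹ ∈ (S : Subgroup G)) :
    x'⁻¹ * (u * x' * u⁻¹) ∈ (S : Subgroup G).focalSubgroup := by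
  rw [Subgroup.focalSubgroup_def]
  apply Subgroup.subset_closure
  refine ⟨Subgroup.mul_mem _ (Subgroup.inv_mem _ hx') hu, x'⁻¹, Subgroup.inv_mem _ hx', u, ?_⟩
  rw [commutatorElement_def]
  group

theorem focal_le_of_fusion (X : Subgroup G)
    (hfus : ∀ x' ∈ (S : Subgroup G), ∀ u : G, u * x' * u⁻¹ ∈ (S : Subgroup G) →
      x'⁻¹ * (u * x' * u⁻¹) ∈ X) : (S : Subgroup G).focalSubgroup ≤ X := by
  rw [Subgroup.focalSubgroup_def, Subgroup.closure_le]
  rintro g ⟨hgS, x, hx, u, rfl⟩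
  rw [commutatorElement_def] at hgS ⊢
  have h1 : u * x⁻¹ * u⁻¹ ∈ (S : Subgroup G) := by
    have : u * x⁻¹ * u⁻¹ = x⁻¹ * (x * u * x⁻¹ * u⁻¹) := by group
    rw [this]
    exact Subgroup.mul_mem _ (Subgroup.inv_mem _ hx) hgS
  have := hfus x⁻¹ (Subgroup.inv_mem _ hx) u h1
  have e : x⁻¹⁻¹ * (u * x⁻¹ * u⁻¹) = x * u * x⁻¹ * u⁻¹ := by group
  rwa [e] at this

theorem mem_ker_transferFocal_of_odd {g : G} (hodd : Odd (orderOf g)) :
    g ∈ (S : Subgroup G).transferFocal.ker := by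
  have : Fact (Nat.Prime 2) := ⟨Nat.prime_two⟩
  rw [MonoidHom.mem_ker]
  have hP : IsPGroup 2 ((S : Subgroup G) ⧸ (S : Subgroup G).focalSubgroupOf) :=
    S.isPGroup'.to_quotient _
  obtain ⟨k, hk⟩ := hP ((S : Subgroup G).transferFocal g)
  have h1 : orderOf ((S : Subgroup G).transferFocal g) ∣ 2 ^ k := orderOf_dvd_of_pow_eq_one hk
  have h2 : orderOf ((S : Subgroup G).transferFocal g) ∣ orderOf g := orderOf_map_dvd _ g
  have h3 : Nat.Coprime (2 ^ k) (orderOf g) := Nat.Coprime.pow_left _ (Nat.coprime_two_left.mpr hodd)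
  have h4 := Nat.eq_one_of_dvd_coprimes h3 h1 h2
  exact orderOf_eq_one_iff.mp h4

/-- the kernel of the transfer into `S / S*` when the focal subgroup is known -/
theorem focal_kernel (X : Subgroup (S : Subgroup G))
    (hX : (S : Subgroup G).focalSubgroup = up S X) :
    (S : Subgroup G).transferFocal.ker.index = X.index ∧
    (S : Subgroup G).transferFocal.ker ⊓ (S : Subgroup G) = up S X ∧
    ∀ P : Sylow 2 (S : Subgroup G).transferFocal.ker,
      Nonempty ((P : Subgroup (S : Subgroup G).transferFocal.ker) ≃* X) := by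
  have : Fact (Nat.Prime 2) := ⟨Nat.prime_two⟩
  have hfo : (S : Subgroup G).focalSubgroupOf = X := by
    rw [Subgroup.focalSubgroupOf_def, hX, up_subgroupOf]
  have hinf : (S : Subgroup G).transferFocal.ker ⊓ (S : Subgroup G) = up S X := by
    rw [Subgroup.ker_transferFocal_inf_eq_focalSubgroup, hX]
  refine ⟨?_, hinf, ?_⟩
  · rw [Subgroup.index, Nat.card_congr
      (Subgroup.transferFocal.quotientKerMulEquivQuotientFocalSubroupOf S).toEquiv, ← Subgroup.index,
      hfo]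
  · intro P
    obtain ⟨e⟩ := Cfsg.Agent.Lib.Helper9.IndexTwo.sylow_equiv S _ P
    have h1 : ((S : Subgroup G).transferFocal.ker).subgroupOf (S : Subgroup G) = X := by
      rw [← Subgroup.inf_subgroupOf_right, hinf, up_subgroupOf]
    exact ⟨e.trans (MulEquiv.subgroupCongr h1)⟩

end Cfsg.Agent.Lib.Helper9.Wr
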