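import Mathlib
import Cfsg.Agent.Lib.Helper9.Wr.Cent

set_option autoImplicit false

/-!
# More on the subgroups `V_t` and `Q_a` of a wreathed 2-group
-/

namespace Cfsg.Agent.Lib.Helper9.Wr

open Cfsg.Agent.Lib.Helper9.QD (Mz Kz two_mul_Mz two_mul_Kz Mz_ne_zero eq_zero_or_eq_Mz_of_two_mul
  eq_of_four_mul)

variable {S : Type*} [Group S] {n : ℕ} {x y z : S}

namespace WrData

variable (h : WrData S n x y z)
include h

theorem neg_Mz : -Mz n = Mz n := by
  have hM := two_mul_Mz (n := n) h.n1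
  linear_combination -hM

theorem ZW_not_mem_center [Finite S] (c d : ZMod (2 ^ n)) : ZW x y z c d ∉ Subgroup.center S := by
  intro hc
  obtain ⟨a, ha⟩ := h.mem_center_iff.mp hc
  exact h.W_ne_ZW _ _ _ _ ha.symm

theorem W_mem_center_iff [Finite S] {c d : ZMod (2 ^ n)} : W x y c d ∈ Subgroup.center S ↔ c = d := by
  rw [h.mem_center_iff]
  constructor
  · rintro ⟨a, ha⟩
    obtain ⟨rfl, rfl⟩ := h.W_inj.mp ha
    rfl
  · rintro rfl; exact ⟨c, rfl⟩

/-- the central involution is the only involution of the centre -/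
theorem eq_zeta_of_mem_center [Finite S] {s : S} (hs : s ∈ Subgroup.center S) (h2 : s * s = 1)
    (h1 : s ≠ 1) : s = W x y (Mz n) (Mz n) := by
  obtain ⟨a, rfl⟩ := h.mem_center_iff.mp hs
  rw [← h.W_add, h.W_eq_one] at h2
  rcases eq_zero_or_eq_Mz_of_two_mul h.n1 (a := a) (by linear_combination h2.1) with rfl | rfl
  · exact absurd W_zero h1
  · rfl

/-- `Q_a` inside `V_{2a}`: the identity, the central involution and the non-central elements
whose square is the central involution -/
theorem mem_Qa_iff_sq [Finite S] (a : ZMod (2 ^ n)) {s : S} :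
    s ∈ h.Qa a ↔ s ∈ h.Vt (2 * a) ∧ (s = 1 ∨ s = W x y (Mz n) (Mz n) ∨
      (s ∉ Subgroup.center S ∧ s * s = W x y (Mz n) (Mz n))) := by
  have hM := two_mul_Mz (n := n) h.n1
  have hM0 := Mz_ne_zero (n := n) h.n1
  constructor
  · intro hs
    refine ⟨h.Qa_le_Vt a hs, ?_⟩
    rcases h.cases s with ⟨c, d, rfl⟩ | ⟨c, d, rfl⟩
    · obtain ⟨hc, rfl⟩ := h.W_mem_Qa.mp hs
      rcases eq_zero_or_eq_Mz_of_two_mul h.n1 (a := 2 * c) (by linear_combination hc) with h2 | h2
      · rcases eq_zero_or_eq_Mz_of_two_mul h.n1 h2 with rfl | rfl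
        · left; rw [neg_zero, W_zero]
        · right; left; rw [h.neg_Mz]
      · right; right
        refine ⟨?_, ?_⟩
        · rw [h.W_mem_center_iff]
          intro hcc
          apply hM0
          linear_combination -h2 + hcc
        · rw [← h.W_add, h.W_inj]
          exact ⟨by linear_combination h2, by linear_combination -h2 - hM⟩
    · obtain ⟨hc, rfl⟩ := h.ZW_mem_Qa.mp hs
      right; right
      refine ⟨h.ZW_not_mem_center _ _, ?_⟩
      rw [h.ZW_mul_self, h.W_inj]
      exact ⟨by ring, by ring⟩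
  · rintro ⟨hV, hs⟩
    rcases hs with rfl | rfl | ⟨hnc, hsq⟩
    · exact (h.Qa a).one_mem
    · exact h.W_mem_Qa.mpr ⟨by linear_combination 2 * hM, by rw [h.neg_Mz]⟩
    · rcases h.cases s with ⟨c, d, rfl⟩ | ⟨c, d, rfl⟩
      · have hcd := h.W_mem_Vt.mp hV
        rw [← h.W_add, h.W_inj] at hsq
        have hne : c ≠ d := fun hcd' => hnc (h.W_mem_center_iff.mpr hcd')
        rcases eq_zero_or_eq_Mz_of_two_mul h.n1 hcd with h0 | h0
        · exact absurd (by linear_combination h0) hne
        · exact h.W_mem_Qa.mpr ⟨by linear_combination 2 * hsq.1 + hM,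
            by linear_combination -h0 + hsq.1⟩
      · have hcd := h.ZW_mem_Vt.mp hV
        rw [h.ZW_mul_self, h.W_inj] at hsq
        exact h.ZW_mem_Qa.mpr ⟨by linear_combination hcd + 2 * hsq.1 + hM,
          by linear_combination hsq.1⟩

/-- `C_S(Q_a) = Z(S)` -/
theorem centralizer_Qa_le_center [Finite S] (a : ZMod (2 ^ n)) :
    Subgroup.centralizer (h.Qa a : Set S) ≤ Subgroup.center S := by
  intro g hg
  apply h.centralizer_Vt_le_center (2 * a)
  rw [h.Vt_eq_sup]
  have h1 : h.Qa a ≤ Subgroup.centralizer ((Subgroup.zpowers g : Subgroup S) : Set S) := by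
    rw [Subgroup.le_centralizer_iff, Subgroup.zpowers_le]
    exact hg
  have h2 : Subgroup.center S ≤ Subgroup.centralizer ((Subgroup.zpowers g : Subgroup S) : Set S) :=
    Subgroup.center_le_centralizer _
  have h3 := sup_le h1 h2
  rw [Subgroup.le_centralizer_iff] at h3
  exact h3 (Subgroup.mem_zpowers g)

end WrData

end Cfsg.Agent.Lib.Helper9.Wr
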