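import Mathlib
import Cfsg.Agent.Lib.Helper9.Wr.Cent2

set_option autoImplicit false

/-!
# Involutions, `Q_a` and the generalized quaternion subgroup of a wreathed 2-group: generation
-/

namespace Cfsg.Agent.Lib.Helper9.Wr

open Cfsg.Agent.Lib.Helper9.QD (Mz Kz two_mul_Mz two_mul_Kz Mz_ne_zero eq_zero_or_eq_Mz_of_two_mul
  eq_of_four_mul)

variable {S : Type*} [Group S] {n : ℕ} {x y z : S}

namespace WrData

variable (h : WrData S n x y z)
include h

/-- the involutions of `S`, up to conjugacy -/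
theorem involution_cases [Finite S] (t : S) (ht : orderOf t = 2) :
    t = W x y (Mz n) (Mz n) ∨ IsConj (W x y (Mz n) 0) t ∨
      IsConj (ZW x y z (0 : ZMod (2 ^ n)) 0) t := by
  rcases h.cases t with ⟨a, b, rfl⟩ | ⟨a, b, rfl⟩
  · rw [h.orderOf_W_eq_two] at ht
    rcases ht with ⟨rfl, rfl⟩ | ⟨rfl, rfl⟩ | ⟨rfl, rfl⟩
    · right; left; exact IsConj.refl _
    · right; left
      rw [isConj_iff]
      exact ⟨z, by rw [h.z_conj_W]⟩
    · left; rfl
  · right; right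
    rw [h.orderOf_ZW_eq_two] at ht
    rw [isConj_iff]
    refine ⟨W x y a 0, ?_⟩
    rw [h.conj_W_ZW, h.ZW_inj]
    constructor
    · ring
    · linear_combination -ht

theorem four_mul_Kz : 4 * Kz n = 0 := by
  have hM := two_mul_Mz (n := n) h.n1
  have hK := two_mul_Kz (n := n) h.hn
  linear_combination 2 * hK + hM

theorem orderOf_i0 : orderOf (W x y (Kz n) (-Kz n)) = 4 := by
  have hM := two_mul_Mz (n := n) h.n1
  have hK := two_mul_Kz (n := n) h.hn
  have hM0 := Mz_ne_zero (n := n) h.n1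
  have h1 : ¬ (W x y (Kz n) (-Kz n)) ^ 2 ^ 1 = 1 := by
    rw [h.W_pow, h.W_eq_one]
    push_cast
    rintro ⟨h1, -⟩
    exact hM0 (by linear_combination -hK + h1)
  have h2 : (W x y (Kz n) (-Kz n)) ^ 2 ^ (1 + 1) = 1 := by
    rw [h.W_pow, h.W_eq_one]
    push_cast
    have := h.four_mul_Kz
    exact ⟨by linear_combination this, by linear_combination -this⟩
  exact orderOf_eq_prime_pow h1 h2

theorem mem_zpowers_i0 {c : ZMod (2 ^ n)} (hc : 4 * c = 0) :
    W x y c (-c) ∈ Subgroup.zpowers (W x y (Kz n) (-Kz n)) := by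
  have hM := two_mul_Mz (n := n) h.n1
  have hK := two_mul_Kz (n := n) h.hn
  rcases eq_of_four_mul h.hn hc with rfl | rfl | rfl | rfl
  · rw [neg_zero, W_zero]; exact Subgroup.one_mem _
  · exact Subgroup.mem_zpowers _
  · have : W x y (Mz n) (-Mz n) = (W x y (Kz n) (-Kz n)) ^ 2 := by
      rw [h.W_pow, h.W_inj]
      push_cast
      exact ⟨by linear_combination -hK, by linear_combination hK⟩
    rw [this]; exact Subgroup.pow_mem _ (Subgroup.mem_zpowers _) _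
  · have : W x y (Mz n + Kz n) (-(Mz n + Kz n)) = (W x y (Kz n) (-Kz n)) ^ 3 := by
      rw [h.W_pow, h.W_inj]
      push_cast
      exact ⟨by linear_combination -hK, by linear_combination hK⟩
    rw [this]; exact Subgroup.pow_mem _ (Subgroup.mem_zpowers _) _

theorem i0_mem_Qa (a : ZMod (2 ^ n)) : W x y (Kz n) (-Kz n) ∈ h.Qa a :=
  h.W_mem_Qa.mpr ⟨h.four_mul_Kz, rfl⟩

/-- `Q_a` is generated by `W K (-K)` and any of its elements outside `A` -/
theorem Qa_le_of_mem (L : Subgroup S) {a c₁ : ZMod (2 ^ n)} (hc₁ : 4 * c₁ = 4 * a)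
    (hi : W x y (Kz n) (-Kz n) ∈ L) (hu : ZW x y z c₁ (Mz n - c₁) ∈ L) : h.Qa a ≤ L := by
  have hiL : Subgroup.zpowers (W x y (Kz n) (-Kz n)) ≤ L := Subgroup.zpowers_le.mpr hi
  rintro _ (⟨c, hc, rfl⟩ | ⟨c, hc, rfl⟩)
  · exact hiL (h.mem_zpowers_i0 hc)
  · have h1 : W x y (c - c₁) (-(c - c₁)) ∈ L :=
      hiL (h.mem_zpowers_i0 (by linear_combination hc - hc₁))
    have h2 : ZW x y z c (Mz n - c) = W x y (c - c₁) (-(c - c₁)) * ZW x y z c₁ (Mz n - c₁) := by
      rw [h.W_mul_ZW, h.ZW_inj]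
      constructor <;> ring
    rw [h2]
    exact L.mul_mem h1 hu

theorem Qa_le_Yq (a : ZMod (2 ^ n)) : h.Qa a ≤ h.Yq := by
  rintro _ (⟨c, -, rfl⟩ | ⟨c, -, rfl⟩)
  · exact h.W_mem_Yq.mpr (by ring)
  · exact h.ZW_mem_Yq.mpr (by ring)

/-- `Y` is generated by `W 1 (-1)` and any of its elements outside `A` -/
theorem Yq_le_of_mem (L : Subgroup S) (e : ZMod (2 ^ n)) (h1 : W x y (1 : ZMod (2 ^ n)) (-1) ∈ L)
    (h2 : ZW x y z e (Mz n - e) ∈ L) : h.Yq ≤ L := by
  have hW : ∀ c : ZMod (2 ^ n), W x y c (-c) ∈ L := by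
    intro c
    have : W x y c (-c) = (W x y (1 : ZMod (2 ^ n)) (-1)) ^ c.val := by
      rw [h.W_pow, h.W_inj, ZMod.natCast_zmod_val]
      constructor <;> ring
    rw [this]
    exact L.pow_mem h1 _
  rintro _ (⟨c, rfl⟩ | ⟨c, rfl⟩)
  · exact hW c
  · have h3 : ZW x y z c (Mz n - c) = W x y (c - e) (-(c - e)) * ZW x y z e (Mz n - e) := by
      rw [h.W_mul_ZW, h.ZW_inj]
      constructor <;> ring
    rw [h3]
    exact L.mul_mem (hW _) h2

/-- `Y` is generated by the `Q_a` -/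
theorem Yq_le_of_Qa_le (L : Subgroup S) (hL : ∀ a : ZMod (2 ^ n), h.Qa a ≤ L) : h.Yq ≤ L := by
  have hM := two_mul_Mz (n := n) h.n1
  have hZ : ∀ c : ZMod (2 ^ n), ZW x y z c (Mz n - c) ∈ L :=
    fun c => hL c (h.ZW_mem_Qa.mpr ⟨rfl, rfl⟩)
  apply h.Yq_le_of_mem L 0 _ (hZ 0)
  have : W x y (1 : ZMod (2 ^ n)) (-1) = ZW x y z 1 (Mz n - 1) * ZW x y z (Mz n) (Mz n - Mz n) := by
    rw [h.ZW_mul_ZW, h.W_inj]
    exact ⟨by ring, by linear_combination -hM⟩
  rw [this]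
  exact L.mul_mem (hZ 1) (hZ (Mz n))

/-- a subgroup containing `A` and an element outside `A` is everything -/
theorem eq_top_of_A_le [Finite S] (L : Subgroup S) (hA : h.A ≤ L) {c d : ZMod (2 ^ n)}
    (hz : ZW x y z c d ∈ L) : L = ⊤ := by
  rw [eq_top_iff]
  intro g _
  rcases h.cases g with ⟨a, b, rfl⟩ | ⟨a, b, rfl⟩
  · exact hA (h.W_mem_A a b)
  · have : ZW x y z a b = W x y (a - c) (b - d) * ZW x y z c d := by
      rw [h.W_mul_ZW, h.ZW_inj]
      constructor <;> ring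
    rw [this]
    exact L.mul_mem (hA (h.W_mem_A _ _)) hz

theorem commutator_le_Yq [Finite S] : commutator S ≤ h.Yq := by
  rw [h.commutator_eq, Subgroup.zpowers_le]
  exact h.W_mem_Yq.mpr (by ring)

theorem normal_Yq [Finite S] : h.Yq.Normal :=
  h.quat_main.2 h.Yq h.card_Yq h.Yq_quaternion

theorem card_Qa (a : ZMod (2 ^ n)) : Nat.card (h.Qa a) = 8 := by
  obtain ⟨e⟩ := h.Qa_quaternion a
  rw [Nat.card_congr e.toEquiv, Nat.card_eq_fintype_card, QuaternionGroup.card]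

/-- `W M 0 = W K (-K) * W K K` -/
theorem WM0_eq : W x y (Mz n) 0 = W x y (Kz n) (-Kz n) * W x y (Kz n) (Kz n) := by
  have hK := two_mul_Kz (n := n) h.hn
  rw [← h.W_add, h.W_inj]
  exact ⟨by linear_combination -hK, by ring⟩

end WrData

end Cfsg.Agent.Lib.Helper9.Wr
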