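import Mathlib
import Cfsg.Agent.Lib.Helper9.Wr.Local1

/-!
# Wreathed Sylow 2-subgroups: the normalizer of the abelian subgroup `A`
-/

set_option autoImplicit false
set_option linter.unusedSectionVars false

namespace Cfsg.Agent.Lib.Helper9.Wr

open Cfsg.Agent.Lib.Helper9.QD (Mz Kz two_mul_Mz two_mul_Kz Mz_ne_zero eq_zero_or_eq_Mz_of_two_mul
  eq_of_four_mul Mz_mul_Mz Mz_mul_even Mz_mul_odd even_or_odd coe_mem_zpowers_iff)
open Cfsg.Agent.Lib.Helper9.WrLocal
open Cfsg.Agent.Lib.Helper9.AutIndex (two_dvd_relIndex_of_mem normal_centralizer_subgroupOf_normalizer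
  relIndex_dvd_six_of_kleinFour)

variable {G : Type*} [Group G] [Finite G] (S : Sylow 2 G) {n : ℕ} {x y z : (S : Subgroup G)}
  (h : WrData (S : Subgroup G) n x y z)
include h

local notation:max "↟" X:max => up (S : Subgroup G) X

theorem sylow_le_normalizer_A :
    (S : Subgroup G) ≤ Subgroup.normalizer (↟h.A : Set G) := by
  intro s hs
  have hAnorm : h.A.Normal := Subgroup.normal_of_index_eq_two h.index_A
  have : (⟨s, hs⟩ : (S : Subgroup G)) ∈ Subgroup.normalizer (h.A : Set (S : Subgroup G)) := by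
    rw [Subgroup.normalizer_eq_top_iff.mpr hAnorm]; trivial
  exact coe_mem_normalizer_up this

theorem card_AG : Nat.card (↟h.A) = 2 ^ (2 * n) := by rw [card_up, h.card_A]

theorem comm_AG : ∀ a ∈ ↟h.A, ∀ b ∈ ↟h.A, a * b = b * a := by
  rintro _ ⟨s, ⟨a, b, rfl⟩, rfl⟩ _ ⟨t, ⟨c, d, rfl⟩, rfl⟩
  have := congrArg Subtype.val (h.W_comm a b c d)
  simpa using this

theorem AG_le_centralizer : ↟h.A ≤ Subgroup.centralizer (↟h.A : Set G) := by
  intro a ha
  rw [Subgroup.mem_centralizer_iff]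
  intro b hb
  exact comm_AG S h b hb a ha

theorem pow_AG : ∀ a ∈ ↟h.A, a ^ (2 ^ n) = 1 := by
  rintro _ ⟨s, ⟨a, b, rfl⟩, rfl⟩
  have := congrArg Subtype.val (h.pow_two_pow_W a b)
  simpa using this

/-- `C_S(A) = A` -/
theorem centralizer_A_le :
    Subgroup.centralizer (h.A : Set (S : Subgroup G)) ≤ h.A := by
  intro g hg
  rcases h.cases g with ⟨c, d, rfl⟩ | ⟨c, d, rfl⟩
  · exact h.W_mem_A c d
  · exfalso
    have h1 := (Subgroup.mem_centralizer_iff.mp hg) (W x y 1 0) (h.W_mem_A _ _)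
    rw [h.W_mul_ZW, h.ZW_mul_W, h.ZW_inj] at h1
    exact h.one_ne_zero' (by linear_combination h1.1)

theorem sylow_inf_centralizer_A :
    (S : Subgroup G) ⊓ Subgroup.centralizer (↟h.A : Set G) ≤ ↟h.A := by
  rintro u ⟨huS, huC⟩
  have h1 : (⟨u, huS⟩ : (S : Subgroup G)) ∈ h.A :=
    centralizer_A_le S h (coe_mem_centralizer_up_iff.mp huC)
  exact coe_mem_up.mpr h1

theorem not_four_dvd_relIndex_A :
    ¬ 4 ∣ (Subgroup.centralizer (↟h.A : Set G)).relIndex
      (Subgroup.normalizer (↟h.A : Set G)) := by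
  apply not_four_dvd_relIndex _ _ (↟h.A) (Subgroup.centralizer_le_normalizer _)
    (AG_le_centralizer S h) (card_AG S h)
  intro hd
  have h1 := le_of_two_pow_dvd_card S h.card
    (hd.trans (Subgroup.card_subgroup_dvd_card _))
  omega

theorem two_dvd_relIndex_A :
    2 ∣ (Subgroup.centralizer (↟h.A : Set G)).relIndex
      (Subgroup.normalizer (↟h.A : Set G)) := by
  apply two_dvd_relIndex_of_mem _ _ (normal_centralizer_subgroupOf_normalizer _)
    (sylow_le_normalizer_A S h z.2)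
  · intro hz
    exact h.z_not_mem_A (centralizer_A_le S h (coe_mem_centralizer_up_iff.mp hz))
  · have := congrArg Subtype.val h.z_mul_z
    simp only [Subgroup.coe_mul, Subgroup.coe_one] at this
    rw [this]
    exact Subgroup.one_mem _

theorem isKleinFour_TG : IsKleinFour (↟h.T) :=
  isKleinFour_of_mulEquiv
    (Subgroup.equivMapOfInjective h.T _ (S : Subgroup G).subtype_injective).symm h.isKleinFour_T

theorem T_le_A : h.T ≤ h.A := by
  rintro _ ⟨c, d, -, -, rfl⟩
  exact h.W_mem_A c d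

theorem mem_TG_iff {u : G} : u ∈ ↟h.T ↔ u ∈ ↟h.A ∧ u * u = 1 := by
  constructor
  · rintro ⟨t, ht, rfl⟩
    refine ⟨coe_mem_up.mpr (T_le_A S h ht), ?_⟩
    have := congrArg Subtype.val (sq_eq_one_of_isKleinFour h.T h.isKleinFour_T ht)
    simpa using this
  · rintro ⟨⟨s, ⟨c, d, rfl⟩, rfl⟩, hu⟩
    apply coe_mem_up.mpr
    have h1 : W x y c d * W x y c d = 1 := by
      apply Subtype.ext
      simpa using hu
    rw [← h.W_add, h.W_eq_one] at h1
    exact ⟨c, d, by linear_combination h1.1, by linear_combination h1.2, rfl⟩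

theorem normalizer_A_le_normalizer_T :
    Subgroup.normalizer (↟h.A : Set G) ≤ Subgroup.normalizer (↟h.T : Set G) := by
  intro g hg
  have key : ∀ g' : G, g' ∈ Subgroup.normalizer (↟h.A : Set G) → ∀ u ∈ ↟h.T,
      g' * u * g'⁻¹ ∈ ↟h.T := by
    intro g' hg' u hu
    rw [mem_TG_iff] at hu ⊢
    refine ⟨(Subgroup.mem_normalizer_iff.mp hg' u).mp hu.1, ?_⟩
    calc g' * u * g'⁻¹ * (g' * u * g'⁻¹) = g' * (u * u) * g'⁻¹ := by group
      _ = 1 := by rw [hu.2]; group
  rw [Subgroup.mem_normalizer_iff]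
  intro u
  constructor
  · exact key g hg u
  · intro hu
    have := key g⁻¹ (Subgroup.inv_mem _ hg) _ hu
    have e : g⁻¹ * (g * u * g⁻¹) * g⁻¹⁻¹ = u := by group
    rwa [e] at this

/-- an odd-order element of `N_G(A)` centralizing `Ω₁(A)` centralizes `A` -/
theorem mem_centralizer_A_of_centralizes_T {g : G}
    (hg : g ∈ Subgroup.normalizer (↟h.A : Set G)) (hodd : Odd (orderOf g))
    (hT : g ∈ Subgroup.centralizer (↟h.T : Set G)) :
    g ∈ Subgroup.centralizer (↟h.A : Set G) := by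
  have : Fact (Nat.Prime 2) := ⟨Nat.prime_two⟩
  rw [Subgroup.mem_centralizer_iff]
  intro a ha
  symm
  apply centralizes_of_centralizes_omega (p := 2) (↟h.A) (comm_AG S h) n (pow_AG S h) g hg
    (Nat.coprime_two_right.mpr hodd) ?_ a ha
  intro t ht ht2
  have htT : t ∈ ↟h.T := (mem_TG_iff S h).mpr ⟨ht, by rw [← pow_two]; exact ht2⟩
  have := (Subgroup.mem_centralizer_iff.mp hT) t htT
  rw [← this, mul_inv_cancel_right]

/-- `|N_G(A) : C_G(A)| ∈ {2, 6}` -/
theorem A_index_cases :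
    (Subgroup.centralizer (↟h.A : Set G)).relIndex
      (Subgroup.normalizer (↟h.A : Set G)) = 2 ∨
    (Subgroup.centralizer (↟h.A : Set G)).relIndex
      (Subgroup.normalizer (↟h.A : Set G)) = 6 := by
  set C := Subgroup.centralizer (↟h.A : Set G) with hC
  set N := Subgroup.normalizer (↟h.A : Set G) with hN
  set CT := Subgroup.centralizer (↟h.T : Set G) with hCT
  set NT := Subgroup.normalizer (↟h.T : Set G) with hNT
  have hCN : C ≤ N := Subgroup.centralizer_le_normalizer _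
  have hCCT : C ≤ CT := Subgroup.centralizer_le (up_mono (T_le_A S h))
  have h1 : C.relIndex (N ⊓ CT) * (N ⊓ CT).relIndex N = C.relIndex N :=
    Subgroup.relIndex_mul_relIndex C (N ⊓ CT) N (le_inf hCN hCCT) inf_le_left
  obtain ⟨j, hj⟩ := relIndex_eq_two_pow_of_odd_mem C (N ⊓ CT) (by
    rintro g ⟨hgN, hgT⟩ hodd
    exact mem_centralizer_A_of_centralizes_T S h hgN hodd hgT)
  have h2 : (N ⊓ CT).relIndex N ∣ 6 := by
    rw [inf_comm, Subgroup.inf_relIndex_right]
    exact (relIndex_dvd_relIndex_of_le_of_normal CT N NT (normalizer_A_le_normalizer_T S h)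
      (normal_centralizer_subgroupOf_normalizer _)).trans
      (relIndex_dvd_six_of_kleinFour _ (isKleinFour_TG S h))
  exact two_or_six_of_factor (by rw [← h1, hj]) h2 (two_dvd_relIndex_A S h)
    (not_four_dvd_relIndex_A S h)

end Cfsg.Agent.Lib.Helper9.Wr
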