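import Mathlib
import Cfsg.Agent.Lib.Helper9.Wr.Local2
import Cfsg.Agent.Lib.Helper9.Wr.Cent2
import Cfsg.Agent.Lib.Helper9.Dih.Complement
import Cfsg.Agent.Lib.Helper13.SylowRel

/-!
# Wreathed Sylow 2-subgroups: the normalizer of `V = Q Z(S)`
-/

set_option autoImplicit false
set_option linter.unusedSectionVars false

namespace Cfsg.Agent.Lib.Helper9.Wr

open Cfsg.Agent.Lib.Helper9.QD (Mz Kz two_mul_Mz two_mul_Kz Mz_ne_zero eq_zero_or_eq_Mz_of_two_mul
  eq_of_four_mul Mz_mul_Mz Mz_mul_even Mz_mul_odd even_or_odd coe_mem_zpowers_iff)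
open Cfsg.Agent.Lib.Helper9.WrLocal
open Cfsg.Agent.Lib.Helper9 (mem_conjMap conj_mem_conjMap conjMap_eq_of_le card_conjMap)
open Cfsg.Agent.Lib.Helper9.AutIndex (two_dvd_relIndex_of_mem normal_centralizer_subgroupOf_normalizer
  normal_sup_centralizer_subgroupOf_normalizer relIndex_sup_dvd_six_of_quaternion
  exists_of_relIndex_two)

section generic

variable {G : Type*} [Group G]

theorem inf_normalizer_up (S : Subgroup G) (X : Subgroup S) :
    S ⊓ Subgroup.normalizer (up S X : Set G) = up S (Subgroup.normalizer (X : Set S)) := by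
  ext u
  constructor
  · rintro ⟨huS, huN⟩
    have : (⟨u, huS⟩ : S) ∈ Subgroup.normalizer (X : Set S) := by
      rw [Subgroup.mem_normalizer_iff]
      intro t
      have := (Subgroup.mem_normalizer_iff.mp huN) (t : G)
      rw [coe_mem_up] at this
      rw [this]
      exact (coe_mem_up (s := (⟨u, huS⟩ : S) * t * (⟨u, huS⟩ : S)⁻¹)).symm.symm
    exact coe_mem_up.mpr this
  · rintro ⟨s, hs, rfl⟩
    exact ⟨s.2, coe_mem_normalizer_up hs⟩

theorem conj_mem_centralizer_of_mem_normalizer {H : Subgroup G} {g c : G}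
    (hg : g ∈ Subgroup.normalizer (H : Set G)) (hc : c ∈ Subgroup.centralizer (H : Set G)) :
    g * c * g⁻¹ ∈ Subgroup.centralizer (H : Set G) := by
  rw [Subgroup.mem_centralizer_iff] at hc ⊢
  intro v hv
  have hv' : g⁻¹ * v * g⁻¹⁻¹ ∈ H :=
    (Subgroup.mem_normalizer_iff.mp (Subgroup.inv_mem _ hg) v).mp hv
  have h1 := hc _ hv'
  calc v * (g * c * g⁻¹) = g * ((g⁻¹ * v * g⁻¹⁻¹) * c) * g⁻¹ := by group
    _ = g * (c * (g⁻¹ * v * g⁻¹⁻¹)) * g⁻¹ := by rw [h1]
    _ = g * c * g⁻¹ * v := by group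

theorem conj_mem_of_mem_normalizer {H : Subgroup G} {g u : G}
    (hg : g ∈ Subgroup.normalizer (H : Set G)) (hu : u ∈ H) : g * u * g⁻¹ ∈ H :=
  (Subgroup.mem_normalizer_iff.mp hg u).mp hu

theorem mem_normalizer_of_forall_conj_mem {H : Subgroup G}
    {g : G} (h1 : ∀ u ∈ H, g * u * g⁻¹ ∈ H) (h2 : ∀ u ∈ H, g⁻¹ * u * g⁻¹⁻¹ ∈ H) :
    g ∈ Subgroup.normalizer (H : Set G) := by
  rw [Subgroup.mem_normalizer_iff]
  intro u
  constructor
  · exact h1 u
  · intro hu
    have := h2 _ hu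
    have e : g⁻¹ * (g * u * g⁻¹) * g⁻¹⁻¹ = u := by group
    rwa [e] at this

theorem mem_centralizer_sup {H K : Subgroup G} {g : G} (hH : g ∈ Subgroup.centralizer (H : Set G))
    (hK : g ∈ Subgroup.centralizer (K : Set G)) :
    g ∈ Subgroup.centralizer ((H ⊔ K : Subgroup G) : Set G) := by
  have h1 : H ≤ Subgroup.centralizer ((Subgroup.zpowers g : Subgroup G) : Set G) := by
    rw [Subgroup.le_centralizer_iff, Subgroup.zpowers_le]; exact hH
  have h2 : K ≤ Subgroup.centralizer ((Subgroup.zpowers g : Subgroup G) : Set G) := by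
    rw [Subgroup.le_centralizer_iff, Subgroup.zpowers_le]; exact hK
  have h3 := sup_le h1 h2
  rw [Subgroup.le_centralizer_iff] at h3
  exact h3 (Subgroup.mem_zpowers g)

theorem conjMap_sylow_eq [Finite G] (S : Subgroup G) {s : G} (hs : s ∈ S) :
    S.map (MulAut.conj s).toMonoidHom = S := by
  apply conjMap_eq_of_le
  rintro _ ⟨t, ht, rfl⟩
  simp only [MulEquiv.coe_toMonoidHom, MulAut.conj_apply]
  exact S.mul_mem (S.mul_mem hs ht) (S.inv_mem hs)

end generic

variable {G : Type*} [Group G] [Finite G] (S : Sylow 2 G) {n : ℕ} {x y z : (S : Subgroup G)}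
  (h : WrData (S : Subgroup G) n x y z)
include h

local notation:max "↟" X:max => up (S : Subgroup G) X

theorem ZG_le_centralizer_up (X : Subgroup (S : Subgroup G)) :
    ↟(Subgroup.center (S : Subgroup G)) ≤ Subgroup.centralizer (↟X : Set G) := by
  rintro _ ⟨c, hc, rfl⟩
  show ((c : (S : Subgroup G)) : G) ∈ _
  rw [coe_mem_centralizer_up_iff]
  exact Subgroup.center_le_centralizer _ hc

theorem VG_inf_centralizer (t : ZMod (2 ^ n)) :
    ↟(h.Vt t) ⊓ Subgroup.centralizer (↟(h.Vt t) : Set G) = ↟(Subgroup.center (S : Subgroup G)) := by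
  apply le_antisymm
  · rintro _ ⟨⟨s, hs, rfl⟩, hC⟩
    exact coe_mem_up.mpr (h.centralizer_Vt_le_center t (coe_mem_centralizer_up_iff.mp hC))
  · exact le_inf (up_mono (h.center_le_Vt t)) (ZG_le_centralizer_up S h _)

theorem conj_mem_ZG {t : ZMod (2 ^ n)} {g c : G}
    (hg : g ∈ Subgroup.normalizer (↟(h.Vt t) : Set G))
    (hc : c ∈ ↟(Subgroup.center (S : Subgroup G))) :
    g * c * g⁻¹ ∈ ↟(Subgroup.center (S : Subgroup G)) := by
  rw [← VG_inf_centralizer S h t] at hc ⊢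
  exact ⟨conj_mem_of_mem_normalizer hg hc.1, conj_mem_centralizer_of_mem_normalizer hg hc.2⟩

/-- the central involution, in `G` -/
theorem zeta_mem_ZG : ((W x y (Mz n) (Mz n) : (S : Subgroup G)) : G) ∈
    ↟(Subgroup.center (S : Subgroup G)) :=
  coe_mem_up.mpr (h.mem_center_iff.mpr ⟨_, rfl⟩)

theorem zeta_sq : ((W x y (Mz n) (Mz n) : (S : Subgroup G)) : G) *
    ((W x y (Mz n) (Mz n) : (S : Subgroup G)) : G) = 1 := by
  have hM := two_mul_Mz (n := n) h.n1
  have h1 : W x y (Mz n) (Mz n) * W x y (Mz n) (Mz n) = 1 := by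
    rw [← h.W_add, h.W_eq_one]
    exact ⟨by linear_combination hM, by linear_combination hM⟩
  have := congrArg Subtype.val h1
  simpa using this

theorem zeta_ne_one : ((W x y (Mz n) (Mz n) : (S : Subgroup G)) : G) ≠ 1 := by
  intro h1
  have h2 : W x y (Mz n) (Mz n) = 1 := Subtype.ext (by simpa using h1)
  rw [h.W_eq_one] at h2
  exact Mz_ne_zero h.n1 h2.1

theorem conj_zeta {t : ZMod (2 ^ n)} {g : G}
    (hg : g ∈ Subgroup.normalizer (↟(h.Vt t) : Set G)) :
    g * ((W x y (Mz n) (Mz n) : (S : Subgroup G)) : G) * g⁻¹ =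
      ((W x y (Mz n) (Mz n) : (S : Subgroup G)) : G) := by
  obtain ⟨s, hs, hsg⟩ := exists_of_mem_up (conj_mem_ZG S h hg (zeta_mem_ZG S h))
  have h2 : s * s = 1 := by
    apply Subtype.ext
    simp only [Subgroup.coe_mul, Subgroup.coe_one, hsg]
    calc g * _ * g⁻¹ * (g * _ * g⁻¹)
        = g * (((W x y (Mz n) (Mz n) : (S : Subgroup G)) : G) *
          ((W x y (Mz n) (Mz n) : (S : Subgroup G)) : G)) * g⁻¹ := by group
      _ = 1 := by rw [zeta_sq S h]; group
  have h1 : s ≠ 1 := by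
    rintro rfl
    simp only [Subgroup.coe_one] at hsg
    apply zeta_ne_one S h
    have : ((W x y (Mz n) (Mz n) : (S : Subgroup G)) : G) =
        g⁻¹ * (g * ((W x y (Mz n) (Mz n) : (S : Subgroup G)) : G) * g⁻¹) * g := by group
    rw [this, ← hsg]; group
  rw [← hsg, h.eq_zeta_of_mem_center hs h2 h1]

theorem mem_QG_iff (a : ZMod (2 ^ n)) {u : G} :
    u ∈ ↟(h.Qa a) ↔ u ∈ ↟(h.Vt (2 * a)) ∧ (u = 1 ∨
      u = ((W x y (Mz n) (Mz n) : (S : Subgroup G)) : G) ∨
      (u ∉ ↟(Subgroup.center (S : Subgroup G)) ∧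
        u * u = ((W x y (Mz n) (Mz n) : (S : Subgroup G)) : G))) := by
  constructor
  · rintro ⟨s, hs, rfl⟩
    obtain ⟨h1, h2⟩ := (h.mem_Qa_iff_sq a).mp hs
    refine ⟨coe_mem_up.mpr h1, ?_⟩
    rcases h2 with rfl | rfl | ⟨h3, h4⟩
    · left; rfl
    · right; left; rfl
    · right; right
      refine ⟨fun hc => h3 (coe_mem_up.mp hc), ?_⟩
      have := congrArg Subtype.val h4
      simpa using this
  · rintro ⟨⟨s, hs, rfl⟩, h2⟩
    apply coe_mem_up.mpr
    rw [h.mem_Qa_iff_sq a]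
    refine ⟨hs, ?_⟩
    rcases h2 with h2 | h2 | ⟨h3, h4⟩
    · left; exact Subtype.ext (by simpa using h2)
    · right; left; exact Subtype.ext h2
    · right; right
      exact ⟨fun hc => h3 (coe_mem_up.mpr hc), Subtype.ext (by simpa using h4)⟩

theorem normalizer_V_le_normalizer_Q (a : ZMod (2 ^ n)) :
    Subgroup.normalizer (↟(h.Vt (2 * a)) : Set G) ≤ Subgroup.normalizer (↟(h.Qa a) : Set G) := by
  have key : ∀ g' : G, g' ∈ Subgroup.normalizer (↟(h.Vt (2 * a)) : Set G) → ∀ u ∈ ↟(h.Qa a),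
      g' * u * g'⁻¹ ∈ ↟(h.Qa a) := by
    intro g' hg' u hu
    rw [mem_QG_iff] at hu ⊢
    refine ⟨conj_mem_of_mem_normalizer hg' hu.1, ?_⟩
    rcases hu.2 with rfl | rfl | ⟨h3, h4⟩
    · left; group
    · right; left; exact conj_zeta S h hg'
    · right; right
      constructor
      · intro hc
        apply h3
        have := conj_mem_ZG S h (Subgroup.inv_mem _ hg') hc
        have e : g'⁻¹ * (g' * u * g'⁻¹) * g'⁻¹⁻¹ = u := by group
        rwa [e] at this
      · calc g' * u * g'⁻¹ * (g' * u * g'⁻¹) = g' * (u * u) * g'⁻¹ := by group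
          _ = _ := by rw [h4, conj_zeta S h hg']
  intro g hg
  exact mem_normalizer_of_forall_conj_mem (key g hg) (key g⁻¹ (Subgroup.inv_mem _ hg))

theorem orderOf_wG : orderOf ((W x y (1 : ZMod (2 ^ n)) 1 : (S : Subgroup G)) : G) = 2 ^ n := by
  rw [Subgroup.orderOf_coe, h.orderOf_W_of_odd (Or.inl h.Mz_mul_one_ne)]

theorem ZG_eq_zpowers : ↟(Subgroup.center (S : Subgroup G)) =
    Subgroup.zpowers ((W x y (1 : ZMod (2 ^ n)) 1 : (S : Subgroup G)) : G) := by
  rw [h.center_eq, up_zpowers]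

/-- odd-order elements of `N_G(V)` centralize `Z(S)` -/
theorem odd_centralizes_ZG {t : ZMod (2 ^ n)} {g : G}
    (hg : g ∈ Subgroup.normalizer (↟(h.Vt t) : Set G)) (hodd : Odd (orderOf g)) :
    g ∈ Subgroup.centralizer (↟(Subgroup.center (S : Subgroup G)) : Set G) := by
  have hw : ((W x y (1 : ZMod (2 ^ n)) 1 : (S : Subgroup G)) : G) ∈
      ↟(Subgroup.center (S : Subgroup G)) := coe_mem_up.mpr (h.mem_center_iff.mpr ⟨1, rfl⟩)
  have h1 := conj_mem_ZG S h hg hw
  rw [ZG_eq_zpowers S h] at h1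
  have h2 := conj_eq_of_mem_zpowers (orderOf_wG S h) hodd h1
  have h3 : Commute g ((W x y (1 : ZMod (2 ^ n)) 1 : (S : Subgroup G)) : G) := by
    rw [commute_iff_eq]
    calc g * ((W x y (1 : ZMod (2 ^ n)) 1 : (S : Subgroup G)) : G)
        = (g * ((W x y (1 : ZMod (2 ^ n)) 1 : (S : Subgroup G)) : G) * g⁻¹) * g := by group
      _ = _ := by rw [h2]
  rw [ZG_eq_zpowers S h, Subgroup.mem_centralizer_iff]
  intro c hc
  obtain ⟨k, rfl⟩ := Subgroup.mem_zpowers_iff.mp hc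
  exact ((h3.zpow_right k).eq).symm

theorem VG_eq_sup (a : ZMod (2 ^ n)) :
    ↟(h.Vt (2 * a)) = ↟(h.Qa a) ⊔ ↟(Subgroup.center (S : Subgroup G)) := by
  rw [h.Vt_eq_sup, up_sup]

theorem mem_centralizer_V_of_centralizes_Q (a : ZMod (2 ^ n)) {g : G}
    (hQ : g ∈ Subgroup.centralizer (↟(h.Qa a) : Set G))
    (hZ : g ∈ Subgroup.centralizer (↟(Subgroup.center (S : Subgroup G)) : Set G)) :
    g ∈ Subgroup.centralizer (↟(h.Vt (2 * a)) : Set G) := by
  rw [VG_eq_sup S h a]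
  exact mem_centralizer_sup hQ hZ

end Cfsg.Agent.Lib.Helper9.Wr
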