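import Mathlib
import Cfsg.Agent.Lib.Helper9.Wr.Local3

/-!
# Wreathed Sylow 2-subgroups: `|N_G(V) : V C_G(V)| ∈ {2, 6}`
-/

set_option autoImplicit false
set_option linter.unusedSectionVars false

namespace Cfsg.Agent.Lib.Helper9.Wr

open Cfsg.Agent.Lib.Helper9.QD (Mz Kz two_mul_Mz two_mul_Kz Mz_ne_zero eq_zero_or_eq_Mz_of_two_mul
  eq_of_four_mul Mz_mul_Mz Mz_mul_even Mz_mul_odd even_or_odd coe_mem_zpowers_iff)
open Cfsg.Agent.Lib.Helper9.WrLocal
open Cfsg.Agent.Lib.Helper9 (mem_conjMap conj_mem_conjMap conjMap_eq_of_le card_conjMap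
  mem_sup_of_le_normalizer)
open Cfsg.Agent.Lib.Helper9.AutIndex (two_dvd_relIndex_of_mem normal_centralizer_subgroupOf_normalizer
  normal_sup_centralizer_subgroupOf_normalizer relIndex_sup_dvd_six_of_quaternion
  exists_of_relIndex_two)

variable {G : Type*} [Group G] [Finite G] (S : Sylow 2 G) {n : ℕ} {x y z : (S : Subgroup G)}
  (h : WrData (S : Subgroup G) n x y z)
include h

local notation:max "↟" X:max => up (S : Subgroup G) X

/-- a `G`-conjugate of `V` inside `S` is again of the form `V_{2a'}` -/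
theorem conj_VG_eq (a : ZMod (2 ^ n)) (g : G)
    (hle : (↟(h.Vt (2 * a))).map (MulAut.conj g).toMonoidHom ≤ (S : Subgroup G)) :
    ∃ a' : ZMod (2 ^ n), (↟(h.Vt (2 * a))).map (MulAut.conj g).toMonoidHom = ↟(h.Vt (2 * a')) := by
  rw [VG_eq_sup S h a, Subgroup.map_sup] at hle ⊢
  set Q' := (↟(h.Qa a)).map (MulAut.conj g).toMonoidHom with hQ'
  set Z' := (↟(Subgroup.center (S : Subgroup G))).map (MulAut.conj g).toMonoidHom with hZ'
  have hQ'S : Q' ≤ (S : Subgroup G) := le_sup_left.trans hle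
  have hZ'S : Z' ≤ (S : Subgroup G) := le_sup_right.trans hle
  obtain ⟨e0⟩ := h.Qa_quaternion a
  have e1 : Q' ≃* QuaternionGroup 2 :=
    ((Subgroup.equivMapOfInjective _ _ (MulAut.conj g).injective).symm.trans
      (Subgroup.equivMapOfInjective _ _ (S : Subgroup G).subtype_injective).symm).trans e0
  obtain ⟨a', ha'⟩ := h.quat_eq_Qa (Q'.subgroupOf S) ((Subgroup.subgroupOfEquivOfLe hQ'S).trans e1)
  have hQ'eq : Q' = ↟(h.Qa a') := by rw [← ha', up_of_subgroupOf hQ'S]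
  have hZ'C : Z' ≤ Subgroup.centralizer (Q' : Set G) := by
    rintro _ ⟨c, hc, rfl⟩
    rw [Subgroup.mem_centralizer_iff]
    rintro _ ⟨q, hq, rfl⟩
    have := (Subgroup.mem_centralizer_iff.mp (ZG_le_centralizer_up S h _ hc)) q hq
    simp only [MulEquiv.coe_toMonoidHom, MulAut.conj_apply]
    calc g * q * g⁻¹ * (g * c * g⁻¹) = g * (q * c) * g⁻¹ := by group
      _ = g * (c * q) * g⁻¹ := by rw [this]
      _ = g * c * g⁻¹ * (g * q * g⁻¹) := by group
  have hZ'le : Z' ≤ ↟(Subgroup.center (S : Subgroup G)) := by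
    intro u hu
    have huS := hZ'S hu
    have h1 : (⟨u, huS⟩ : (S : Subgroup G)) ∈ Subgroup.centralizer (h.Qa a' : Set (S : Subgroup G)) := by
      rw [← coe_mem_centralizer_up_iff, ← hQ'eq]
      exact hZ'C hu
    exact coe_mem_up.mpr (h.centralizer_Qa_le_center a' h1)
  have hZ'eq : Z' = ↟(Subgroup.center (S : Subgroup G)) :=
    Subgroup.eq_of_le_of_card_ge hZ'le (by rw [hZ', card_conjMap])
  exact ⟨a', by rw [hQ'eq, hZ'eq, ← up_sup, ← h.Vt_eq_sup]⟩

/-- `N_S(V)` is a Sylow 2-subgroup of `N_G(V)` -/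
theorem not_two_dvd_relIndex_normalizer_V (a : ZMod (2 ^ n)) :
    ¬ 2 ∣ ((S : Subgroup G) ⊓ Subgroup.normalizer (↟(h.Vt (2 * a)) : Set G)).relIndex
      (Subgroup.normalizer (↟(h.Vt (2 * a)) : Set G)) := by
  have : Fact (Nat.Prime 2) := ⟨Nat.prime_two⟩
  obtain ⟨g, hg1, hg2⟩ := Cfsg.Agent.Lib.Helper13.exists_conj_normalizer_sylow S ↟(h.Vt (2 * a))
  have hle : (↟(h.Vt (2 * a))).map (MulAut.conj g).toMonoidHom ≤ (S : Subgroup G) :=
    (Subgroup.map_mono (le_inf (up_le _ _) Subgroup.le_normalizer)).trans hg1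
  obtain ⟨a', ha'⟩ := conj_VG_eq S h a g hle
  rw [ha'] at hg2
  have hconj : ↟(h.Vt (2 * a)) =
      (↟(h.Vt (2 * a'))).map (MulAut.conj ((W x y (a - a') 0 : (S : Subgroup G)) : G)).toMonoidHom := by
    rw [← up_conj, h.Vt_conj]
    congr 2
    ring
  rw [hconj, Cfsg.Agent.Lib.Helper13.normalizer_map_conj]
  have e : ∀ (s : G), s ∈ (S : Subgroup G) → ∀ N' : Subgroup G,
      (S : Subgroup G) ⊓ N'.map (MulAut.conj s).toMonoidHom =
        ((S : Subgroup G) ⊓ N').map (MulAut.conj s).toMonoidHom := by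
    intro s hs N'
    rw [Subgroup.map_inf _ _ _ (MulAut.conj s).injective, conjMap_sylow_eq _ hs]
  rw [e _ (SetLike.coe_mem _), Cfsg.Agent.Lib.Helper13.relIndex_map_conj]
  exact hg2

theorem exists_card_V (t : ZMod (2 ^ n)) : ∃ m : ℕ, Nat.card ↟(h.Vt t) = 2 ^ m ∧
    Nat.card ((S : Subgroup G) ⊓ Subgroup.normalizer (↟(h.Vt t) : Set G) : Subgroup G) = 2 ^ (m + 1) := by
  have : Fact (Nat.Prime 2) := ⟨Nat.prime_two⟩
  obtain ⟨m, hm⟩ := (S.isPGroup'.to_subgroup (h.Vt t)).exists_card_eq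
  refine ⟨m, by rw [card_up, hm], ?_⟩
  rw [inf_normalizer_up, card_up, ← relIndex_mul_card_of_le (Subgroup.le_normalizer (H := h.Vt t)),
    h.relIndex_Vt, hm, pow_succ, mul_comm]

theorem VG_le_sup (t : ZMod (2 ^ n)) :
    ↟(h.Vt t) ⊔ Subgroup.centralizer (↟(h.Vt t) : Set G) ≤
      Subgroup.normalizer (↟(h.Vt t) : Set G) :=
  sup_le Subgroup.le_normalizer (Subgroup.centralizer_le_normalizer _)

theorem not_four_dvd_relIndex_V (a : ZMod (2 ^ n)) :
    ¬ 4 ∣ (↟(h.Vt (2 * a)) ⊔ Subgroup.centralizer (↟(h.Vt (2 * a)) : Set G)).relIndex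
      (Subgroup.normalizer (↟(h.Vt (2 * a)) : Set G)) := by
  obtain ⟨m, hm1, hm2⟩ := exists_card_V S h (2 * a)
  apply not_four_dvd_relIndex _ _ ↟(h.Vt (2 * a)) (VG_le_sup S h _) le_sup_left hm1
  intro hd
  rw [← relIndex_mul_card_of_le (inf_le_right : (S : Subgroup G) ⊓
    Subgroup.normalizer (↟(h.Vt (2 * a)) : Set G) ≤ _), hm2, pow_succ 2 (m + 1), mul_comm (2 ^ (m + 1)) 2,
    Nat.mul_dvd_mul_iff_right (by positivity)] at hd
  exact not_two_dvd_relIndex_normalizer_V S h a hd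

theorem two_dvd_relIndex_V (t : ZMod (2 ^ n)) :
    2 ∣ (↟(h.Vt t) ⊔ Subgroup.centralizer (↟(h.Vt t) : Set G)).relIndex
      (Subgroup.normalizer (↟(h.Vt t) : Set G)) := by
  obtain ⟨s, hsN, hsV, hs2⟩ := exists_of_relIndex_two (h.relIndex_Vt t)
  have huN : (s : G) ∈ Subgroup.normalizer (↟(h.Vt t) : Set G) := coe_mem_normalizer_up hsN
  have huD : (s : G) ∉ ↟(h.Vt t) ⊔ Subgroup.centralizer (↟(h.Vt t) : Set G) := by
    intro hmem
    obtain ⟨q, hq, c, hc, hqc⟩ :=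
      (mem_sup_of_le_normalizer (Subgroup.centralizer_le_normalizer (↟(h.Vt t) : Set G))).mp hmem
    have hcS : c ∈ (S : Subgroup G) := by
      have : c = q⁻¹ * (s : G) := by rw [← hqc]; group
      rw [this]
      exact (S : Subgroup G).mul_mem ((S : Subgroup G).inv_mem (up_le _ _ hq)) s.2
    have hc' : (⟨c, hcS⟩ : (S : Subgroup G)) ∈ h.Vt t :=
      h.centralizer_Vt_le t (coe_mem_centralizer_up_iff.mp hc)
    apply hsV
    rw [← coe_mem_up (S := (S : Subgroup G)), ← hqc]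
    exact Subgroup.mul_mem _ hq (coe_mem_up.mpr hc')
  have hu2 : (s : G) * (s : G) ∈ ↟(h.Vt t) ⊔ Subgroup.centralizer (↟(h.Vt t) : Set G) := by
    apply Subgroup.mem_sup_left
    exact coe_mem_up (s := s * s) |>.mpr hs2
  exact two_dvd_relIndex_of_mem _ _ (normal_sup_centralizer_subgroupOf_normalizer _) huN huD hu2

/-- odd-order elements of `N_G(V) ∩ Q C_G(Q)` lie in `C_G(V)` -/
theorem mem_centralizer_V_of_mem_sup (a : ZMod (2 ^ n)) {g : G}
    (hgN : g ∈ Subgroup.normalizer (↟(h.Vt (2 * a)) : Set G)) (hodd : Odd (orderOf g))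
    (hgQ : g ∈ ↟(h.Qa a) ⊔ Subgroup.centralizer (↟(h.Qa a) : Set G)) :
    g ∈ Subgroup.centralizer (↟(h.Vt (2 * a)) : Set G) := by
  have : Fact (Nat.Prime 2) := ⟨Nat.prime_two⟩
  have hQ2 : IsPGroup 2 ↟(h.Qa a) := S.isPGroup'.to_le (up_le _ _)
  have h1 : g ∈ Subgroup.centralizer (↟(h.Qa a) : Set G) :=
    Cfsg.Agent.Lib.Helper9.mem_centralizer_of_mem_sup_centralizer (p := 2) ↟(h.Qa a) hQ2 hgQ
      (Nat.coprime_two_right.mpr hodd)
  exact mem_centralizer_V_of_centralizes_Q S h a h1 (odd_centralizes_ZG S h hgN hodd)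

/-- `|N_G(V) : V C_G(V)| ∈ {2, 6}` -/
theorem V_index_cases (a : ZMod (2 ^ n)) :
    (↟(h.Vt (2 * a)) ⊔ Subgroup.centralizer (↟(h.Vt (2 * a)) : Set G)).relIndex
      (Subgroup.normalizer (↟(h.Vt (2 * a)) : Set G)) = 2 ∨
    (↟(h.Vt (2 * a)) ⊔ Subgroup.centralizer (↟(h.Vt (2 * a)) : Set G)).relIndex
      (Subgroup.normalizer (↟(h.Vt (2 * a)) : Set G)) = 6 := by
  set V := ↟(h.Vt (2 * a)) with hV
  set Q := ↟(h.Qa a) with hQ
  set M := V ⊔ Subgroup.centralizer (V : Set G) with hM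
  set N := Subgroup.normalizer (V : Set G) with hN
  set MQ := Q ⊔ Subgroup.centralizer (Q : Set G) with hMQ
  set NQ := Subgroup.normalizer (Q : Set G) with hNQ
  have hMN : M ≤ N := VG_le_sup S h _
  have hMMQ : M ≤ MQ := by
    rw [hM, hV, VG_eq_sup S h a]
    apply sup_le
    · apply sup_le le_sup_left
      exact (ZG_le_centralizer_up S h _).trans le_sup_right
    · have hsub : ((↟(h.Qa a) : Subgroup G) : Set G) ⊆
          ((↟(h.Qa a) ⊔ ↟(Subgroup.center (S : Subgroup G)) : Subgroup G) : Set G) :=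
        SetLike.coe_subset_coe.mpr le_sup_left
      exact (Subgroup.centralizer_le hsub).trans le_sup_right
  have h1 : M.relIndex (N ⊓ MQ) * (N ⊓ MQ).relIndex N = M.relIndex N :=
    Subgroup.relIndex_mul_relIndex M (N ⊓ MQ) N (le_inf hMN hMMQ) inf_le_left
  obtain ⟨j, hj⟩ := relIndex_eq_two_pow_of_odd_mem M (N ⊓ MQ) (by
    rintro g ⟨hgN, hgQ⟩ hodd
    exact Subgroup.mem_sup_right (mem_centralizer_V_of_mem_sup S h a hgN hodd hgQ))
  obtain ⟨e0⟩ := h.Qa_quaternion a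
  have eQ : Q ≃* QuaternionGroup 2 :=
    (Subgroup.equivMapOfInjective _ _ (S : Subgroup G).subtype_injective).symm.trans e0
  have h2 : (N ⊓ MQ).relIndex N ∣ 6 := by
    rw [inf_comm, Subgroup.inf_relIndex_right]
    exact (relIndex_dvd_relIndex_of_le_of_normal MQ N NQ (normalizer_V_le_normalizer_Q S h a)
      (normal_sup_centralizer_subgroupOf_normalizer _)).trans
      (relIndex_sup_dvd_six_of_quaternion _ eQ)
  exact two_or_six_of_factor (by rw [← h1, hj]) h2 (two_dvd_relIndex_V S h _)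
    (not_four_dvd_relIndex_V S h a)

end Cfsg.Agent.Lib.Helper9.Wr
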