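import Mathlib
import Cfsg.Agent.Lib.Helper9.Wr.Local4
import Cfsg.Agent.Lib.Helper9.Wr.Cent3
import Cfsg.Agent.Lib.Helper9.FusionInv
import Cfsg.Agent.Lib.Helper9.OddChain
import Cfsg.Agent.Lib.Helper9.QD.Fusion2

/-!
# Wreathed Sylow 2-subgroups: the fusion lemma and the action of odd-order elements
-/

set_option autoImplicit false
set_option linter.unusedSectionVars false

namespace Cfsg.Agent.Lib.Helper9.Wr

open Cfsg.Agent.Lib.Helper9.QD (Mz Kz two_mul_Mz two_mul_Kz Mz_ne_zero eq_zero_or_eq_Mz_of_two_mul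
  eq_of_four_mul Mz_mul_Mz Mz_mul_even Mz_mul_odd even_or_odd coe_mem_zpowers_iff)
open Cfsg.Agent.Lib.Helper9.WrLocal
open Cfsg.Agent.Lib.Helper9 (mem_conjMap conj_mem_conjMap conjMap_eq_of_le card_conjMap
  mem_sup_of_le_normalizer)

variable {G : Type*} [Group G] [Finite G] (S : Sylow 2 G) {n : ℕ} {x y z : (S : Subgroup G)}
  (h : WrData (S : Subgroup G) n x y z)
include h

local notation:max "↟" X:max => up (S : Subgroup G) X

/-- **Fusion lemma for wreathed Sylow 2-subgroups.** A property of elements of `S` invariant under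
`S` and under the odd-order elements of `N_G(A)` and of the `N_G(V_{2a})` is invariant under
`G`-fusion. -/
theorem wr_fusion (Φ : G → Prop)
    (hS : ∀ s ∈ (S : Subgroup G), ∀ a ∈ (S : Subgroup G), Φ a → Φ (s * a * s⁻¹))
    (hA : ∀ g ∈ Subgroup.normalizer (↟h.A : Set G), Odd (orderOf g) →
      ∀ u ∈ ↟h.A, Φ u → Φ (g * u * g⁻¹))
    (hV : ∀ a : ZMod (2 ^ n), ∀ g ∈ Subgroup.normalizer (↟(h.Vt (2 * a)) : Set G), Odd (orderOf g) →
      ∀ u ∈ ↟(h.Vt (2 * a)), Φ u → Φ (g * u * g⁻¹))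
    (u : G) (hu : u ∈ (S : Subgroup G)) (g : G) (hg : g * u * g⁻¹ ∈ (S : Subgroup G))
    (hΦ : Φ u) : Φ (g * u * g⁻¹) := by
  have : Fact (Nat.Prime 2) := ⟨Nat.prime_two⟩
  apply Cfsg.Agent.Lib.Helper9.fusion_invariant' S Φ hS ?_ u hu g hg hΦ
  intro U hUS hcen _ g hgN hcop v hv hΦv
  have hodd : Odd (orderOf g) := Nat.coprime_two_right.mp hcop
  have hC : Subgroup.centralizer ((U.subgroupOf S : Subgroup (S : Subgroup G)) : Set (S : Subgroup G))
      ≤ U.subgroupOf S := by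
    intro s hs
    rw [Subgroup.mem_subgroupOf]
    apply hcen
    refine ⟨s.2, ?_⟩
    have := coe_mem_centralizer_up_iff (S := (S : Subgroup G)) (X := U.subgroupOf S) (s := s)
    rw [up_of_subgroupOf hUS] at this
    exact this.mpr hs
  by_cases hAut : IsPGroup 2 (MulAut (U.subgroupOf (S : Subgroup G)))
  · have h1 : IsPGroup 2 (MulAut U) := Cfsg.Agent.Lib.Helper9.isPGroup_mulAut_of_subgroupOf hUS hAut
    have h2 := Cfsg.Agent.Lib.Helper9.mem_centralizer_of_isPGroup_mulAut U h1 hgN hcop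
    have h3 := (Subgroup.mem_centralizer_iff.mp h2) v hv
    rw [← h3, mul_inv_cancel_right]
    exact hΦv
  · rcases h.centric_cases _ hC hAut with hUA | ⟨a, hUV⟩
    · have hU : U = ↟h.A := by rw [← hUA, up_of_subgroupOf hUS]
      subst hU
      exact hA g hgN hodd v hv hΦv
    · have hU : U = ↟(h.Vt (2 * a)) := by rw [← hUV, up_of_subgroupOf hUS]
      subst hU
      exact hV a g hgN hodd v hv hΦv

/-- the indices `|N_G(V_{2a}) : V_{2a} C_G(V_{2a})|` do not depend on `a` -/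
theorem relIndex_V_eq (a a' : ZMod (2 ^ n)) :
    (↟(h.Vt (2 * a')) ⊔ Subgroup.centralizer (↟(h.Vt (2 * a')) : Set G)).relIndex
      (Subgroup.normalizer (↟(h.Vt (2 * a')) : Set G)) =
    (↟(h.Vt (2 * a)) ⊔ Subgroup.centralizer (↟(h.Vt (2 * a)) : Set G)).relIndex
      (Subgroup.normalizer (↟(h.Vt (2 * a)) : Set G)) := by
  have hconj : ↟(h.Vt (2 * a')) =
      (↟(h.Vt (2 * a))).map (MulAut.conj ((W x y (a' - a) 0 : (S : Subgroup G)) : G)).toMonoidHom := by
    rw [← up_conj, h.Vt_conj]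
    congr 2
    ring
  rw [hconj, Cfsg.Agent.Lib.Helper9.relIndex_sup_centralizer_normalizer_conjMap]

/-- if `|N_G(V) : V C_G(V)| = 2`, odd-order elements of `N_G(V)` centralize `V` -/
theorem odd_centralizes_V_of_relIndex_two (t : ZMod (2 ^ n))
    (h₂ : (↟(h.Vt t) ⊔ Subgroup.centralizer (↟(h.Vt t) : Set G)).relIndex
      (Subgroup.normalizer (↟(h.Vt t) : Set G)) = 2) {g : G}
    (hg : g ∈ Subgroup.normalizer (↟(h.Vt t) : Set G)) (hodd : Odd (orderOf g)) :
    g ∈ Subgroup.centralizer (↟(h.Vt t) : Set G) := by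
  have : Fact (Nat.Prime 2) := ⟨Nat.prime_two⟩
  have h1 := Cfsg.Agent.Lib.Helper9.mem_of_odd_of_relIndex_two _ _ h₂ hg hodd
  have hV2 : IsPGroup 2 ↟(h.Vt t) := S.isPGroup'.to_le (up_le _ _)
  exact Cfsg.Agent.Lib.Helper9.mem_centralizer_of_mem_sup_centralizer (p := 2) ↟(h.Vt t) hV2 h1
    (Nat.coprime_two_right.mpr hodd)

/-- if `|N_G(A) : C_G(A)| = 2`, odd-order elements of `N_G(A)` centralize `A` -/
theorem odd_centralizes_A_of_relIndex_two
    (h₁ : (Subgroup.centralizer (↟h.A : Set G)).relIndex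
      (Subgroup.normalizer (↟h.A : Set G)) = 2) {g : G}
    (hg : g ∈ Subgroup.normalizer (↟h.A : Set G)) (hodd : Odd (orderOf g)) :
    g ∈ Subgroup.centralizer (↟h.A : Set G) :=
  Cfsg.Agent.Lib.Helper9.mem_of_odd_of_relIndex_two _ _ h₁ hg hodd

theorem conj_eq_of_mem_centralizer {H : Subgroup G} {g u : G}
    (hg : g ∈ Subgroup.centralizer (H : Set G)) (hu : u ∈ H) : g * u * g⁻¹ = u := by
  have := (Subgroup.mem_centralizer_iff.mp hg) u hu
  rw [← this, mul_inv_cancel_right]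

end Cfsg.Agent.Lib.Helper9.Wr
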