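import Mathlib
import Cfsg.Agent.Lib.Helper9.Wr.Local5

/-!
# Wreathed Sylow 2-subgroups: the action of non-centralizing odd-order elements on `A` and `V`
-/

set_option autoImplicit false
set_option linter.unusedSectionVars false

namespace Cfsg.Agent.Lib.Helper9.Wr

open Cfsg.Agent.Lib.Helper9.QD (Mz Kz two_mul_Mz two_mul_Kz Mz_ne_zero eq_zero_or_eq_Mz_of_two_mul
  eq_of_four_mul Mz_mul_Mz Mz_mul_even Mz_mul_odd even_or_odd coe_mem_zpowers_iff isConj_coe)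
open Cfsg.Agent.Lib.Helper9.WrLocal
open Cfsg.Agent.Lib.Helper9 (mem_conjMap conj_mem_conjMap conjMap_eq_of_le card_conjMap
  mem_sup_of_le_normalizer)

variable {G : Type*} [Group G] [Finite G] (S : Sylow 2 G) {n : ℕ} {x y z : (S : Subgroup G)}
  (h : WrData (S : Subgroup G) n x y z)
include h

local notation:max "↟" X:max => up (S : Subgroup G) X

/-! ### the abelian subgroup -/

theorem conj_ne_of_mem_T {g : G} (hgN : g ∈ Subgroup.normalizer (↟h.A : Set G))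
    (hodd : Odd (orderOf g)) (hgC : g ∉ Subgroup.centralizer (↟h.A : Set G)) {t : G}
    (ht : t ∈ ↟h.T) (ht1 : t ≠ 1) : g * t * g⁻¹ ≠ t := by
  intro heq
  apply hgC
  apply mem_centralizer_A_of_centralizes_T S h hgN hodd
  exact Cfsg.Agent.Lib.Helper9.klein_centralizes_of_fix _ (isKleinFour_TG S h) ht ht1
    (normalizer_A_le_normalizer_T S h hgN) hodd heq

theorem conj_ne_of_mem_A {g : G} (hgN : g ∈ Subgroup.normalizer (↟h.A : Set G))
    (hodd : Odd (orderOf g)) (hgC : g ∉ Subgroup.centralizer (↟h.A : Set G)) {u : G}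
    (hu : u ∈ ↟h.A) (hu1 : u ≠ 1) : g * u * g⁻¹ ≠ u := by
  intro heq
  have hpow : u ^ (2 ^ n) = 1 := pow_AG S h u hu
  obtain ⟨k, -, hk⟩ := (Nat.dvd_prime_pow Nat.prime_two).mp (orderOf_dvd_of_pow_eq_one hpow)
  have hk0 : k ≠ 0 := by
    rintro rfl
    rw [pow_zero, orderOf_eq_one_iff] at hk
    exact hu1 hk
  have hk' : 2 ^ k = 2 ^ (k - 1) * 2 := by rw [← pow_succ]; congr 1; omega
  set t := u ^ (2 ^ (k - 1)) with ht
  have htA : t ∈ ↟h.A := Subgroup.pow_mem _ hu _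
  have ht2 : t * t = 1 := by
    rw [ht, ← pow_two, ← pow_mul, ← hk', ← hk, pow_orderOf_eq_one]
  have ht1 : t ≠ 1 := by
    apply pow_ne_one_of_lt_orderOf (by positivity)
    rw [hk, hk']
    have : 0 < 2 ^ (k - 1) := by positivity
    omega
  have htT : t ∈ ↟h.T := (mem_TG_iff S h).mpr ⟨htA, ht2⟩
  apply conj_ne_of_mem_T S h hgN hodd hgC htT ht1
  rw [ht, ← conj_pow, heq]

/-- a non-centralizing odd-order element of `N_G(A)` acts without fixed points, so `A = [A, g]` -/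
theorem exists_comm_eq_of_mem_A {g : G} (hgN : g ∈ Subgroup.normalizer (↟h.A : Set G))
    (hodd : Odd (orderOf g)) (hgC : g ∉ Subgroup.centralizer (↟h.A : Set G)) {u : G}
    (hu : u ∈ ↟h.A) : ∃ v ∈ ↟h.A, u = v⁻¹ * (g * v * g⁻¹) := by
  let f : ↟h.A → ↟h.A := fun v =>
    ⟨(v : G)⁻¹ * (g * v * g⁻¹), Subgroup.mul_mem _ (Subgroup.inv_mem _ v.2)
      (conj_mem_of_mem_normalizer hgN v.2)⟩
  have hinj : Function.Injective f := by
    intro v w hvw
    have h1 : (v : G)⁻¹ * (g * v * g⁻¹) = (w : G)⁻¹ * (g * w * g⁻¹) := congrArg Subtype.val hvw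
    have hvA := v.2
    have hwA := w.2
    have hgv := conj_mem_of_mem_normalizer hgN hvA
    have hgw := conj_mem_of_mem_normalizer hgN hwA
    have hc := comm_AG S h
    by_contra hne
    have hne' : (v : G) * (w : G)⁻¹ ≠ 1 := by
      intro h2
      apply hne
      apply Subtype.ext
      exact mul_inv_eq_one.mp h2
    apply conj_ne_of_mem_A S h hgN hodd hgC
      (Subgroup.mul_mem _ hvA (Subgroup.inv_mem _ hwA)) hne'
    have h3 : g * ((v : G) * (w : G)⁻¹) * g⁻¹ = (g * v * g⁻¹) * (g * w * g⁻¹)⁻¹ := by group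
    rw [h3]
    -- from h1 : v⁻¹ * gv = w⁻¹ * gw, in the abelian group A
    have h4 : (g * v * g⁻¹) = (v : G) * ((w : G)⁻¹ * (g * w * g⁻¹)) := by
      rw [← h1]; group
    rw [h4]
    group
  obtain ⟨v, hv⟩ := (Finite.injective_iff_surjective.mp hinj) ⟨u, hu⟩
  exact ⟨v, v.2, (congrArg Subtype.val hv).symm⟩

theorem zeta_mem_TG : ((W x y (Mz n) (Mz n) : (S : Subgroup G)) : G) ∈ ↟h.T :=
  coe_mem_up.mpr (h.mem_T_iff.mpr (Or.inr (Or.inr (Or.inr rfl))))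

/-- the central involution is fused to `W M 0` -/
theorem isConj_zeta_a {g : G} (hgN : g ∈ Subgroup.normalizer (↟h.A : Set G))
    (hodd : Odd (orderOf g)) (hgC : g ∉ Subgroup.centralizer (↟h.A : Set G)) :
    IsConj ((W x y (Mz n) (Mz n) : (S : Subgroup G)) : G)
      ((W x y (Mz n) 0 : (S : Subgroup G)) : G) := by
  have hne := conj_ne_of_mem_T S h hgN hodd hgC (zeta_mem_TG S h) (zeta_ne_one S h)
  have hmem := conj_mem_of_mem_normalizer (normalizer_A_le_normalizer_T S h hgN) (zeta_mem_TG S h)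
  obtain ⟨t, ht, htg⟩ := exists_of_mem_up hmem
  have hconj : IsConj ((W x y (Mz n) (Mz n) : (S : Subgroup G)) : G) (t : G) :=
    isConj_iff.mpr ⟨g, htg.symm⟩
  rcases h.mem_T_iff.mp ht with rfl | rfl | rfl | rfl
  · exfalso
    simp only [Subgroup.coe_one] at htg
    apply zeta_ne_one S h
    have : ((W x y (Mz n) (Mz n) : (S : Subgroup G)) : G) =
        g⁻¹ * (g * ((W x y (Mz n) (Mz n) : (S : Subgroup G)) : G) * g⁻¹) * g := by group
    rw [this, ← htg]; group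
  · exact hconj
  · refine hconj.trans (isConj_coe ?_)
    rw [isConj_iff]
    exact ⟨z, h.z_conj_W _ _⟩
  · exact absurd htg.symm hne

/-! ### the subgroups `V` -/

theorem i0G_mem_QG (a : ZMod (2 ^ n)) :
    ((W x y (Kz n) (-Kz n) : (S : Subgroup G)) : G) ∈ ↟(h.Qa a) :=
  coe_mem_up.mpr (h.i0_mem_Qa a)

theorem orderOf_i0G : orderOf ((W x y (Kz n) (-Kz n) : (S : Subgroup G)) : G) = 4 := by
  rw [Subgroup.orderOf_coe, h.orderOf_i0]

theorem card_QG (a : ZMod (2 ^ n)) : Nat.card ↟(h.Qa a) = 8 := by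
  rw [card_up, h.card_Qa]

theorem not_mem_centralizer_Q (a : ZMod (2 ^ n)) {g : G}
    (hgN : g ∈ Subgroup.normalizer (↟(h.Vt (2 * a)) : Set G)) (hodd : Odd (orderOf g))
    (hgC : g ∉ Subgroup.centralizer (↟(h.Vt (2 * a)) : Set G)) :
    g ∉ Subgroup.centralizer (↟(h.Qa a) : Set G) :=
  fun hQ => hgC (mem_centralizer_V_of_centralizes_Q S h a hQ (odd_centralizes_ZG S h hgN hodd))

theorem conj_not_mem_zpowers (a : ZMod (2 ^ n)) {g : G}
    (hgN : g ∈ Subgroup.normalizer (↟(h.Vt (2 * a)) : Set G)) (hodd : Odd (orderOf g))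
    (hgC : g ∉ Subgroup.centralizer (↟(h.Vt (2 * a)) : Set G)) {c : G} (hc : c ∈ ↟(h.Qa a))
    (hc4 : orderOf c = 4) : g * c * g⁻¹ ∉ Subgroup.zpowers c := by
  intro hmem
  exact not_mem_centralizer_Q S h a hgN hodd hgC
    (Cfsg.Agent.Lib.Helper9.quat_centralizes_of_normalizes _ (card_QG S h a) hc hc4
      (normalizer_V_le_normalizer_Q S h a hgN) hodd hmem)

theorem conj_i0 (a : ZMod (2 ^ n)) {g : G}
    (hgN : g ∈ Subgroup.normalizer (↟(h.Vt (2 * a)) : Set G)) (hodd : Odd (orderOf g))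
    (hgC : g ∉ Subgroup.centralizer (↟(h.Vt (2 * a)) : Set G)) :
    ∃ c₁ : ZMod (2 ^ n), 4 * c₁ = 4 * a ∧
      g * ((W x y (Kz n) (-Kz n) : (S : Subgroup G)) : G) * g⁻¹ =
        ((ZW x y z c₁ (Mz n - c₁) : (S : Subgroup G)) : G) := by
  have hmem := conj_mem_of_mem_normalizer (normalizer_V_le_normalizer_Q S h a hgN)
    (i0G_mem_QG S h a)
  obtain ⟨q, hq, hqg⟩ := exists_of_mem_up hmem
  rcases hq with ⟨c, hc, rfl⟩ | ⟨c, hc, rfl⟩
  · exfalso
    apply conj_not_mem_zpowers S h a hgN hodd hgC (i0G_mem_QG S h a) (orderOf_i0G S h)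
    rw [← hqg, ← up_zpowers]
    exact coe_mem_up.mpr (h.mem_zpowers_i0 hc)
  · exact ⟨c, hc, hqg.symm⟩

theorem sq_props {t : ZMod (2 ^ n)} {g : G}
    (hgN : g ∈ Subgroup.normalizer (↟(h.Vt t) : Set G)) (hodd : Odd (orderOf g))
    (hgC : g ∉ Subgroup.centralizer (↟(h.Vt t) : Set G)) :
    g * g ∈ Subgroup.normalizer (↟(h.Vt t) : Set G) ∧ Odd (orderOf (g * g)) ∧
      g * g ∉ Subgroup.centralizer (↟(h.Vt t) : Set G) := by
  refine ⟨Subgroup.mul_mem _ hgN hgN, ?_, ?_⟩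
  · rw [← pow_two]
    exact Odd.of_dvd_nat hodd (orderOf_pow_dvd 2)
  · intro hC
    apply hgC
    obtain ⟨m, hm⟩ := exists_pow_eq_self_of_coprime (x := g) (n := 2)
      (Nat.coprime_two_left.mpr hodd)
    rw [← hm, pow_two]
    exact Subgroup.pow_mem _ hC m

theorem conj_u1 (a : ZMod (2 ^ n)) {g : G}
    (hgN : g ∈ Subgroup.normalizer (↟(h.Vt (2 * a)) : Set G)) (hodd : Odd (orderOf g))
    (hgC : g ∉ Subgroup.centralizer (↟(h.Vt (2 * a)) : Set G)) {c₁ : ZMod (2 ^ n)}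
    (hc₁ : 4 * c₁ = 4 * a)
    (hu₁ : g * ((W x y (Kz n) (-Kz n) : (S : Subgroup G)) : G) * g⁻¹ =
        ((ZW x y z c₁ (Mz n - c₁) : (S : Subgroup G)) : G)) :
    ∃ c₂ : ZMod (2 ^ n), (c₂ - c₁ = Kz n ∨ c₂ - c₁ = Mz n + Kz n) ∧
      g * ((ZW x y z c₁ (Mz n - c₁) : (S : Subgroup G)) : G) * g⁻¹ =
        ((ZW x y z c₂ (Mz n - c₂) : (S : Subgroup G)) : G) := by
  have hM := two_mul_Mz (n := n) h.n1
  obtain ⟨hgN2, hodd2, hgC2⟩ := sq_props S h hgN hodd hgC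
  obtain ⟨c₂, hc₂, h2⟩ := conj_i0 S h a hgN2 hodd2 hgC2
  have h3 : g * ((ZW x y z c₁ (Mz n - c₁) : (S : Subgroup G)) : G) * g⁻¹ =
      ((ZW x y z c₂ (Mz n - c₂) : (S : Subgroup G)) : G) := by
    rw [← h2, ← hu₁]; group
  have hu₁Q : ((ZW x y z c₁ (Mz n - c₁) : (S : Subgroup G)) : G) ∈ ↟(h.Qa a) :=
    coe_mem_up.mpr (h.ZW_mem_Qa.mpr ⟨hc₁, rfl⟩)
  have hu₁4 : orderOf ((ZW x y z c₁ (Mz n - c₁) : (S : Subgroup G)) : G) = 4 := by
    rw [← hu₁, ← orderOf_i0G S h]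
    exact (MulAut.conj g).orderOf_eq _
  have hnot := conj_not_mem_zpowers S h a hgN hodd hgC hu₁Q hu₁4
  rw [h3] at hnot
  refine ⟨c₂, ?_, h3⟩
  rcases eq_of_four_mul h.hn (a := c₂ - c₁) (by linear_combination hc₂ - hc₁) with h0 | h0 | h0 | h0
  · exfalso
    apply hnot
    have : c₂ = c₁ := by linear_combination h0
    rw [this]
    exact Subgroup.mem_zpowers _
  · exact Or.inl h0
  · exfalso
    apply hnot
    have e : ZW x y z c₂ (Mz n - c₂) = (ZW x y z c₁ (Mz n - c₁))⁻¹ := by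
      rw [h.ZW_inv, h.ZW_inj]
      exact ⟨by linear_combination h0 + hM, by linear_combination -h0⟩
    rw [e]
    simp only [Subgroup.coe_inv]
    exact Subgroup.inv_mem _ (Subgroup.mem_zpowers _)
  · exact Or.inr h0

/-- `Q_a = [Q_a, g]` for a non-centralizing odd-order element `g` of `N_G(V)` -/
theorem QG_le_of_comm_mem (a : ZMod (2 ^ n)) {g : G}
    (hgN : g ∈ Subgroup.normalizer (↟(h.Vt (2 * a)) : Set G)) (hodd : Odd (orderOf g))
    (hgC : g ∉ Subgroup.centralizer (↟(h.Vt (2 * a)) : Set G)) (H : Subgroup G)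
    (hH : ∀ q ∈ ↟(h.Qa a), q⁻¹ * (g * q * g⁻¹) ∈ H) : ↟(h.Qa a) ≤ H := by
  have hM := two_mul_Mz (n := n) h.n1
  have hK := two_mul_Kz (n := n) h.hn
  obtain ⟨c₁, hc₁, hu₁⟩ := conj_i0 S h a hgN hodd hgC
  obtain ⟨c₂, hc₂, hu₂⟩ := conj_u1 S h a hgN hodd hgC hc₁ hu₁
  have he₁ := hH _ (i0G_mem_QG S h a)
  have he₂ := hH _ (coe_mem_up.mpr (h.ZW_mem_Qa.mpr ⟨hc₁, rfl⟩))
  rw [hu₁] at he₁
  rw [hu₂] at he₂
  -- in coordinates
  have he₁' : ZW x y z (c₁ - Kz n) (Mz n - c₁ + Kz n) ∈ H.subgroupOf (S : Subgroup G) := by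
    rw [Subgroup.mem_subgroupOf]
    have : ZW x y z (c₁ - Kz n) (Mz n - c₁ + Kz n) =
        (W x y (Kz n) (-Kz n))⁻¹ * ZW x y z c₁ (Mz n - c₁) := by
      rw [← h.W_neg, h.W_mul_ZW, h.ZW_inj]
      constructor <;> ring
    rw [this]
    exact he₁
  have he₂' : W x y (c₁ - c₂) (c₂ - c₁) ∈ H.subgroupOf (S : Subgroup G) := by
    rw [Subgroup.mem_subgroupOf]
    have : W x y (c₁ - c₂) (c₂ - c₁) =
        (ZW x y z c₁ (Mz n - c₁))⁻¹ * ZW x y z c₂ (Mz n - c₂) := by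
      rw [h.ZW_inv, h.ZW_mul_ZW, h.W_inj]
      constructor <;> ring
    rw [this]
    exact he₂
  have hi : W x y (Kz n) (-Kz n) ∈ H.subgroupOf (S : Subgroup G) := by
    rcases hc₂ with h0 | h0
    · have : W x y (Kz n) (-Kz n) = (W x y (c₁ - c₂) (c₂ - c₁))⁻¹ := by
        rw [← h.W_neg, h.W_inj]
        exact ⟨by linear_combination -h0, by linear_combination h0⟩
      rw [this]
      exact Subgroup.inv_mem _ he₂'
    · have : W x y (Kz n) (-Kz n) = W x y (c₁ - c₂) (c₂ - c₁) := by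
        rw [h.W_inj]
        exact ⟨by linear_combination h0 + hK + hM, by linear_combination -h0 - hK - hM⟩
      rw [this]
      exact he₂'
  have hu : ZW x y z c₁ (Mz n - c₁) ∈ H.subgroupOf (S : Subgroup G) := by
    have : ZW x y z c₁ (Mz n - c₁) =
        W x y (Kz n) (-Kz n) * ZW x y z (c₁ - Kz n) (Mz n - c₁ + Kz n) := by
      rw [h.W_mul_ZW, h.ZW_inj]
      constructor <;> ring
    rw [this]
    exact Subgroup.mul_mem _ hi he₁'
  have hle := h.Qa_le_of_mem (H.subgroupOf (S : Subgroup G)) hc₁ hi hu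
  rintro _ ⟨q, hq, rfl⟩
  exact Subgroup.mem_subgroupOf.mp (hle hq)

/-- the non-central involution `W M 0` of `A` is fused to an involution outside `A` -/
theorem conj_a (a : ZMod (2 ^ n)) {g : G}
    (hgN : g ∈ Subgroup.normalizer (↟(h.Vt (2 * a)) : Set G)) (hodd : Odd (orderOf g))
    (hgC : g ∉ Subgroup.centralizer (↟(h.Vt (2 * a)) : Set G)) :
    ∃ e : ZMod (2 ^ n), g * ((W x y (Mz n) 0 : (S : Subgroup G)) : G) * g⁻¹ =
      ((ZW x y z e (-e) : (S : Subgroup G)) : G) := by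
  have hM := two_mul_Mz (n := n) h.n1
  have hK := two_mul_Kz (n := n) h.hn
  obtain ⟨c₁, hc₁, hu₁⟩ := conj_i0 S h a hgN hodd hgC
  have hZ := odd_centralizes_ZG S h hgN hodd
  have hkk : ((W x y (Kz n) (Kz n) : (S : Subgroup G)) : G) ∈ ↟(Subgroup.center (S : Subgroup G)) :=
    coe_mem_up.mpr (h.mem_center_iff.mpr ⟨_, rfl⟩)
  have h1 := conj_eq_of_mem_centralizer S h hZ hkk
  refine ⟨c₁ + Kz n, ?_⟩
  rw [h.WM0_eq]
  simp only [Subgroup.coe_mul]
  have h2 : g * (((W x y (Kz n) (-Kz n) : (S : Subgroup G)) : G) *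
      ((W x y (Kz n) (Kz n) : (S : Subgroup G)) : G)) * g⁻¹ =
      (g * ((W x y (Kz n) (-Kz n) : (S : Subgroup G)) : G) * g⁻¹) *
      (g * ((W x y (Kz n) (Kz n) : (S : Subgroup G)) : G) * g⁻¹) := by group
  rw [h2, hu₁, h1, ← Subgroup.coe_mul, h.ZW_mul_W]
  congr 1
  rw [h.ZW_inj]
  exact ⟨rfl, by linear_combination hK + hM⟩

theorem isConj_a_b (a : ZMod (2 ^ n)) {g : G}
    (hgN : g ∈ Subgroup.normalizer (↟(h.Vt (2 * a)) : Set G)) (hodd : Odd (orderOf g))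
    (hgC : g ∉ Subgroup.centralizer (↟(h.Vt (2 * a)) : Set G)) :
    IsConj ((W x y (Mz n) 0 : (S : Subgroup G)) : G)
      ((ZW x y z (0 : ZMod (2 ^ n)) 0 : (S : Subgroup G)) : G) := by
  obtain ⟨e, he⟩ := conj_a S h a hgN hodd hgC
  have h1 : IsConj ((W x y (Mz n) 0 : (S : Subgroup G)) : G)
      ((ZW x y z e (-e) : (S : Subgroup G)) : G) := isConj_iff.mpr ⟨g, he⟩
  refine h1.trans (isConj_coe ?_).symm
  rw [isConj_iff]
  refine ⟨W x y e 0, ?_⟩
  rw [h.conj_W_ZW, h.ZW_inj]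
  constructor <;> ring

/-- `[V, g] ≤ Q_a` for odd-order `g ∈ N_G(V)` -/
theorem comm_mem_QG (a : ZMod (2 ^ n)) {g : G}
    (hgN : g ∈ Subgroup.normalizer (↟(h.Vt (2 * a)) : Set G)) (hodd : Odd (orderOf g)) {u : G}
    (hu : u ∈ ↟(h.Vt (2 * a))) : u⁻¹ * (g * u * g⁻¹) ∈ ↟(h.Qa a) := by
  rw [VG_eq_sup S h a] at hu
  have hZN : ↟(Subgroup.center (S : Subgroup G)) ≤ Subgroup.normalizer (↟(h.Qa a) : Set G) :=
    (ZG_le_centralizer_up S h _).trans (Subgroup.centralizer_le_normalizer _)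
  obtain ⟨q, hq, c, hc, rfl⟩ := (mem_sup_of_le_normalizer hZN).mp hu
  have hZ := odd_centralizes_ZG S h hgN hodd
  have h1 := conj_eq_of_mem_centralizer S h hZ hc
  have hgq := conj_mem_of_mem_normalizer (normalizer_V_le_normalizer_Q S h a hgN) hq
  have hmem : q⁻¹ * (g * q * g⁻¹) ∈ ↟(h.Qa a) := Subgroup.mul_mem _ (Subgroup.inv_mem _ hq) hgq
  have hcomm := (Subgroup.mem_centralizer_iff.mp (ZG_le_centralizer_up S h (h.Qa a) hc)) _ hmem
  have e : (q * c)⁻¹ * (g * (q * c) * g⁻¹) = c⁻¹ * ((q⁻¹ * (g * q * g⁻¹)) * (g * c * g⁻¹)) := by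
    group
  rw [e, h1, hcomm]
  have e2 : c⁻¹ * (c * (q⁻¹ * (g * q * g⁻¹))) = q⁻¹ * (g * q * g⁻¹) := by group
  rw [e2]
  exact hmem

end Cfsg.Agent.Lib.Helper9.Wr
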