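import Mathlib
import Cfsg.Agent.Lib.Helper9.Wr.Local5
import Cfsg.Agent.S0079

/-!
# Wreathed Sylow 2-subgroups: the case `(2, 2)` — normal 2-complement
-/

set_option autoImplicit false
set_option linter.unusedSectionVars false

namespace Cfsg.Agent.Lib.Helper9.Wr

open Cfsg.Agent.Lib.Helper9.QD (Mz Kz)

variable {G : Type*} [Group G] [Finite G] (S : Sylow 2 G) {n : ℕ} {x y z : (S : Subgroup G)}
  (h : WrData (S : Subgroup G) n x y z)
include h

local notation:max "↟" X:max => up (S : Subgroup G) X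

/-- in the case `(2, 2)` the Sylow 2-subgroup controls fusion -/
theorem control_two_two
    (h₁ : (Subgroup.centralizer (↟h.A : Set G)).relIndex (Subgroup.normalizer (↟h.A : Set G)) = 2)
    (a₀ : ZMod (2 ^ n))
    (h₂ : (↟(h.Vt (2 * a₀)) ⊔ Subgroup.centralizer (↟(h.Vt (2 * a₀)) : Set G)).relIndex
      (Subgroup.normalizer (↟(h.Vt (2 * a₀)) : Set G)) = 2)
    (u : G) (hu : u ∈ (S : Subgroup G)) (g : G) (hg : g * u * g⁻¹ ∈ (S : Subgroup G)) :
    ∃ s ∈ (S : Subgroup G), g * u * g⁻¹ = s * u * s⁻¹ := by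
  apply wr_fusion S h (fun w => ∃ s ∈ (S : Subgroup G), w = s * u * s⁻¹) ?_ ?_ ?_ u hu g hg
    ⟨1, Subgroup.one_mem _, by group⟩
  · rintro s' hs' a _ ⟨s, hs, rfl⟩
    exact ⟨s' * s, Subgroup.mul_mem _ hs' hs, by group⟩
  · intro g hgN hodd v hv hΦ
    rw [conj_eq_of_mem_centralizer S h (odd_centralizes_A_of_relIndex_two S h h₁ hgN hodd) hv]
    exact hΦ
  · intro a g hgN hodd v hv hΦ
    have h₂' := (relIndex_V_eq S h a₀ a).trans h₂
    rw [conj_eq_of_mem_centralizer S h (odd_centralizes_V_of_relIndex_two S h _ h₂' hgN hodd) hv]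
    exact hΦ

theorem main_two_two
    (h₁ : (Subgroup.centralizer (↟h.A : Set G)).relIndex (Subgroup.normalizer (↟h.A : Set G)) = 2)
    (a₀ : ZMod (2 ^ n))
    (h₂ : (↟(h.Vt (2 * a₀)) ⊔ Subgroup.centralizer (↟(h.Vt (2 * a₀)) : Set G)).relIndex
      (Subgroup.normalizer (↟(h.Vt (2 * a₀)) : Set G)) = 2) :
    Cfsg.HasNormalPComplement 2 G ∧
    Nat.card {C : ConjClasses G // ∃ t : G, orderOf t = 2 ∧ ConjClasses.mk t = C} = 3 := by
  have : Fact (Nat.Prime 2) := ⟨Nat.prime_two⟩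
  have hctrl := control_two_two S h h₁ a₀ h₂
  constructor
  · obtain ⟨N, hN, hc⟩ := (Cfsg.Agent.S0079.result (S : Subgroup G) S.isPGroup'.isNilpotent
      S.card_coprime_index).mpr (by
        rintro u hu _ hy ⟨g, rfl⟩
        obtain ⟨s, hs, hsu⟩ := hctrl u hu g hy
        exact ⟨s, hs, hsu.symm⟩)
    exact ⟨S, N, hN, hc⟩
  · have h3 := Cfsg.Agent.Lib.Helper9.card_classes_eq_of_control S (by
      intro a ha g hg
      have hg' : g⁻¹ * a * g⁻¹⁻¹ ∈ (S : Subgroup G) := by rwa [inv_inv]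
      obtain ⟨s, hs, hsu⟩ := hctrl a ha g⁻¹ hg'
      rw [inv_inv] at hsu
      exact ⟨s⁻¹, Subgroup.inv_mem _ hs, by rw [hsu, inv_inv]⟩) 1
    simp only [pow_one] at h3
    rw [h3, h.card_classes_two]

end Cfsg.Agent.Lib.Helper9.Wr
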