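import Mathlib
import Cfsg.Agent.Lib.Helper9.Wr.Local6
import Cfsg.Agent.Lib.Helper9.IndexTwo

/-!
# Wreathed Sylow 2-subgroups: involutions of `G`, and the case `(6, 6)`
-/

set_option autoImplicit false
set_option linter.unusedSectionVars false

namespace Cfsg.Agent.Lib.Helper9.Wr

open Cfsg.Agent.Lib.Helper9.QD (Mz Kz two_mul_Mz two_mul_Kz Mz_ne_zero isConj_coe
  card_classes_eq_one card_classes_eq_two exists_odd_not_mem_of_relIndex_six)
open Cfsg.Agent.Lib.Helper9.WrLocal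

variable {G : Type*} [Group G] [Finite G] (S : Sylow 2 G) {n : ℕ} {x y z : (S : Subgroup G)}
  (h : WrData (S : Subgroup G) n x y z)
include h

local notation:max "↟" X:max => up (S : Subgroup G) X

theorem orderOf_zetaG : orderOf ((W x y (Mz n) (Mz n) : (S : Subgroup G)) : G) = 2 := by
  rw [Subgroup.orderOf_coe, h.orderOf_W_eq_two]
  exact Or.inr (Or.inr ⟨rfl, rfl⟩)

theorem orderOf_aG : orderOf ((W x y (Mz n) 0 : (S : Subgroup G)) : G) = 2 := by
  rw [Subgroup.orderOf_coe, h.orderOf_W_eq_two]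
  exact Or.inl ⟨rfl, rfl⟩

theorem orderOf_bG : orderOf ((ZW x y z (0 : ZMod (2 ^ n)) 0 : (S : Subgroup G)) : G) = 2 := by
  rw [Subgroup.orderOf_coe, h.orderOf_ZW_eq_two, add_zero]

/-- every involution of `G` is conjugate to `ζ`, to `W M 0` or to `z` -/
theorem involution_isConj_G (t : G) (ht : orderOf t = 2) :
    IsConj ((W x y (Mz n) (Mz n) : (S : Subgroup G)) : G) t ∨
    IsConj ((W x y (Mz n) 0 : (S : Subgroup G)) : G) t ∨
    IsConj ((ZW x y z (0 : ZMod (2 ^ n)) 0 : (S : Subgroup G)) : G) t := by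
  have : Fact (Nat.Prime 2) := ⟨Nat.prime_two⟩
  obtain ⟨c, hc⟩ := Cfsg.Agent.Lib.Helper13.exists_conj_mem_sylow S t
    ⟨1, by rw [pow_one, ← ht]; exact pow_orderOf_eq_one t⟩
  have hts : IsConj t (c * t * c⁻¹) := isConj_iff.mpr ⟨c, rfl⟩
  have ho : orderOf (⟨c * t * c⁻¹, hc⟩ : (S : Subgroup G)) = 2 := by
    rw [← Subgroup.orderOf_coe]
    simp only
    rw [← ht]
    exact (MulAut.conj c).orderOf_eq t
  rcases h.involution_cases _ ho with h1 | h1 | h1
  · left
    have h2 := congrArg Subtype.val h1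
    simp only at h2
    rw [← h2]
    exact hts.symm
  · right; left
    exact (isConj_coe h1).trans hts.symm
  · right; right
    exact (isConj_coe h1).trans hts.symm

theorem aG_mem_AG : ((W x y (Mz n) 0 : (S : Subgroup G)) : G) ∈ ↟h.A :=
  coe_mem_up.mpr (h.W_mem_A _ _)

/-- a normal subgroup containing a non-centralizing odd-order element of `N_G(A)` contains `A` -/
theorem AG_le_of_normal (H : Subgroup G) [H.Normal] {g : G}
    (hgN : g ∈ Subgroup.normalizer (↟h.A : Set G)) (hodd : Odd (orderOf g))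
    (hgC : g ∉ Subgroup.centralizer (↟h.A : Set G)) (hgH : g ∈ H) : ↟h.A ≤ H := by
  intro u hu
  obtain ⟨v, -, rfl⟩ := exists_comm_eq_of_mem_A S h hgN hodd hgC hu
  have e : v⁻¹ * (g * v * g⁻¹) = (v⁻¹ * g * v⁻¹⁻¹) * g⁻¹ := by group
  rw [e]
  exact H.mul_mem (Subgroup.Normal.conj_mem inferInstance g hgH v⁻¹) (H.inv_mem hgH)

theorem sylow_le_of_AG_le (H : Subgroup G) (hA : ↟h.A ≤ H) {c d : ZMod (2 ^ n)}
    (hz : ((ZW x y z c d : (S : Subgroup G)) : G) ∈ H) : (S : Subgroup G) ≤ H := by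
  have h1 : H.subgroupOf (S : Subgroup G) = ⊤ := by
    apply h.eq_top_of_A_le _ _ (Subgroup.mem_subgroupOf.mpr hz)
    intro s hs
    exact Subgroup.mem_subgroupOf.mpr (hA (coe_mem_up.mpr hs))
  intro s hs
  have : (⟨s, hs⟩ : (S : Subgroup G)) ∈ H.subgroupOf (S : Subgroup G) := by rw [h1]; trivial
  exact Subgroup.mem_subgroupOf.mp this

omit h in
theorem not_sylow_le_of_index_two' (H : Subgroup G) (hH : H.index = 2) :
    ¬ (S : Subgroup G) ≤ H := by
  intro hle
  have h1 : H.index ∣ (S : Subgroup G).index := Subgroup.index_dvd_of_le hle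
  rw [hH] at h1
  exact S.not_dvd_index h1

theorem main_six_six
    (h₁ : (Subgroup.centralizer (↟h.A : Set G)).relIndex (Subgroup.normalizer (↟h.A : Set G)) = 6)
    (a₀ : ZMod (2 ^ n))
    (h₂ : (↟(h.Vt (2 * a₀)) ⊔ Subgroup.centralizer (↟(h.Vt (2 * a₀)) : Set G)).relIndex
      (Subgroup.normalizer (↟(h.Vt (2 * a₀)) : Set G)) = 6) :
    (∀ H : Subgroup G, H.index ≠ 2) ∧
    Nat.card {C : ConjClasses G // ∃ t : G, orderOf t = 2 ∧ ConjClasses.mk t = C} = 1 := by
  obtain ⟨gA, hgAN, hgAodd, hgAC⟩ := exists_odd_not_mem_of_relIndex_six _ _ h₁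
  obtain ⟨gV, hgVN, hgVodd, hgVC'⟩ := exists_odd_not_mem_of_relIndex_six _ _ h₂
  have hgVC : gV ∉ Subgroup.centralizer (↟(h.Vt (2 * a₀)) : Set G) :=
    fun hc => hgVC' (Subgroup.mem_sup_right hc)
  constructor
  · intro H hH
    have hn : H.Normal := Subgroup.normal_of_index_eq_two hH
    have hA := AG_le_of_normal S h H hgAN hgAodd hgAC
      (Cfsg.Agent.Lib.Helper9.IndexTwo.mem_of_odd H hH hgAodd)
    obtain ⟨e, he⟩ := conj_a S h a₀ hgVN hgVodd hgVC
    have hz : ((ZW x y z e (-e) : (S : Subgroup G)) : G) ∈ H := by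
      rw [← he]
      exact hn.conj_mem _ (hA (aG_mem_AG S h)) gV
    exact not_sylow_le_of_index_two' S H hH (sylow_le_of_AG_le S h H hA hz)
  · apply card_classes_eq_one 2 _ (orderOf_zetaG S h)
    intro t ht
    have h1 := isConj_zeta_a S h hgAN hgAodd hgAC
    have h2 := isConj_a_b S h a₀ hgVN hgVodd hgVC
    rcases involution_isConj_G S h t ht with h3 | h3 | h3
    · exact h3
    · exact h1.trans h3
    · exact (h1.trans h2).trans h3

end Cfsg.Agent.Lib.Helper9.Wr
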