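import Mathlib
import Cfsg.Agent.Lib.Helper9.Wr.Case66
import Cfsg.Agent.Lib.Helper9.Wr.Focal

/-!
# Wreathed Sylow 2-subgroups: the case `(2, 6)`
-/

set_option autoImplicit false
set_option linter.unusedSectionVars false

namespace Cfsg.Agent.Lib.Helper9.Wr

open Cfsg.Agent.Lib.Helper9.QD (Mz Kz two_mul_Mz two_mul_Kz Mz_ne_zero isConj_coe
  card_classes_eq_one card_classes_eq_two exists_odd_not_mem_of_relIndex_six)
open Cfsg.Agent.Lib.Helper9.WrLocal
open scoped commutatorElement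

variable {G : Type*} [Group G] [Finite G] (S : Sylow 2 G) {n : ℕ} {x y z : (S : Subgroup G)}
  (h : WrData (S : Subgroup G) n x y z)
include h

local notation:max "↟" X:max => up (S : Subgroup G) X

/-- if `|N_G(A) : C_G(A)| = 2`, fusion moves elements of `S` only inside their coset of `Y` -/
theorem fusion_mem_Y
    (h₁ : (Subgroup.centralizer (↟h.A : Set G)).relIndex (Subgroup.normalizer (↟h.A : Set G)) = 2)
    (x' : G) (hx' : x' ∈ (S : Subgroup G)) (g : G) (hg : g * x' * g⁻¹ ∈ (S : Subgroup G)) :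
    x'⁻¹ * (g * x' * g⁻¹) ∈ ↟h.Yq := by
  have hYn : h.Yq.Normal := h.normal_Yq
  apply wr_fusion S h (fun w => x'⁻¹ * w ∈ ↟h.Yq) ?_ ?_ ?_ x' hx' g hg
    (by rw [inv_mul_cancel]; exact Subgroup.one_mem _)
  · intro s hs a ha hΦ
    have e : x'⁻¹ * (s * a * s⁻¹) = (x'⁻¹ * a) * (a⁻¹ * s * a * s⁻¹) := by group
    rw [e]
    apply Subgroup.mul_mem _ hΦ
    have h1 : (⟨a, ha⟩ : (S : Subgroup G))⁻¹ * ⟨s, hs⟩ * ⟨a, ha⟩ * (⟨s, hs⟩ : (S : Subgroup G))⁻¹ ∈ h.Yq := by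
      apply h.commutator_le_Yq
      have : (⟨a, ha⟩ : (S : Subgroup G))⁻¹ * ⟨s, hs⟩ * ⟨a, ha⟩ * (⟨s, hs⟩ : (S : Subgroup G))⁻¹ =
          ⁅(⟨a, ha⟩ : (S : Subgroup G))⁻¹, ⟨s, hs⟩⁆ := by
        rw [commutatorElement_def, inv_inv]
      rw [this, commutator_def]
      exact Subgroup.commutator_mem_commutator (Subgroup.mem_top _) (Subgroup.mem_top _)
    exact coe_mem_up.mpr h1
  · intro g hgN hodd u hu hΦ
    rw [conj_eq_of_mem_centralizer S h (odd_centralizes_A_of_relIndex_two S h h₁ hgN hodd) hu]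
    exact hΦ
  · intro a g hgN hodd u hu hΦ
    have e : x'⁻¹ * (g * u * g⁻¹) = (x'⁻¹ * u) * (u⁻¹ * (g * u * g⁻¹)) := by group
    rw [e]
    exact Subgroup.mul_mem _ hΦ (up_mono (h.Qa_le_Yq a) (comm_mem_QG S h a hgN hodd hu))

/-- central elements of `S` are not fused to other elements of `S` -/
theorem fusion_center
    (h₁ : (Subgroup.centralizer (↟h.A : Set G)).relIndex (Subgroup.normalizer (↟h.A : Set G)) = 2)
    (c : G) (hc : c ∈ ↟(Subgroup.center (S : Subgroup G))) (g : G)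
    (hg : g * c * g⁻¹ ∈ (S : Subgroup G)) : g * c * g⁻¹ = c := by
  apply wr_fusion S h (fun w => w = c) ?_ ?_ ?_ c (up_le _ _ hc) g hg rfl
  · rintro s hs a _ rfl
    have := (Subgroup.mem_centralizer_iff.mp (ZG_le_centralizer_up S h ⊤ hc)) s
      (coe_mem_up (s := ⟨s, hs⟩) |>.mpr (Subgroup.mem_top _))
    rw [this, mul_inv_cancel_right]
  · rintro g hgN hodd u hu rfl
    exact conj_eq_of_mem_centralizer S h (odd_centralizes_A_of_relIndex_two S h h₁ hgN hodd) hu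
  · rintro a g hgN hodd u _ rfl
    exact conj_eq_of_mem_centralizer S h (odd_centralizes_ZG S h hgN hodd) hc

theorem exists_odd_V (a₀ : ZMod (2 ^ n))
    (h₂ : (↟(h.Vt (2 * a₀)) ⊔ Subgroup.centralizer (↟(h.Vt (2 * a₀)) : Set G)).relIndex
      (Subgroup.normalizer (↟(h.Vt (2 * a₀)) : Set G)) = 6) (a : ZMod (2 ^ n)) :
    ∃ g ∈ Subgroup.normalizer (↟(h.Vt (2 * a)) : Set G), Odd (orderOf g) ∧
      g ∉ Subgroup.centralizer (↟(h.Vt (2 * a)) : Set G) := by
  have h₂' := (relIndex_V_eq S h a₀ a).trans h₂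
  obtain ⟨g, hgN, hodd, hgC⟩ := exists_odd_not_mem_of_relIndex_six _ _ h₂'
  exact ⟨g, hgN, hodd, fun hc => hgC (Subgroup.mem_sup_right hc)⟩

theorem focal_two_six
    (h₁ : (Subgroup.centralizer (↟h.A : Set G)).relIndex (Subgroup.normalizer (↟h.A : Set G)) = 2)
    (a₀ : ZMod (2 ^ n))
    (h₂ : (↟(h.Vt (2 * a₀)) ⊔ Subgroup.centralizer (↟(h.Vt (2 * a₀)) : Set G)).relIndex
      (Subgroup.normalizer (↟(h.Vt (2 * a₀)) : Set G)) = 6) :
    (S : Subgroup G).focalSubgroup = ↟h.Yq := by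
  apply le_antisymm
  · exact focal_le_of_fusion S _ (fusion_mem_Y S h h₁)
  · obtain ⟨g, hgN, hodd, hgC⟩ := exists_odd_V S h a₀ h₂ a₀
    obtain ⟨c₁, hc₁, hu₁⟩ := conj_i0 S h a₀ hgN hodd hgC
    have hle := h.Yq_le_of_mem ((S : Subgroup G).focalSubgroup.subgroupOf (S : Subgroup G))
      (c₁ - Kz n) ?_ ?_
    · rintro _ ⟨s, hs, rfl⟩
      exact Subgroup.mem_subgroupOf.mp (hle hs)
    · rw [Subgroup.mem_subgroupOf]
      have e : W x y (1 : ZMod (2 ^ n)) (-1) =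
          (W x y (-1 : ZMod (2 ^ n)) 0)⁻¹ * (z * W x y (-1 : ZMod (2 ^ n)) 0 * z⁻¹) := by
        rw [h.z_conj_W, ← h.W_neg, ← h.W_add, h.W_inj]
        constructor <;> ring
      rw [e]
      exact mem_focal S (SetLike.coe_mem _) (SetLike.coe_mem (z * W x y (-1 : ZMod (2 ^ n)) 0 * z⁻¹))
    · rw [Subgroup.mem_subgroupOf]
      have e : ZW x y z (c₁ - Kz n) (Mz n - (c₁ - Kz n)) =
          (W x y (Kz n) (-Kz n))⁻¹ * ZW x y z c₁ (Mz n - c₁) := by
        rw [← h.W_neg, h.W_mul_ZW, h.ZW_inj]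
        constructor <;> ring
      rw [e]
      simp only [Subgroup.coe_mul, Subgroup.coe_inv]
      rw [← hu₁]
      apply mem_focal S (SetLike.coe_mem _)
      rw [hu₁]
      exact SetLike.coe_mem _

theorem index_Yq : h.Yq.index = 2 ^ n := by
  have h1 := h.Yq.index_mul_card
  rw [h.card_Yq, h.card] at h1
  have h2 : (2 : ℕ) ^ (2 * n + 1) = 2 ^ n * 2 ^ (n + 1) := by
    rw [← pow_add]; congr 1; omega
  rw [h2] at h1
  exact Nat.eq_of_mul_eq_mul_right (by positivity) h1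

theorem main_two_six
    (h₁ : (Subgroup.centralizer (↟h.A : Set G)).relIndex (Subgroup.normalizer (↟h.A : Set G)) = 2)
    (a₀ : ZMod (2 ^ n))
    (h₂ : (↟(h.Vt (2 * a₀)) ⊔ Subgroup.centralizer (↟(h.Vt (2 * a₀)) : Set G)).relIndex
      (Subgroup.normalizer (↟(h.Vt (2 * a₀)) : Set G)) = 6) :
    (∃ K : Subgroup G, K.Normal ∧ K.index = 2 ^ n ∧
      (∀ P : Sylow 2 ↥K, ∃ m : ℕ, 1 ≤ m ∧ Nonempty ((P : Subgroup ↥K) ≃* QuaternionGroup (2 ^ m))) ∧
      (∀ H : Subgroup ↥K, H.index ≠ 2)) ∧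
    (∀ Z₀ : Subgroup G, Z₀ ≤ ↟(Subgroup.center (S : Subgroup G)) →
      Cfsg.IsWeaklyClosed Z₀ (S : Subgroup G)) ∧
    Nat.card {C : ConjClasses G // ∃ t : G, orderOf t = 2 ∧ ConjClasses.mk t = C} = 2 := by
  obtain ⟨hidx, hinf, hsyl⟩ := focal_kernel S h.Yq (focal_two_six S h h₁ a₀ h₂)
  refine ⟨?_, ?_, ?_⟩
  · refine ⟨(S : Subgroup G).transferFocal.ker, MonoidHom.normal_ker _,
      by rw [hidx, index_Yq S h], ?_, ?_⟩
    · intro P
      obtain ⟨e⟩ := hsyl P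
      obtain ⟨e'⟩ := h.Yq_quaternion
      have hn := h.hn
      exact ⟨n - 1, by omega, ⟨e.trans e'⟩⟩
    · apply Cfsg.Agent.Lib.Helper9.IndexTwo.no_index_two_of S
      intro H hHK hH
      rw [inf_comm, hinf]
      have hYK : ↟h.Yq ≤ (S : Subgroup G).transferFocal.ker := by rw [← hinf]; exact inf_le_left
      have hQ : ∀ a : ZMod (2 ^ n), ↟(h.Qa a) ≤ H := by
        intro a
        obtain ⟨g, hgN, hodd, hgC⟩ := exists_odd_V S h a₀ h₂ a
        have hgK : g ∈ (S : Subgroup G).transferFocal.ker := mem_ker_transferFocal_of_odd S hodd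
        have hgH : g ∈ H := Cfsg.Agent.Lib.Helper9.mem_of_odd_of_relIndex_two _ _ hH hgK hodd
        apply QG_le_of_comm_mem S h a hgN hodd hgC H
        intro q hq
        have e : q⁻¹ * (g * q * g⁻¹) = (q⁻¹ * g * q⁻¹⁻¹) * g⁻¹ := by group
        rw [e]
        exact H.mul_mem (Cfsg.Agent.Lib.Helper9.IndexTwo.conj_mem_of_relIndex_two hH hgH
          (Subgroup.inv_mem _ (hYK (up_mono (h.Qa_le_Yq a) hq))) hHK) (H.inv_mem hgH)
      have hle := h.Yq_le_of_Qa_le (H.subgroupOf (S : Subgroup G)) (by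
        intro a s hs
        exact Subgroup.mem_subgroupOf.mpr (hQ a (coe_mem_up.mpr hs)))
      rintro _ ⟨s, hs, rfl⟩
      exact Subgroup.mem_subgroupOf.mp (hle hs)
  · intro Z₀ hZ₀
    refine ⟨hZ₀.trans (up_le _ _), ?_⟩
    intro g hg
    have hfix : ∀ c ∈ Z₀, g * c * g⁻¹ = c := by
      intro c hc
      apply fusion_center S h h₁ c (hZ₀ hc) g
      apply hg
      exact ⟨c, hc, by simp [MulAut.conj_apply]⟩
    ext u
    constructor
    · rintro ⟨c, hc, rfl⟩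
      simp only [MulEquiv.coe_toMonoidHom, MulAut.conj_apply]
      rw [hfix c hc]; exact hc
    · intro hu
      exact ⟨u, hu, by simp only [MulEquiv.coe_toMonoidHom, MulAut.conj_apply]; exact hfix u hu⟩
  · obtain ⟨g, hgN, hodd, hgC⟩ := exists_odd_V S h a₀ h₂ a₀
    apply card_classes_eq_two 2 _ _ (orderOf_zetaG S h) (orderOf_aG S h)
    · intro hc
      obtain ⟨g', hg'⟩ := isConj_iff.mp hc
      have h3 := fusion_center S h h₁ _ (zeta_mem_ZG S h) g' (by rw [hg']; exact SetLike.coe_mem _)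
      rw [hg'] at h3
      have h4 : W x y (Mz n) 0 = W x y (Mz n) (Mz n) := Subtype.ext h3
      rw [h.W_inj] at h4
      exact Mz_ne_zero h.n1 h4.2.symm
    · intro t ht
      have h2 := isConj_a_b S h a₀ hgN hodd hgC
      rcases involution_isConj_G S h t ht with h3 | h3 | h3
      · exact Or.inl h3
      · exact Or.inr h3
      · exact Or.inr (h2.trans h3)

end Cfsg.Agent.Lib.Helper9.Wr
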