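import Mathlib
import Cfsg.Agent.Lib.Helper9.Wr.Case66
import Cfsg.Agent.Lib.Helper9.Wr.Focal

/-!
# Wreathed Sylow 2-subgroups: the case `(6, 2)`
-/

set_option autoImplicit false
set_option linter.unusedSectionVars false

namespace Cfsg.Agent.Lib.Helper9.Wr

open Cfsg.Agent.Lib.Helper9.QD (Mz Kz two_mul_Mz two_mul_Kz Mz_ne_zero isConj_coe
  card_classes_eq_one card_classes_eq_two exists_odd_not_mem_of_relIndex_six)
open Cfsg.Agent.Lib.Helper9.WrLocal

variable {G : Type*} [Group G] [Finite G] (S : Sylow 2 G) {n : ℕ} {x y z : (S : Subgroup G)}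
  (h : WrData (S : Subgroup G) n x y z)
include h

local notation:max "↟" X:max => up (S : Subgroup G) X

/-- if `|N_G(V) : V C_G(V)| = 2`, membership in `A` is invariant under fusion -/
theorem fusion_mem_A (a₀ : ZMod (2 ^ n))
    (h₂ : (↟(h.Vt (2 * a₀)) ⊔ Subgroup.centralizer (↟(h.Vt (2 * a₀)) : Set G)).relIndex
      (Subgroup.normalizer (↟(h.Vt (2 * a₀)) : Set G)) = 2)
    (w : G) (hw : w ∈ (S : Subgroup G)) (g : G) (hg : g * w * g⁻¹ ∈ (S : Subgroup G)) :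
    w ∈ ↟h.A ↔ g * w * g⁻¹ ∈ ↟h.A := by
  apply wr_fusion S h (fun w' => w ∈ ↟h.A ↔ w' ∈ ↟h.A) ?_ ?_ ?_ w hw g hg Iff.rfl
  · intro s hs a _ hΦ
    rw [hΦ]
    exact Subgroup.mem_normalizer_iff.mp (sylow_le_normalizer_A S h hs) a
  · intro g hgN _ u hu hΦ
    exact ⟨fun _ => conj_mem_of_mem_normalizer hgN hu, fun _ => hΦ.mpr hu⟩
  · intro a g hgN hodd v hv hΦ
    have h₂' := (relIndex_V_eq S h a₀ a).trans h₂
    rw [conj_eq_of_mem_centralizer S h (odd_centralizes_V_of_relIndex_two S h _ h₂' hgN hodd) hv]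
    exact hΦ

theorem focal_six_two
    (h₁ : (Subgroup.centralizer (↟h.A : Set G)).relIndex (Subgroup.normalizer (↟h.A : Set G)) = 6)
    (a₀ : ZMod (2 ^ n))
    (h₂ : (↟(h.Vt (2 * a₀)) ⊔ Subgroup.centralizer (↟(h.Vt (2 * a₀)) : Set G)).relIndex
      (Subgroup.normalizer (↟(h.Vt (2 * a₀)) : Set G)) = 2) :
    (S : Subgroup G).focalSubgroup = ↟h.A := by
  obtain ⟨gA, hgAN, hgAodd, hgAC⟩ := exists_odd_not_mem_of_relIndex_six _ _ h₁
  apply le_antisymm
  · apply focal_le_of_fusion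
    intro x' hx' u hu
    have h3 := fusion_mem_A S h a₀ h₂ x' hx' u hu
    have h4 : (⟨x', hx'⟩ : (S : Subgroup G))⁻¹ * ⟨u * x' * u⁻¹, hu⟩ ∈ h.A := by
      rw [Subgroup.mul_mem_iff_of_index_two h.index_A, inv_mem_iff,
        ← coe_mem_up (S := (S : Subgroup G)), ← coe_mem_up (S := (S : Subgroup G))]
      exact h3
    exact coe_mem_up.mpr h4
  · intro u hu
    obtain ⟨v, hv, rfl⟩ := exists_comm_eq_of_mem_A S h hgAN hgAodd hgAC hu
    exact mem_focal S (up_le _ _ hv) (up_le _ _ (conj_mem_of_mem_normalizer hgAN hv))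

theorem main_six_two
    (h₁ : (Subgroup.centralizer (↟h.A : Set G)).relIndex (Subgroup.normalizer (↟h.A : Set G)) = 6)
    (a₀ : ZMod (2 ^ n))
    (h₂ : (↟(h.Vt (2 * a₀)) ⊔ Subgroup.centralizer (↟(h.Vt (2 * a₀)) : Set G)).relIndex
      (Subgroup.normalizer (↟(h.Vt (2 * a₀)) : Set G)) = 2) :
    (∃ K : Subgroup G, K.Normal ∧ K.index = 2 ∧ ↟h.A ≤ K ∧ (∀ H : Subgroup ↥K, H.index ≠ 2)) ∧
    Nat.card {C : ConjClasses G // ∃ t : G, orderOf t = 2 ∧ ConjClasses.mk t = C} = 2 := by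
  obtain ⟨gA, hgAN, hgAodd, hgAC⟩ := exists_odd_not_mem_of_relIndex_six _ _ h₁
  obtain ⟨hidx, hinf, -⟩ := focal_kernel S h.A (focal_six_two S h h₁ a₀ h₂)
  constructor
  · refine ⟨(S : Subgroup G).transferFocal.ker, MonoidHom.normal_ker _, by rw [hidx, h.index_A],
      by rw [← hinf]; exact inf_le_left, ?_⟩
    apply Cfsg.Agent.Lib.Helper9.IndexTwo.no_index_two_of S
    intro H hHK hH
    rw [inf_comm, hinf]
    have hgK : gA ∈ (S : Subgroup G).transferFocal.ker := mem_ker_transferFocal_of_odd S hgAodd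
    have hgH : gA ∈ H := Cfsg.Agent.Lib.Helper9.mem_of_odd_of_relIndex_two _ _ hH hgK hgAodd
    have hAK : ↟h.A ≤ (S : Subgroup G).transferFocal.ker := by rw [← hinf]; exact inf_le_left
    intro u hu
    obtain ⟨v, hv, rfl⟩ := exists_comm_eq_of_mem_A S h hgAN hgAodd hgAC hu
    have e : v⁻¹ * (gA * v * gA⁻¹) = (v⁻¹ * gA * v⁻¹⁻¹) * gA⁻¹ := by group
    rw [e]
    exact H.mul_mem (Cfsg.Agent.Lib.Helper9.IndexTwo.conj_mem_of_relIndex_two hH hgH
      (Subgroup.inv_mem _ (hAK hv)) hHK) (H.inv_mem hgH)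
  · apply card_classes_eq_two 2 _ _ (orderOf_zetaG S h) (orderOf_bG S h)
    · intro hc
      obtain ⟨g, hg⟩ := isConj_iff.mp hc
      have h3 := fusion_mem_A S h a₀ h₂ _ (SetLike.coe_mem _) g (by rw [hg]; exact SetLike.coe_mem _)
      rw [hg] at h3
      have h4 := h3.mp (coe_mem_up.mpr (h.W_mem_A _ _))
      exact h.ZW_not_mem_A _ _ (coe_mem_up.mp h4)
    · intro t ht
      have h1 := isConj_zeta_a S h hgAN hgAodd hgAC
      rcases involution_isConj_G S h t ht with h3 | h3 | h3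
      · exact Or.inl h3
      · exact Or.inl (h1.trans h3)
      · exact Or.inr h3

end Cfsg.Agent.Lib.Helper9.Wr
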