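import Mathlib
import Cfsg.Agent.Lib.Helper9.CentInv
import Cfsg.Agent.Lib.Helper9.Wr.Case22
import Cfsg.Agent.Lib.Helper9.Wr.Case26
import Cfsg.Agent.Lib.Helper9.Wr.Case62

/-!
# Wreathed Sylow 2-subgroups: centralizers of involutions in groups without subgroups of index two
-/

set_option autoImplicit false
set_option linter.unusedSectionVars false

namespace Cfsg.Agent.Lib.Helper9.Wr

open Cfsg.Agent.Lib.Helper9.QD (Mz Kz two_mul_Mz two_mul_Kz Mz_ne_zero isConj_coe
  card_classes_eq_one card_classes_eq_two exists_odd_not_mem_of_relIndex_six)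
open Cfsg.Agent.Lib.Helper9.WrLocal
open Cfsg.Agent.Lib.Helper9.CentInv

variable {G : Type*} [Group G] [Finite G] (S : Sylow 2 G) {n : ℕ} {x y z : (S : Subgroup G)}
  (h : WrData (S : Subgroup G) n x y z)
include h

local notation:max "↟" X:max => up (S : Subgroup G) X

theorem six_six_of_no_index_two (hG : ∀ H : Subgroup G, H.index ≠ 2) (a₀ : ZMod (2 ^ n)) :
    (Subgroup.centralizer (↟h.A : Set G)).relIndex (Subgroup.normalizer (↟h.A : Set G)) = 6 ∧
    (↟(h.Vt (2 * a₀)) ⊔ Subgroup.centralizer (↟(h.Vt (2 * a₀)) : Set G)).relIndex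
      (Subgroup.normalizer (↟(h.Vt (2 * a₀)) : Set G)) = 6 := by
  have : Fact (Nat.Prime 2) := ⟨Nat.prime_two⟩
  rcases A_index_cases S h with h₁ | h₁ <;> rcases V_index_cases S h a₀ with h₂ | h₂
  · exfalso
    obtain ⟨⟨P, N, hN, hc⟩, -⟩ := main_two_two S h h₁ a₀ h₂
    have h1 : N.index = Nat.card P := hc.symm.index_eq_card
    have h2 : Nat.card P = 2 ^ (2 * n + 1) := by
      rw [P.card_eq_multiplicity, ← S.card_eq_multiplicity]; exact h.card
    obtain ⟨H, hH⟩ := exists_index_two_of_normal N (2 * n) (by rw [h1, h2])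
    exact hG H hH
  · exfalso
    obtain ⟨⟨K, hKn, hK, -, -⟩, -, -⟩ := main_two_six S h h₁ a₀ h₂
    have hn := h.hn
    obtain ⟨H, hH⟩ := exists_index_two_of_normal K (n - 1) (by
      rw [hK]; congr 1; omega)
    exact hG H hH
  · exfalso
    obtain ⟨⟨K, -, hK, -, -⟩, -⟩ := main_six_two S h h₁ a₀ h₂
    exact hG K hK
  · exact ⟨h₁, h₂⟩

theorem isConj_zeta_of_no_index_two (hG : ∀ H : Subgroup G, H.index ≠ 2) (t : G)
    (ht : orderOf t = 2) : IsConj ((W x y (Mz n) (Mz n) : (S : Subgroup G)) : G) t := by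
  obtain ⟨h₁, h₂⟩ := six_six_of_no_index_two S h hG 0
  obtain ⟨gA, hgAN, hgAodd, hgAC⟩ := exists_odd_not_mem_of_relIndex_six _ _ h₁
  obtain ⟨gV, hgVN, hgVodd, hgVC'⟩ := exists_odd_not_mem_of_relIndex_six _ _ h₂
  have hgVC : gV ∉ Subgroup.centralizer (↟(h.Vt (2 * 0)) : Set G) :=
    fun hc => hgVC' (Subgroup.mem_sup_right hc)
  have h1 := isConj_zeta_a S h hgAN hgAodd hgAC
  have h2 := isConj_a_b S h 0 hgVN hgVodd hgVC
  rcases involution_isConj_G S h t ht with h3 | h3 | h3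
  · exact h3
  · exact h1.trans h3
  · exact (h1.trans h2).trans h3

theorem sylow_le_centralizer_zeta :
    (S : Subgroup G) ≤ Subgroup.centralizer
      ({((W x y (Mz n) (Mz n) : (S : Subgroup G)) : G)} : Set G) := by
  intro s hs
  rw [Subgroup.mem_centralizer_iff]
  intro t ht
  rw [Set.mem_singleton_iff] at ht
  subst ht
  have := (Subgroup.mem_centralizer_iff.mp (ZG_le_centralizer_up S h ⊤ (zeta_mem_ZG S h))) s
    (coe_mem_up (s := ⟨s, hs⟩) |>.mpr (Subgroup.mem_top _))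
  exact this.symm

/-- the centralizer of the central involution, in a group with no subgroup of index two -/
theorem cent_core (hS : Cfsg.IsWreathed (S : Subgroup G)) (hG : ∀ H : Subgroup G, H.index ≠ 2) :
    ∃ R : Sylow 2 ↥(Subgroup.centralizer
        ({((W x y (Mz n) (Mz n) : (S : Subgroup G)) : G)} : Set G)),
      Nat.card R = Nat.card S ∧
      (∃ K : Subgroup ↥(Subgroup.centralizer
          ({((W x y (Mz n) (Mz n) : (S : Subgroup G)) : G)} : Set G)),
        K.Normal ∧ (∃ a : ℕ, K.index = 2 ^ a) ∧ (∀ H : Subgroup ↥K, H.index ≠ 2) ∧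
        (∀ P : Sylow 2 ↥K, ∃ m : ℕ, 1 ≤ m ∧ Nonempty ((P : Subgroup ↥K) ≃* QuaternionGroup (2 ^ m)))) ∧
      (∀ Z₀ : Subgroup ↥(Subgroup.centralizer
          ({((W x y (Mz n) (Mz n) : (S : Subgroup G)) : G)} : Set G)),
        Z₀ ≤ ((Subgroup.center (R : Subgroup ↥(Subgroup.centralizer
          ({((W x y (Mz n) (Mz n) : (S : Subgroup G)) : G)} : Set G)))).map
          (R : Subgroup ↥(Subgroup.centralizer
          ({((W x y (Mz n) (Mz n) : (S : Subgroup G)) : G)} : Set G))).subtype) →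
        Cfsg.IsWeaklyClosed Z₀ (R : Subgroup ↥(Subgroup.centralizer
          ({((W x y (Mz n) (Mz n) : (S : Subgroup G)) : G)} : Set G)))) := by
  have : Fact (Nat.Prime 2) := ⟨Nat.prime_two⟩
  set ζ : G := ((W x y (Mz n) (Mz n) : (S : Subgroup G)) : G) with hζ
  set C : Subgroup G := Subgroup.centralizer ({ζ} : Set G) with hC
  have hSC : (S : Subgroup G) ≤ C := sylow_le_centralizer_zeta S h
  obtain ⟨h₁G, h₂G⟩ := six_six_of_no_index_two S h hG 0
  -- the Sylow subgroup of `C`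
  let R : Sylow 2 ↥C := S.subtype hSC
  have hRcoe : (R : Subgroup ↥C) = (S : Subgroup G).subgroupOf C := Sylow.coe_subtype S hSC
  have eR : ↥(R : Subgroup ↥C) ≃* ↥(S : Subgroup G) :=
    (MulEquiv.subgroupCongr hRcoe).trans (Subgroup.subgroupOfEquivOfLe hSC)
  have hcardR : Nat.card R = Nat.card S := Nat.card_congr eR.toEquiv
  have hR : Cfsg.IsWreathed (R : Subgroup ↥C) := isWreathed_of_mulEquiv eR.symm hS
  have hnR : Nat.card R = 2 ^ (2 * n + 1) := by rw [hcardR]; exact h.card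
  -- the subgroups `A` and `Q` in `C`
  have hAC : ↟h.A ≤ C := (up_le _ _).trans hSC
  have hQC : ↟(h.Qa 0) ≤ C := (up_le _ _).trans hSC
  have hZC : ↟(Subgroup.center (S : Subgroup G)) ≤ C := (up_le _ _).trans hSC
  have hUR : (↟h.A).subgroupOf C ≤ (R : Subgroup ↥C) := by
    rw [hRcoe]
    intro c hc
    exact Subgroup.mem_subgroupOf.mpr (up_le _ _ (Subgroup.mem_subgroupOf.mp hc))
  have hQR : (↟(h.Qa 0)).subgroupOf C ≤ (R : Subgroup ↥C) := by
    rw [hRcoe]
    intro c hc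
    exact Subgroup.mem_subgroupOf.mpr (up_le _ _ (Subgroup.mem_subgroupOf.mp hc))
  have hUab : IsMulCommutative ((↟h.A).subgroupOf C) := by
    rw [isMulCommutative_iff]
    intro a b
    apply Subtype.ext
    apply Subtype.ext
    exact comm_AG S h _ (Subgroup.mem_subgroupOf.mp a.2) _ (Subgroup.mem_subgroupOf.mp b.2)
  have hUcard : Nat.card ((↟h.A).subgroupOf C) = 2 ^ (2 * n) := by
    rw [Nat.card_congr (Subgroup.subgroupOfEquivOfLe hAC).toEquiv, card_AG S h]
  obtain ⟨e0⟩ := h.Qa_quaternion 0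
  have eQ : (↟(h.Qa 0)).subgroupOf C ≃* QuaternionGroup 2 :=
    ((Subgroup.subgroupOfEquivOfLe hQC).trans
      (Subgroup.equivMapOfInjective _ _ (S : Subgroup G).subtype_injective).symm).trans e0
  obtain ⟨x', y', z', h', a', hU', hQ', hV'⟩ :=
    exists_setup R hR n hnR _ hUR hUab hUcard _ hQR eQ
  -- `V` in `C`
  have hVeq : up (R : Subgroup ↥C) (h'.Vt (2 * a')) = (↟(h.Vt (2 * 0))).subgroupOf C := by
    rw [← hV']
    have hcen : (Subgroup.center (R : Subgroup ↥C)).map (R : Subgroup ↥C).subtype =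
        (↟(Subgroup.center (S : Subgroup G))).subgroupOf C := center_map_eq C _ hSC
    rw [hcen, VG_eq_sup S h 0, Subgroup.subgroupOf_sup hQC hZC]
  have hVC : ↟(h.Vt (2 * 0)) ≤ C := (up_le _ _).trans hSC
  rcases A_index_cases R h' with h₁' | h₁'
  swap
  · -- `|N_C(A) : C_C(A)| = 6` is impossible since `ζ` is central in `C`
    exfalso
    obtain ⟨g, hgN, hodd, hgC⟩ := exists_odd_not_mem_of_relIndex_six _ _ h₁'
    rw [← hU'] at hgN hgC
    have hgN' := coe_mem_normalizer_of_subgroupOf C _ hAC hgN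
    have hgC' : (g : G) ∉ Subgroup.centralizer (↟h.A : Set G) :=
      fun hc => hgC (mem_centralizer_subgroupOf_of_coe C _ hc)
    have hodd' : Odd (orderOf (g : G)) := by rwa [Subgroup.orderOf_coe]
    apply conj_ne_of_mem_T S h hgN' hodd' hgC' (zeta_mem_TG S h) (zeta_ne_one S h)
    have h3 := (Subgroup.mem_centralizer_iff.mp g.2) ζ (Set.mem_singleton _)
    rw [← hζ, ← h3, mul_inv_cancel_right]
  rcases V_index_cases R h' a' with h₂' | h₂'
  · -- `|N_C(V) : V C_C(V)| = 2` is impossible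
    exfalso
    obtain ⟨g, hgN, hodd, hgnot⟩ := exists_odd_not_mem_of_relIndex_six _ _ h₂G
    have hgZ := odd_centralizes_ZG S h hgN hodd
    have hgC : g ∈ C := by
      rw [hC, Subgroup.mem_centralizer_iff]
      intro t ht
      rw [Set.mem_singleton_iff] at ht
      subst ht
      exact (Subgroup.mem_centralizer_iff.mp hgZ) _ (zeta_mem_ZG S h)
    have hgN' : (⟨g, hgC⟩ : ↥C) ∈ Subgroup.normalizer
        ((up (R : Subgroup ↥C) (h'.Vt (2 * a')) : Subgroup ↥C) : Set ↥C) := by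
      rw [hVeq]
      exact mem_normalizer_subgroupOf_of_coe C _ hgN
    have hodd' : Odd (orderOf (⟨g, hgC⟩ : ↥C)) := by
      rw [← Subgroup.orderOf_coe]; exact hodd
    have h3 := Cfsg.Agent.Lib.Helper9.mem_of_odd_of_relIndex_two _ _ h₂' hgN' hodd'
    rw [hVeq] at h3
    exact hgnot (coe_mem_sup_centralizer C _ hVC h3)
  · obtain ⟨⟨K, hKn, hK, hKsyl, hK2⟩, hwc, -⟩ := main_two_six R h' h₁' a' h₂'
    exact ⟨R, hcardR, ⟨K, hKn, ⟨n, hK⟩, hK2, hKsyl⟩, hwc⟩

omit h in
/-- **Centralizers of involutions**, wreathed case -/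
theorem wr_main (hS : Cfsg.IsWreathed (S : Subgroup G)) (hG : ∀ H : Subgroup G, H.index ≠ 2)
    (t : G) (ht : orderOf t = 2) :
    ∃ R : Sylow 2 ↥(Subgroup.centralizer ({t} : Set G)),
      Nat.card R = Nat.card S ∧
      (∃ K : Subgroup ↥(Subgroup.centralizer ({t} : Set G)),
        K.Normal ∧ (∃ a : ℕ, K.index = 2 ^ a) ∧ (∀ H : Subgroup ↥K, H.index ≠ 2) ∧
        (∀ P : Sylow 2 ↥K, ∃ m : ℕ, 1 ≤ m ∧ Nonempty ((P : Subgroup ↥K) ≃* QuaternionGroup (2 ^ m)))) ∧
      (∀ Z₀ : Subgroup ↥(Subgroup.centralizer ({t} : Set G)),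
        Z₀ ≤ ((Subgroup.center (R : Subgroup ↥(Subgroup.centralizer ({t} : Set G)))).map
          (R : Subgroup ↥(Subgroup.centralizer ({t} : Set G))).subtype) →
        Cfsg.IsWeaklyClosed Z₀ (R : Subgroup ↥(Subgroup.centralizer ({t} : Set G)))) := by
  obtain ⟨n, x, y, z, h⟩ := exists_wrData hS
  obtain ⟨g, hg⟩ := isConj_iff.mp (isConj_zeta_of_no_index_two S h hG t ht)
  have hS' : Cfsg.IsWreathed ((g • S : Sylow 2 G) : Subgroup G) :=
    isWreathed_of_mulEquiv (sylowSmulEquiv S g) hS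
  obtain ⟨n', x', y', z', h'⟩ := exists_wrData hS'
  have hcard : Nat.card (g • S : Sylow 2 G) = Nat.card S :=
    (Nat.card_congr (sylowSmulEquiv S g).toEquiv).symm
  have htZ := conj_mem_center_smul S (zeta_mem_ZG S h) g
  rw [hg] at htZ
  obtain ⟨s, hs, hst⟩ := htZ
  have hs2 : s * s = 1 := by
    apply Subtype.ext
    have h1 : t * t = 1 := by rw [← pow_two, ← ht]; exact pow_orderOf_eq_one t
    simpa [← hst] using h1
  have hs1 : s ≠ 1 := by
    rintro rfl
    have : t = 1 := by rw [← hst]; rfl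
    rw [this, orderOf_one] at ht
    omega
  have hsζ := h'.eq_zeta_of_mem_center hs hs2 hs1
  have htζ : t = ((W x' y' (Mz n') (Mz n') : ((g • S : Sylow 2 G) : Subgroup G)) : G) := by
    rw [← hsζ, ← hst]; rfl
  subst htζ
  obtain ⟨R, hR, hK, hZ⟩ := cent_core (g • S : Sylow 2 G) h' hS' hG
  exact ⟨R, hR.trans hcard, hK, hZ⟩

end Cfsg.Agent.Lib.Helper9.Wr
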