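import Mathlib
import Cfsg.Agent.Lib.Helper9.Wr.Center

set_option autoImplicit false

/-!
# The subgroup generated by the involutions of a wreathed 2-group
-/

namespace Cfsg.Agent.Lib.Helper9.Wr

open Cfsg.Agent.Lib.Helper9.QD (Mz Kz two_mul_Mz Mz_ne_zero eq_zero_or_eq_Mz_of_two_mul)

variable {S : Type*} [Group S] {n : ℕ} {x y z : S}

namespace WrData

/-- `Ω₁(S)`: elements whose coordinate sum is `0` or `M` -/
def Om (h : WrData S n x y z) : Subgroup S where
  carrier := {g | (∃ a b : ZMod (2 ^ n), 2 * (a + b) = 0 ∧ g = W x y a b) ∨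
    (∃ a b : ZMod (2 ^ n), 2 * (a + b) = 0 ∧ g = ZW x y z a b)}
  one_mem' := Or.inl ⟨0, 0, by ring, W_zero.symm⟩
  mul_mem' := by
    rintro _ _ (⟨a, b, hab, rfl⟩ | ⟨a, b, hab, rfl⟩) (⟨c, d, hcd, rfl⟩ | ⟨c, d, hcd, rfl⟩)
    · left; exact ⟨a + c, b + d, by linear_combination hab + hcd, (h.W_add _ _ _ _).symm⟩
    · right; exact ⟨a + c, b + d, by linear_combination hab + hcd, h.W_mul_ZW _ _ _ _⟩
    · right; exact ⟨a + d, b + c, by linear_combination hab + hcd, h.ZW_mul_W _ _ _ _⟩
    · left; exact ⟨a + d, b + c, by linear_combination hab + hcd, h.ZW_mul_ZW _ _ _ _⟩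
  inv_mem' := by
    rintro _ (⟨a, b, hab, rfl⟩ | ⟨a, b, hab, rfl⟩)
    · left; exact ⟨-a, -b, by linear_combination -hab, (h.W_neg _ _).symm⟩
    · right; exact ⟨-b, -a, by linear_combination -hab, h.ZW_inv _ _⟩

variable (h : WrData S n x y z)
include h

theorem closure_involutions_eq [Finite S] :
    Subgroup.closure {t : S | orderOf t = 2} = h.Om := by
  have hM := two_mul_Mz (n := n) h.n1
  apply le_antisymm
  · rw [Subgroup.closure_le]
    intro t ht
    have ht' : orderOf t = 2 := ht
    rcases h.cases t with ⟨a, b, rfl⟩ | ⟨a, b, rfl⟩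
    · left
      rw [h.orderOf_W_eq_two] at ht'
      rcases ht' with ⟨rfl, rfl⟩ | ⟨rfl, rfl⟩ | ⟨rfl, rfl⟩
      · exact ⟨_, _, by linear_combination hM, rfl⟩
      · exact ⟨_, _, by linear_combination hM, rfl⟩
      · exact ⟨_, _, by linear_combination 2 * hM, rfl⟩
    · right
      rw [h.orderOf_ZW_eq_two] at ht'
      exact ⟨a, b, by linear_combination 2 * ht', rfl⟩
  · have hZ : ∀ a : ZMod (2 ^ n), ZW x y z a (-a) ∈ Subgroup.closure {t : S | orderOf t = 2} := by
      intro a
      apply Subgroup.subset_closure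
      exact h.orderOf_ZW_eq_two.mpr (by ring)
    have hW0 : W x y (0 : ZMod (2 ^ n)) (Mz n) ∈ Subgroup.closure {t : S | orderOf t = 2} := by
      apply Subgroup.subset_closure
      exact h.orderOf_W_eq_two.mpr (Or.inr (Or.inl ⟨rfl, rfl⟩))
    have hW : ∀ a : ZMod (2 ^ n), W x y a (-a) ∈ Subgroup.closure {t : S | orderOf t = 2} := by
      intro a
      have : W x y a (-a) = ZW x y z a (-a) * ZW x y z (0 : ZMod (2 ^ n)) 0 := by
        rw [h.ZW_mul_ZW, h.W_inj]; constructor <;> ring
      rw [this]
      exact Subgroup.mul_mem _ (hZ a) (by simpa using hZ 0)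
    rintro g (⟨a, b, hab, rfl⟩ | ⟨a, b, hab, rfl⟩)
    · rcases eq_zero_or_eq_Mz_of_two_mul h.n1 hab with h0 | h0
      · have : b = -a := by linear_combination h0
        subst this
        exact hW a
      · have : W x y a b = W x y a (-a) * W x y 0 (Mz n) := by
          rw [← h.W_add, h.W_inj]
          constructor
          · ring
          · linear_combination h0
        rw [this]
        exact Subgroup.mul_mem _ (hW a) hW0
    · rcases eq_zero_or_eq_Mz_of_two_mul h.n1 hab with h0 | h0
      · have : b = -a := by linear_combination h0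
        subst this
        exact hZ a
      · have : ZW x y z a b = W x y 0 (Mz n) * ZW x y z a (-a) := by
          rw [h.W_mul_ZW, h.ZW_inj]
          constructor
          · ring
          · linear_combination h0
        rw [this]
        exact Subgroup.mul_mem _ hW0 (hZ a)

theorem card_Om : Nat.card h.Om = 2 ^ (n + 2) := by
  have hM0 := Mz_ne_zero (n := n) h.n1
  have hM := two_mul_Mz (n := n) h.n1
  let m : Bool → ZMod (2 ^ n) := fun i => if i then Mz n else 0
  have hm2 : ∀ i, 2 * m i = 0 := by
    intro i; cases i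
    · simp [m]
    · simpa [m] using hM
  have hminj : ∀ i j, m i = m j → i = j := by
    intro i j hij
    cases i <;> cases j
    · rfl
    · exfalso; apply hM0; simpa [m] using hij.symm
    · exfalso; apply hM0; simpa [m] using hij
    · rfl
  let f : ZMod (2 ^ n) × Bool × Bool → h.Om := fun p =>
    if p.2.2 then ⟨ZW x y z p.1 (m p.2.1 - p.1), Or.inr ⟨_, _, by linear_combination hm2 p.2.1, rfl⟩⟩
    else ⟨W x y p.1 (m p.2.1 - p.1), Or.inl ⟨_, _, by linear_combination hm2 p.2.1, rfl⟩⟩
  have hbij : Function.Bijective f := by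
    constructor
    · rintro ⟨a, i, j⟩ ⟨a', i', j'⟩ he
      have he' := congrArg Subtype.val he
      cases j <;> cases j'
      · simp only [f, Bool.false_eq_true, if_false] at he'
        obtain ⟨h1, h2⟩ := h.W_inj.mp he'
        subst h1
        have : m i = m i' := by linear_combination h2
        rw [hminj _ _ this]
      · simp only [f, Bool.false_eq_true, if_false, if_true] at he'
        exact absurd he' (h.W_ne_ZW _ _ _ _)
      · simp only [f, Bool.false_eq_true, if_false, if_true] at he'
        exact absurd he'.symm (h.W_ne_ZW _ _ _ _)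
      · simp only [f, if_true] at he'
        obtain ⟨h1, h2⟩ := h.ZW_inj.mp he'
        subst h1
        have : m i = m i' := by linear_combination h2
        rw [hminj _ _ this]
    · rintro ⟨g, (⟨a, b, hab, rfl⟩ | ⟨a, b, hab, rfl⟩)⟩
      · rcases eq_zero_or_eq_Mz_of_two_mul h.n1 hab with h0 | h0
        · refine ⟨(a, false, false), ?_⟩
          apply Subtype.ext
          simp only [f, Bool.false_eq_true, if_false, m]
          rw [h.W_inj]
          exact ⟨rfl, by linear_combination -h0⟩
        · refine ⟨(a, true, false), ?_⟩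
          apply Subtype.ext
          simp only [f, Bool.false_eq_true, if_false, if_true, m]
          rw [h.W_inj]
          exact ⟨rfl, by linear_combination -h0⟩
      · rcases eq_zero_or_eq_Mz_of_two_mul h.n1 hab with h0 | h0
        · refine ⟨(a, false, true), ?_⟩
          apply Subtype.ext
          simp only [f, Bool.false_eq_true, if_false, if_true, m]
          rw [h.ZW_inj]
          exact ⟨rfl, by linear_combination -h0⟩
        · refine ⟨(a, true, true), ?_⟩
          apply Subtype.ext
          simp only [f, if_true, m]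
          rw [h.ZW_inj]
          exact ⟨rfl, by linear_combination -h0⟩
  rw [← Nat.card_congr (Equiv.ofBijective f hbij), Nat.card_prod, Nat.card_prod, Nat.card_zmod,
    Nat.card_eq_fintype_card, Fintype.card_bool]
  ring

theorem Om_sup_zpowers [Finite S] : h.Om ⊔ Subgroup.zpowers x = ⊤ := by
  rw [eq_top_iff]
  intro g _
  have hx : ∀ c : ZMod (2 ^ n), W x y c 0 ∈ Subgroup.zpowers x := by
    intro c
    have : W x y c 0 = P x c := by unfold W; rw [P_zero, mul_one]
    rw [this]
    exact (mem_zpowers_iff_P h.ox).mpr ⟨c, rfl⟩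
  rcases h.cases g with ⟨a, b, rfl⟩ | ⟨a, b, rfl⟩
  · have : W x y a b = W x y (-b) b * W x y (a + b) 0 := by
      rw [← h.W_add, h.W_inj]; constructor <;> ring
    rw [this]
    exact Subgroup.mul_mem_sup (Or.inl ⟨_, _, by ring, rfl⟩) (hx _)
  · have : ZW x y z a b = ZW x y z a (-a) * W x y (a + b) 0 := by
      rw [h.ZW_mul_W, h.ZW_inj]; constructor <;> ring
    rw [this]
    exact Subgroup.mul_mem_sup (Or.inr ⟨_, _, by ring, rfl⟩) (hx _)

end WrData

end Cfsg.Agent.Lib.Helper9.Wr
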